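import Mathlib

/-! Burnside count for actions in which every non-identity element has one or two fixed points. -/

set_option autoImplicit false

namespace Cfsg.Agent.Dk

open MulAction

section

variable {Γ X : Type*} [Group Γ] [MulAction Γ X]

/-- the points with nontrivial stabilizer -/
def Om (Γ X : Type*) [Group Γ] [MulAction Γ X] : Set X := {x | stabilizer Γ x ≠ ⊥}

theorem mem_Om_iff {x : X} : x ∈ Om Γ X ↔ ∃ g : Γ, g ≠ 1 ∧ g • x = x := by
  show stabilizer Γ x ≠ ⊥ ↔ _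
  rw [Ne, Subgroup.eq_bot_iff_forall]
  push Not
  constructor
  · rintro ⟨g, h1, h2⟩; exact ⟨g, h2, mem_stabilizer_iff.1 h1⟩
  · rintro ⟨g, h1, h2⟩; exact ⟨g, mem_stabilizer_iff.2 h2, h1⟩

theorem smul_mem_Om (g : Γ) {x : X} (hx : x ∈ Om Γ X) : g • x ∈ Om Γ X := by
  rw [mem_Om_iff] at hx ⊢
  obtain ⟨h, h1, h2⟩ := hx
  refine ⟨g * h * g⁻¹, ?_, ?_⟩
  · rwa [Ne, conj_eq_one_iff]
  · rw [mul_smul, mul_smul, inv_smul_smul, h2]

theorem Om_finite [Finite Γ] (hfix : ∀ g : Γ, g ≠ 1 → (fixedBy X g).Finite) :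
    (Om Γ X).Finite := by
  have h : Om Γ X = ⋃ g : {g : Γ // g ≠ 1}, fixedBy X g.1 := by
    ext x
    rw [mem_Om_iff, Set.mem_iUnion]
    constructor
    · rintro ⟨g, h1, h2⟩; exact ⟨⟨g, h1⟩, h2⟩
    · rintro ⟨⟨g, h1⟩, h2⟩; exact ⟨g, h1, h2⟩
  rw [h]
  exact Set.finite_iUnion (fun g => hfix g.1 g.2)

/-- the action on the special points -/
@[reducible] def omAct (Γ X : Type*) [Group Γ] [MulAction Γ X] : MulAction Γ (Om Γ X) where
  smul g x := ⟨g • x.1, smul_mem_Om g x.2⟩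
  one_smul x := Subtype.ext (one_smul Γ x.1)
  mul_smul g h x := Subtype.ext (mul_smul g h x.1)

theorem burnside [Finite Γ] (hfix : ∀ g : Γ, g ≠ 1 → (fixedBy X g).Finite ∧
      ((fixedBy X g).ncard = 1 ∨ (fixedBy X g).ncard = 2)) :
    ∃ (r : ℕ) (x : Fin r → X), (∀ i, x i ∈ Om Γ X) ∧
      (∀ y ∈ Om Γ X, ∃ i, y ∈ orbit Γ (x i)) ∧
      (∀ i j, x i ∈ orbit Γ (x j) → i = j) ∧
      2 * Nat.card Γ + ∑ i, Nat.card (orbit Γ (x i)) =
        2 + Nat.card {g : Γ // g ≠ 1 ∧ (fixedBy X g).ncard = 1} + r * Nat.card Γ := by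
  classical
  have := Fintype.ofFinite Γ
  let _ := omAct Γ X
  have hfin : Finite (Om Γ X) := Om_finite (fun g hg => (hfix g hg).1)
  have := Fintype.ofFinite (Om Γ X)
  have hQf : Finite (Quotient (orbitRel Γ (Om Γ X))) := Quotient.finite _
  have := Fintype.ofFinite (Quotient (orbitRel Γ (Om Γ X)))
  have hB := sum_card_fixedBy_eq_card_orbits_mul_card_group Γ (Om Γ X)
  -- number of fixed points
  have hfx : ∀ g : Γ, g ≠ 1 → Fintype.card (fixedBy (Om Γ X) g) = (fixedBy X g).ncard := by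
    intro g hg
    rw [← Nat.card_eq_fintype_card, ← Nat.card_coe_set_eq]
    refine Nat.card_eq_of_bijective
      (f := fun y : fixedBy (Om Γ X) g =>
        (⟨y.1.1, congrArg Subtype.val y.2⟩ : fixedBy X g)) ⟨?_, ?_⟩
    · intro a b hab
      have h1 : a.1.1 = b.1.1 := congrArg (fun z : fixedBy X g => z.1) hab
      exact Subtype.ext (Subtype.ext h1)
    · rintro ⟨y, hy⟩
      exact ⟨⟨⟨y, mem_Om_iff.2 ⟨g, hg, hy⟩⟩, Subtype.ext hy⟩, rfl⟩
  -- enumerate orbits
  set r := Fintype.card (Quotient (orbitRel Γ (Om Γ X))) with hr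
  let e : Fin r ≃ Quotient (orbitRel Γ (Om Γ X)) := (Fintype.equivFin _).symm
  have horb : ∀ a b : Om Γ X, a.1 ∈ orbit Γ b.1 ↔ (Quotient.mk'' a : Quotient (orbitRel Γ (Om Γ X)))
      = Quotient.mk'' b := by
    intro a b
    rw [Quotient.eq'', orbitRel_apply]
    constructor
    · rintro ⟨g, hg⟩; exact ⟨g, Subtype.ext hg⟩
    · rintro ⟨g, hg⟩; exact ⟨g, congrArg Subtype.val hg⟩
  refine ⟨r, fun i => ((e i).out).1, fun i => ((e i).out).2, ?_, ?_, ?_⟩
  · intro y hy
    refine ⟨e.symm (Quotient.mk'' ⟨y, hy⟩), ?_⟩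
    refine (horb ⟨y, hy⟩ _).2 ?_
    rw [Equiv.apply_symm_apply]
    exact (Quotient.out_eq _).symm
  · intro i j hij
    rw [horb] at hij
    have h1 : (Quotient.mk'' (e i).out : Quotient (orbitRel Γ (Om Γ X))) = e i := Quotient.out_eq _
    have h2 : (Quotient.mk'' (e j).out : Quotient (orbitRel Γ (Om Γ X))) = e j := Quotient.out_eq _
    rw [h1, h2] at hij
    exact e.injective hij
  · -- total size
    have hsz : ∑ i, Nat.card (orbit Γ ((e i).out).1) = Nat.card (Om Γ X) := by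
      have h1 : ∀ i, Nat.card (orbit Γ ((e i).out).1) = Nat.card (orbit Γ (e i).out) := by
        intro i
        symm
        refine Nat.card_eq_of_bijective
          (f := fun y : orbit Γ (e i).out => (⟨y.1.1, by
            obtain ⟨g, hg⟩ := y.2
            exact ⟨g, congrArg Subtype.val hg⟩⟩ : orbit Γ ((e i).out).1)) ⟨?_, ?_⟩
        · intro a b hab
          have h1 : a.1.1 = b.1.1 := congrArg (fun z : orbit Γ ((e i).out).1 => z.1) hab
          exact Subtype.ext (Subtype.ext h1)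
        · rintro ⟨y, g, hg⟩
          exact ⟨⟨g • (e i).out, ⟨g, rfl⟩⟩, Subtype.ext hg⟩
      rw [Finset.sum_congr rfl (fun i _ => h1 i), e.sum_comp (fun q : Quotient (orbitRel Γ (Om Γ X)) =>
        Nat.card (orbit Γ q.out))]
      have h2 := Nat.card_congr (selfEquivSigmaOrbits Γ (Om Γ X))
      rw [h2, Nat.card_sigma]
    rw [hsz]
    -- the sum over g
    have h1 : ∑ g : Γ, Fintype.card (fixedBy (Om Γ X) g) =
        Fintype.card (fixedBy (Om Γ X) (1 : Γ)) +
          ∑ g ∈ Finset.univ.erase (1 : Γ), Fintype.card (fixedBy (Om Γ X) g) :=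
      (Finset.add_sum_erase _ _ (Finset.mem_univ _)).symm
    have h2 : Fintype.card (fixedBy (Om Γ X) (1 : Γ)) = Nat.card (Om Γ X) := by
      rw [Nat.card_eq_fintype_card]
      apply Fintype.card_congr
      refine Equiv.subtypeUnivEquiv ?_
      intro x
      exact one_smul _ _
    have h3 : ∑ g ∈ Finset.univ.erase (1 : Γ), Fintype.card (fixedBy (Om Γ X) g)
        + Nat.card {g : Γ // g ≠ 1 ∧ (fixedBy X g).ncard = 1} = 2 * (Nat.card Γ - 1) := by
      have h4 : Nat.card {g : Γ // g ≠ 1 ∧ (fixedBy X g).ncard = 1} =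
          ∑ g ∈ Finset.univ.erase (1 : Γ), if (fixedBy X g).ncard = 1 then 1 else 0 := by
        rw [Finset.sum_boole, Nat.card_eq_fintype_card, Fintype.card_subtype, Nat.cast_id]
        congr 1
        ext g
        simp
      rw [h4, ← Finset.sum_add_distrib, Finset.sum_congr rfl (g := fun _ => 2)]
      · rw [Finset.sum_const, Finset.card_erase_of_mem (Finset.mem_univ _), Finset.card_univ,
          Nat.card_eq_fintype_card, smul_eq_mul, mul_comm]
      · intro g hg
        have hg1 : g ≠ 1 := Finset.ne_of_mem_erase hg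
        rw [hfx g hg1]
        rcases (hfix g hg1).2 with h | h <;> rw [h] <;> rfl
    have h5 : 0 < Nat.card Γ := Nat.card_pos
    rw [h1, h2, ← Nat.card_eq_fintype_card (α := Γ)] at hB
    have h6 : 2 * (Nat.card Γ - 1) + 2 = 2 * Nat.card Γ := by omega
    omega

end

end Cfsg.Agent.Dk
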