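import Mathlib
import Cfsg.Agent.Dk.Count

/-! Abstract finite groups of Moebius transformations. -/

set_option autoImplicit false

namespace Cfsg.Agent.Dk

open MulAction Subgroup

/-- A group acting like a group of fractional linear transformations over a field of
characteristic `p`. -/
structure Mob (p : ℕ) (Γ X K : Type*) [Group Γ] [MulAction Γ X] [Field K] : Prop where
  fix : ∀ g : Γ, g ≠ 1 → ∃ x y : X, fixedBy X g = {x, y}
  chi : ∀ x : X, ∃ χ : stabilizer Γ x →* Kˣ, ∀ g : stabilizer Γ x,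
    χ g = 1 ↔ (g : Γ) = 1 ∨ fixedBy X (g : Γ) = {x}
  uni : ∀ (g : Γ) (x : X), fixedBy X g = {x} → g ^ p = 1
  swap : ∀ (s : Γ) (x y : X), x ≠ y → s • x = y → s • y = x →
    s * s = 1 ∧ ∀ h : Γ, h • x = x → h • y = y → s * h * s⁻¹ = h⁻¹

namespace Mob

theorem comap {p : ℕ} {Γ Δ X K : Type*} [Group Γ] [Group Δ] [MulAction Γ X] [MulAction Δ X]
    [Field K] (M : Mob p Γ X K) (f : Δ →* Γ) (hf : Function.Injective f)
    (hact : ∀ (d : Δ) (x : X), d • x = f d • x) : Mob p Δ X K := by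
  have hfb : ∀ d : Δ, fixedBy X d = fixedBy X (f d) := by
    intro d; ext x; rw [mem_fixedBy, mem_fixedBy, hact]
  have h1 : ∀ d : Δ, f d = 1 ↔ d = 1 := fun d => by rw [← map_one f, hf.eq_iff]
  refine ⟨?_, ?_, ?_, ?_⟩
  · intro d hd
    rw [hfb]
    exact M.fix _ (fun h => hd ((h1 d).1 h))
  · intro x
    obtain ⟨χ, hχ⟩ := M.chi x
    let i : stabilizer Δ x →* stabilizer Γ x :=
      { toFun := fun d => ⟨f d.1, by
          rw [mem_stabilizer_iff, ← hact]; exact d.2⟩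
        map_one' := Subtype.ext (map_one f)
        map_mul' := fun a b => Subtype.ext (map_mul f a.1 b.1) }
    refine ⟨χ.comp i, fun g => ?_⟩
    rw [MonoidHom.comp_apply, hχ, hfb]
    show f g.1 = 1 ∨ fixedBy X (f g.1) = {x} ↔ _
    rw [h1]
  · intro g x hg
    rw [hfb] at hg
    have := M.uni _ _ hg
    rwa [← map_pow, h1] at this
  · intro s x y hxy h2 h3
    rw [hact] at h2 h3
    obtain ⟨h4, h5⟩ := M.swap _ _ _ hxy h2 h3
    refine ⟨?_, ?_⟩
    · rwa [← map_mul, h1] at h4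
    · intro h h6 h7
      rw [hact] at h6 h7
      have := h5 _ h6 h7
      rw [← map_inv, ← map_inv, ← map_mul, ← map_mul] at this
      exact hf this

theorem subgroup {p : ℕ} {Γ X K : Type*} [Group Γ] [MulAction Γ X]
    [Field K] (M : Mob p Γ X K) (H : Subgroup Γ) : Mob p H X K :=
  M.comap H.subtype H.subtype_injective (fun _ _ => rfl)

section

variable {p : ℕ} {Γ X K : Type*} [Group Γ] [MulAction Γ X] [Field K] (M : Mob p Γ X K)
include M

theorem eq_one_of_three {g : Γ} {a b c : X} (hab : a ≠ b) (hac : a ≠ c) (hbc : b ≠ c)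
    (ha : g • a = a) (hb : g • b = b) (hc : g • c = c) : g = 1 := by
  by_contra hg
  obtain ⟨x, y, h⟩ := M.fix g hg
  have h1 : a ∈ fixedBy X g := ha
  have h2 : b ∈ fixedBy X g := hb
  have h3 : c ∈ fixedBy X g := hc
  rw [h] at h1 h2 h3
  rcases h1 with rfl | rfl <;> rcases h2 with rfl | rfl <;> rcases h3 with h3 | h3 <;>
    simp_all

theorem hfix (g : Γ) (hg : g ≠ 1) : (fixedBy X g).Finite ∧
      ((fixedBy X g).ncard = 1 ∨ (fixedBy X g).ncard = 2) := by
  obtain ⟨x, y, h⟩ := M.fix g hg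
  rw [h]
  refine ⟨Set.toFinite _, ?_⟩
  by_cases hxy : x = y
  · left; subst hxy; simp
  · right; exact Set.ncard_pair hxy

theorem exists_fix {g : Γ} (hg : g ≠ 1) : ∃ x : X, g • x = x := by
  obtain ⟨x, y, h⟩ := M.fix g hg
  exact ⟨x, by have : x ∈ fixedBy X g := by rw [h]; simp
               exact this⟩

theorem fix_or {g : Γ} (hg : g ≠ 1) {x : X} (hx : g • x = x) :
    fixedBy X g = {x} ∨ ∃ y, y ≠ x ∧ fixedBy X g = {x, y} := by
  obtain ⟨a, b, h⟩ := M.fix g hg
  have h1 : x ∈ fixedBy X g := hx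
  rw [h] at h1
  rcases h1 with rfl | h1
  · by_cases hb : b = x
    · left; rw [h, hb]; simp
    · right; exact ⟨b, hb, h⟩
  · have h1 : x = b := h1
    subst h1
    by_cases ha : a = x
    · left; rw [h, ha]; simp
    · right; exact ⟨a, ha, by rw [h, Set.pair_comm]⟩

end

section

variable {p : ℕ} {Γ X K : Type*} [Group Γ] [MulAction Γ X] [Field K] (M : Mob p Γ X K)

/-- the unipotent subgroup at `x` -/
noncomputable def U (x : X) : Subgroup Γ := ((M.chi x).choose.ker).map (stabilizer Γ x).subtype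

theorem mem_U {x : X} {g : Γ} : g ∈ M.U x ↔ g = 1 ∨ fixedBy X g = {x} := by
  unfold U
  have hs := (M.chi x).choose_spec
  rw [Subgroup.mem_map]
  constructor
  · rintro ⟨h, h1, rfl⟩
    exact (hs h).1 h1
  · intro h
    have hx : g • x = x := by
      rcases h with rfl | h
      · exact one_smul _ _
      · have : x ∈ fixedBy X g := by rw [h]; rfl
        exact this
    exact ⟨⟨g, hx⟩, (hs ⟨g, hx⟩).2 h, rfl⟩

theorem U_le_stab (x : X) : M.U x ≤ stabilizer Γ x := by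
  intro g hg
  rw [mem_U] at hg
  rcases hg with rfl | h
  · exact one_mem _
  · have : x ∈ fixedBy X g := by rw [h]; rfl
    exact this

theorem smul_of_mem_U {x : X} {g : Γ} (hg : g ∈ M.U x) : g • x = x := M.U_le_stab x hg

theorem eq_of_mem_U {x y : X} {g : Γ} (hg : g ∈ M.U x) (hg1 : g ≠ 1) (hy : g • y = y) : y = x := by
  rw [mem_U] at hg
  rcases hg with rfl | h
  · exact absurd rfl hg1
  · have : y ∈ fixedBy X g := hy
    rw [h] at this
    exact this

theorem pow_of_mem_U {x : X} {g : Γ} (hg : g ∈ M.U x) : g ^ p = 1 := by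
  rw [mem_U] at hg
  rcases hg with rfl | h
  · exact one_pow _
  · exact M.uni _ _ h

theorem isPGroup_U (x : X) : IsPGroup p (M.U x) := by
  rintro ⟨g, hg⟩
  exact ⟨1, Subtype.ext (by rw [pow_one]; exact M.pow_of_mem_U hg)⟩

theorem conj_mem_U {x : X} (g : Γ) {u : Γ} : g * u * g⁻¹ ∈ M.U (g • x) ↔ u ∈ M.U x := by
  rw [mem_U, mem_U, conj_eq_one_iff]
  have h : ∀ y, y ∈ fixedBy X (g * u * g⁻¹) ↔ g⁻¹ • y ∈ fixedBy X u := by
    intro y
    rw [mem_fixedBy, mem_fixedBy, mul_smul, mul_smul]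
    exact smul_eq_iff_eq_inv_smul g
  have h2 : fixedBy X (g * u * g⁻¹) = {g • x} ↔ fixedBy X u = {x} := by
    constructor
    · intro h3
      ext y
      have h4 := h (g • y)
      rw [inv_smul_smul, h3, Set.mem_singleton_iff] at h4
      rw [← h4, Set.mem_singleton_iff]
      exact smul_left_cancel_iff g
    · intro h3
      ext y
      rw [h, h3, Set.mem_singleton_iff, Set.mem_singleton_iff]
      exact inv_smul_eq_iff
  rw [h2]

theorem map_U (g : Γ) (x : X) : (M.U x).map (MulAut.conj g).toMonoidHom = M.U (g • x) := by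
  ext u
  rw [Subgroup.mem_map]
  constructor
  · rintro ⟨v, hv, rfl⟩
    exact (M.conj_mem_U g).2 hv
  · intro hu
    refine ⟨g⁻¹ * u * g, ?_, ?_⟩
    · rw [← M.conj_mem_U g]
      convert hu using 1; group
    · show g * (g⁻¹ * u * g) * g⁻¹ = u
      group

theorem card_U_smul (g : Γ) (x : X) : Nat.card (M.U (g • x)) = Nat.card (M.U x) := by
  rw [← M.map_U g x]
  exact Nat.card_congr ((M.U x).equivMapOfInjective _ (MulAut.conj g).injective).symm.toEquiv

theorem stab_le_normalizer_U (x : X) : stabilizer Γ x ≤ normalizer (M.U x : Set Γ) := by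
  intro g hg
  rw [mem_normalizer_iff]
  intro u
  have := M.conj_mem_U (x := x) g (u := u)
  rw [mem_stabilizer_iff.1 hg] at this
  exact this.symm

variable [hp : Fact p.Prime] [CharP K p]

omit hp [CharP K p] in
theorem chi_spec (x : X) (g : stabilizer Γ x) : (M.chi x).choose g = 1 ↔ (g : Γ) ∈ M.U x := by
  rw [mem_U]
  exact (M.chi x).choose_spec g

theorem unit_pow_eq_one {a : Kˣ} {k : ℕ} (h : a ^ p ^ k = 1) : a = 1 := by
  have : ExpChar K p := ExpChar.prime Fact.out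
  have h1 : (a : K) ^ p ^ k = 1 := by rw [← Units.val_pow_eq_pow_val, h, Units.val_one]
  have h2 : ((a : K) - 1) ^ p ^ k = 0 := by
    rw [sub_pow_expChar_pow, h1, one_pow, sub_self]
  exact Units.ext (sub_eq_zero.1 (pow_eq_zero_iff (pow_ne_zero k hp.out.ne_zero) |>.1 h2))

theorem mem_U_of_pow {x : X} {g : Γ} (hx : g • x = x) {k : ℕ} (h : g ^ p ^ k = 1) :
    g ∈ M.U x := by
  rw [← M.chi_spec x ⟨g, hx⟩]
  refine unit_pow_eq_one (p := p) (k := k) ?_
  rw [← map_pow]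
  have : (⟨g, hx⟩ : stabilizer Γ x) ^ p ^ k = 1 := Subtype.ext h
  rw [this, map_one]

theorem le_U_of_le_stab {x : X} {P : Subgroup Γ} (hP : IsPGroup p P) (h : P ≤ stabilizer Γ x) :
    P ≤ M.U x := by
  intro g hg
  obtain ⟨k, hk⟩ := hP ⟨g, hg⟩
  exact M.mem_U_of_pow (h hg) (k := k) (congrArg Subtype.val hk)

theorem exists_le_U [Finite Γ] {P : Subgroup Γ} (hP : IsPGroup p P) (hP1 : P ≠ ⊥) :
    ∃ x, P ≤ M.U x := by
  have hn : Nontrivial P := (Subgroup.nontrivial_iff_ne_bot P).2 hP1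
  have hc := hP.center_nontrivial
  obtain ⟨z, hz⟩ := exists_ne (1 : center P)
  have hz1 : (z.1.1 : Γ) ≠ 1 := fun h => hz (Subtype.ext (Subtype.ext h))
  obtain ⟨x, hx⟩ := M.exists_fix hz1
  have hzU : z.1.1 ∈ M.U x := by
    obtain ⟨k, hk⟩ := hP z.1
    exact M.mem_U_of_pow hx (k := k) (congrArg Subtype.val hk)
  refine ⟨x, M.le_U_of_le_stab hP ?_⟩
  intro g hg
  rw [mem_stabilizer_iff]
  apply M.eq_of_mem_U hzU hz1
  have h1 := (mem_center_iff.1 z.2) ⟨g, hg⟩
  have h2 : g * z.1.1 = z.1.1 * g := congrArg Subtype.val h1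
  rw [← mul_smul, ← h2, mul_smul, hx]

theorem sylow_eq_U [Finite Γ] {x : X} (hx : M.U x ≠ ⊥) {P : Subgroup Γ} (hP : IsPGroup p P)
    (h : M.U x ≤ P) : P = M.U x := by
  have hP1 : P ≠ ⊥ := by
    rintro rfl
    exact hx (le_bot_iff.1 h)
  obtain ⟨y, hy⟩ := M.exists_le_U hP hP1
  obtain ⟨u, hu⟩ := (M.U x).ne_bot_iff_exists_ne_one.1 hx
  have hu1 : (u : Γ) ≠ 1 := fun h' => hu (Subtype.ext h')
  have h1 : x = y := M.eq_of_mem_U (hy (h u.2)) hu1 (M.smul_of_mem_U u.2)
  subst h1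
  exact le_antisymm hy h

theorem exists_sylow [Finite Γ] {x : X} (hx : M.U x ≠ ⊥) : ∃ P : Sylow p Γ, (P : Subgroup Γ) = M.U x := by
  obtain ⟨P, hP⟩ := (M.isPGroup_U x).exists_le_sylow
  exact ⟨P, M.sylow_eq_U hx P.2 hP⟩

theorem exists_smul_eq [Finite Γ] {x y : X} (hx : M.U x ≠ ⊥) (hy : M.U y ≠ ⊥) : ∃ g : Γ, g • x = y := by
  obtain ⟨P, hP⟩ := M.exists_sylow hx
  obtain ⟨Q, hQ⟩ := M.exists_sylow hy
  obtain ⟨g, hg⟩ := MulAction.exists_smul_eq Γ P Q
  refine ⟨g, ?_⟩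
  obtain ⟨u, hu⟩ := (M.U x).ne_bot_iff_exists_ne_one.1 hx
  have hu1 : (u : Γ) ≠ 1 := fun h' => hu (Subtype.ext h')
  have h1 : g * u * g⁻¹ ∈ M.U (g • x) := (M.conj_mem_U g).2 u.2
  have h2 : g * u * g⁻¹ ∈ M.U y := by
    rw [← hQ, ← hg]
    rw [Sylow.coe_subgroup_smul, Subgroup.mem_pointwise_smul_iff_inv_smul_mem, hP]
    rw [← map_inv, MulAut.smul_def, MulAut.conj_apply]
    convert u.2 using 1
    group
  have h3 : g * (u : Γ) * g⁻¹ ≠ 1 := by rwa [Ne, conj_eq_one_iff]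
  exact M.eq_of_mem_U h2 h3 (M.smul_of_mem_U h1)

theorem U_ne_bot_of_dvd [Finite Γ] (h : p ∣ Nat.card Γ) : ∃ x, M.U x ≠ ⊥ := by
  obtain ⟨g, hg⟩ := exists_prime_orderOf_dvd_card' p h
  have hg1 : g ≠ 1 := by
    rintro rfl
    rw [orderOf_one] at hg
    exact hp.out.one_lt.ne hg
  obtain ⟨x, hx⟩ := M.exists_fix hg1
  refine ⟨x, fun hb => hg1 ?_⟩
  have : g ∈ M.U x := M.mem_U_of_pow hx (k := 1) (by rw [pow_one, ← hg]; exact pow_orderOf_eq_one g)
  rw [hb] at this
  exact this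

omit [CharP K p] in
theorem dvd_of_U_ne_bot [Finite Γ] {x : X} (hx : M.U x ≠ ⊥) : p ∣ Nat.card Γ := by
  obtain ⟨u, hu⟩ := (M.U x).ne_bot_iff_exists_ne_one.1 hx
  have hu1 : (u : Γ) ≠ 1 := fun h' => hu (Subtype.ext h')
  have := orderOf_eq_prime (M.pow_of_mem_U u.2) hu1
  rw [← this]
  exact orderOf_dvd_natCard _

/-- the order of the torus part -/
noncomputable def t (x : X) : ℕ := Nat.card (M.chi x).choose.range

omit hp [CharP K p] in
theorem card_stab (x : X) : Nat.card (stabilizer Γ x) = Nat.card (M.U x) * M.t x := by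
  have h1 : Nat.card (M.U x) = Nat.card ((M.chi x).choose.ker) := by
    unfold U
    exact Nat.card_congr (((M.chi x).choose.ker).equivMapOfInjective _
      (stabilizer Γ x).subtype_injective).symm.toEquiv
  rw [h1, t, ← Subgroup.index_ker, Subgroup.card_mul_index]

omit hp [CharP K p] in
theorem finite_range [Finite Γ] (x : X) : Finite (M.chi x).choose.range :=
  Set.finite_range (M.chi x).choose

theorem not_dvd_t [Finite Γ] (x : X) : ¬ p ∣ M.t x := by
  intro h
  have := M.finite_range x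
  obtain ⟨g, hg⟩ := exists_prime_orderOf_dvd_card' p h
  have h1 : (g : Kˣ) ^ p ^ 1 = 1 := by
    have h0 := pow_orderOf_eq_one g
    rw [hg] at h0
    rw [pow_one]
    exact congrArg Subtype.val h0
  have h2 := unit_pow_eq_one h1
  have h3 : g = 1 := Subtype.ext h2
  rw [h3, orderOf_one] at hg
  exact hp.out.one_lt.ne hg

omit hp [CharP K p] in
theorem stab_cyclic [Finite Γ] {x : X} (hx : M.U x = ⊥) : IsCyclic (stabilizer Γ x) := by
  have hinj : Function.Injective (M.chi x).choose := by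
    rw [injective_iff_map_eq_one]
    intro g hg
    rw [M.chi_spec, hx] at hg
    exact Subtype.ext hg
  exact isCyclic_of_injective_ringHom ((Units.coeHom K).comp (M.chi x).choose)
    (Units.val_injective.comp hinj)

theorem not_dvd_stab [Finite Γ] {x : X} (hx : M.U x = ⊥) : ¬ p ∣ Nat.card (stabilizer Γ x) := by
  rw [M.card_stab, hx, Subgroup.card_bot, one_mul]
  exact M.not_dvd_t x

omit hp [CharP K p] in
theorem mem_U_of_comm {x : X} {u g : Γ} (hu : u ∈ M.U x) (hu1 : u ≠ 1) (hg : g * u = u * g) :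
    g ∈ M.U x := by
  by_cases hg1 : g = 1
  · rw [hg1]; exact one_mem _
  have hgx : g • x = x := by
    apply M.eq_of_mem_U hu hu1
    rw [← mul_smul, ← hg, mul_smul, M.smul_of_mem_U hu]
  rcases M.fix_or hg1 hgx with h | ⟨y, hy, h⟩
  · exact M.mem_U.2 (Or.inr h)
  · exfalso
    have hy1 : y ∈ fixedBy X g := by rw [h]; simp
    have hy2 : u • y ∈ fixedBy X g := by
      rw [mem_fixedBy, ← mul_smul, hg, mul_smul, mem_fixedBy.1 hy1]
    rw [h] at hy2
    rcases hy2 with h3 | h3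
    · have h4 : u • y = u • x := by rw [h3, M.smul_of_mem_U hu]
      exact hy (smul_left_cancel u h4)
    · exact hy (M.eq_of_mem_U hu hu1 h3)

omit hp [CharP K p] in
theorem t_lt [Finite Γ] {x : X} (hx : M.U x ≠ ⊥) : M.t x ≤ Nat.card (M.U x) - 1 := by
  obtain ⟨u, hu⟩ := (M.U x).ne_bot_iff_exists_ne_one.1 hx
  have hu1 : (u : Γ) ≠ 1 := fun h' => hu (Subtype.ext h')
  -- map from range χ to U \ 1
  have hsurj : ∀ c : (M.chi x).choose.range, ∃ g : stabilizer Γ x, (M.chi x).choose g = c.1 :=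
    fun c => c.2
  choose s hs using hsurj
  have hmem : ∀ c, (s c : Γ) * u * (s c : Γ)⁻¹ ∈ M.U x := by
    intro c
    have := (M.conj_mem_U (x := x) (s c : Γ) (u := (u : Γ))).2 u.2
    rwa [show (s c : Γ) • x = x from (s c).2] at this
  let f : (M.chi x).choose.range → {v : M.U x // v ≠ 1} := fun c =>
    ⟨⟨(s c : Γ) * u * (s c : Γ)⁻¹, hmem c⟩, fun h => hu1 (conj_eq_one_iff.1 (congrArg Subtype.val h))⟩
  have hf : Function.Injective f := by
    intro c d hcd
    have h1 : (s c : Γ) * u * (s c : Γ)⁻¹ = (s d : Γ) * u * (s d : Γ)⁻¹ :=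
      congrArg (fun v : {v : M.U x // v ≠ 1} => (v.1 : Γ)) hcd
    have h2 : ((s d : Γ)⁻¹ * (s c : Γ)) * u = u * ((s d : Γ)⁻¹ * (s c : Γ)) := by
      have h3 : (s d : Γ)⁻¹ * ((s c : Γ) * u * (s c : Γ)⁻¹) * (s c : Γ) =
          (s d : Γ)⁻¹ * ((s d : Γ) * u * (s d : Γ)⁻¹) * (s c : Γ) := by rw [h1]
      calc ((s d : Γ)⁻¹ * (s c : Γ)) * u
          = (s d : Γ)⁻¹ * ((s c : Γ) * u * (s c : Γ)⁻¹) * (s c : Γ) := by group
        _ = (s d : Γ)⁻¹ * ((s d : Γ) * u * (s d : Γ)⁻¹) * (s c : Γ) := h3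
        _ = u * ((s d : Γ)⁻¹ * (s c : Γ)) := by group
    have h4 := M.mem_U_of_comm u.2 hu1 h2
    have h5 : (M.chi x).choose ((s d)⁻¹ * s c) = 1 := (M.chi_spec x _).2 h4
    rw [map_mul, map_inv, inv_mul_eq_one, hs, hs] at h5
    exact Subtype.ext h5.symm
  have h1 := Nat.card_le_card_of_injective f hf
  have h2 : Nat.card {v : M.U x // v ≠ 1} = Nat.card (M.U x) - 1 := by
    classical
    have := Fintype.ofFinite (M.U x)
    rw [Nat.card_eq_fintype_card, Nat.card_eq_fintype_card, Fintype.card_subtype_compl,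
      Fintype.card_subtype_eq]
  rw [h2] at h1
  exact h1

end

end Mob

end Cfsg.Agent.Dk
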