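import Mathlib
import Cfsg.Agent.Dk.Mob
import Cfsg.Agent.MaxClass.Pres
import Cfsg.Agent.H81.TwoOrbits

/-! Counting in Moebius groups. -/

set_option autoImplicit false

namespace Cfsg.Agent.Dk

open MulAction Subgroup

section basic

variable {Γ X : Type*} [Group Γ] [MulAction Γ X] [Finite Γ]

theorem card_orbit_mul (x : X) :
    Nat.card (orbit Γ x) * Nat.card (stabilizer Γ x) = Nat.card Γ := by
  rw [← Nat.card_prod]
  exact (Nat.card_congr (orbitProdStabilizerEquivGroup Γ x))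

theorem finite_orbit (x : X) : Finite (orbit Γ x) := by
  have : (orbit Γ x).Finite := Set.finite_range _
  exact this

theorem card_orbit_pos (x : X) : 0 < Nat.card (orbit Γ x) := by
  have := finite_orbit (Γ := Γ) x
  have : Nonempty (orbit Γ x) := ⟨⟨x, mem_orbit_self x⟩⟩
  exact Nat.card_pos

theorem two_le_stab {x : X} (hx : x ∈ Om Γ X) : 2 ≤ Nat.card (stabilizer Γ x) := by
  have h1 : stabilizer Γ x ≠ ⊥ := hx
  have h2 := (Subgroup.one_lt_card_iff_ne_bot (stabilizer Γ x)).2 h1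
  omega

theorem two_mul_orbit_le {x : X} (hx : x ∈ Om Γ X) : 2 * Nat.card (orbit Γ x) ≤ Nat.card Γ := by
  rw [← card_orbit_mul (Γ := Γ) x, mul_comm]
  exact Nat.mul_le_mul_left _ (two_le_stab hx)

theorem stab_eq_top_of_card_orbit {x : X} (hx : Nat.card (orbit Γ x) = 1) (g : Γ) : g • x = x := by
  have h1 := card_orbit_mul (Γ := Γ) x
  rw [hx, one_mul] at h1
  have h2 := Subgroup.eq_top_of_card_eq _ h1
  have h3 : g ∈ stabilizer Γ x := by rw [h2]; exact mem_top g
  exact h3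

omit [Finite Γ] in
/-- a permutation of two points -/
theorem orbit_pair {z : X} (h : Nat.card (orbit Γ z) = 2) :
    ∃ w, w ≠ z ∧ orbit Γ z = {z, w} ∧ ∃ s : Γ, s • z = w ∧ s • w = z := by
  rw [Nat.card_coe_set_eq, Set.ncard_eq_two] at h
  obtain ⟨a, b, hab, h⟩ := h
  obtain ⟨w, hwz, hw⟩ : ∃ w, w ≠ z ∧ orbit Γ z = {z, w} := by
    have hz := mem_orbit_self (M := Γ) z
    rw [h] at hz
    rcases hz with rfl | hz
    · exact ⟨b, hab.symm, h⟩
    · have hz : z = b := hz
      subst hz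
      exact ⟨a, hab, by rw [h, Set.pair_comm]⟩
  refine ⟨w, hwz, hw, ?_⟩
  have h1 : w ∈ orbit Γ z := by rw [hw]; simp
  obtain ⟨s, hs⟩ := h1
  have hs : s • z = w := hs
  refine ⟨s, hs, ?_⟩
  have h2 : s • w ∈ orbit Γ z := by
    rw [← hs, ← mul_smul]; exact mem_orbit z (s * s)
  rw [hw] at h2
  rcases h2 with h3 | h3
  · exact h3
  · exfalso
    have h3 : s • w = w := h3
    have h4 : s • w = s • z := by rw [h3, hs]
    exact hwz (smul_left_cancel s h4)

end basic

namespace Mob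

variable {p : ℕ} {Γ X K : Type*} [Group Γ] [MulAction Γ X] [Field K] (M : Mob p Γ X K)
variable [hp : Fact p.Prime] [CharP K p] [Finite Γ]

theorem card_one_fix {x : X} (hx : M.U x ≠ ⊥) :
    Nat.card {g : Γ // g ≠ 1 ∧ (fixedBy X g).ncard = 1} =
      Nat.card (orbit Γ x) * (Nat.card (M.U x) - 1) := by
  classical
  have := finite_orbit (Γ := Γ) x
  have := Fintype.ofFinite (orbit Γ x)
  have h1 : Nat.card (Σ y : orbit Γ x, {v : M.U (y : X) // v ≠ 1}) =
      Nat.card {g : Γ // g ≠ 1 ∧ (fixedBy X g).ncard = 1} := by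
    refine Nat.card_eq_of_bijective (f := fun s => ⟨(s.2.1 : Γ), ?_, ?_⟩) ⟨?_, ?_⟩
    · exact fun h => s.2.2 (Subtype.ext h)
    · rcases M.mem_U.1 s.2.1.2 with h | h
      · exact absurd (Subtype.ext h) s.2.2
      · rw [h, Set.ncard_singleton]
    · rintro ⟨y, v⟩ ⟨z, w⟩ h
      have h2 : (v.1 : Γ) = (w.1 : Γ) :=
        congrArg (fun g : {g : Γ // g ≠ 1 ∧ (fixedBy X g).ncard = 1} => (g : Γ)) h
      have hyz : y = z := by
        apply Subtype.ext
        refine M.eq_of_mem_U w.1.2 (fun h3 => w.2 (Subtype.ext h3)) ?_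
        rw [← h2]
        exact M.smul_of_mem_U v.1.2
      subst hyz
      have : v = w := Subtype.ext (Subtype.ext h2)
      rw [this]
    · rintro ⟨g, hg1, hg⟩
      obtain ⟨y, hy⟩ := Set.ncard_eq_one.1 hg
      have hgU : g ∈ M.U y := M.mem_U.2 (Or.inr hy)
      have hUy : M.U y ≠ ⊥ := by
        intro h; rw [h] at hgU; exact hg1 hgU
      obtain ⟨k, hk⟩ := M.exists_smul_eq hx hUy
      exact ⟨⟨⟨y, ⟨k, hk⟩⟩, ⟨⟨g, hgU⟩, fun h => hg1 (congrArg Subtype.val h)⟩⟩, rfl⟩
  rw [← h1, Nat.card_sigma, Finset.sum_congr rfl (g := fun _ => Nat.card (M.U x) - 1),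
    Finset.sum_const, Finset.card_univ, Nat.card_eq_fintype_card (α := orbit Γ x), smul_eq_mul]
  rintro ⟨y, g, hg⟩ -
  have h2 : Nat.card {v : M.U (y : X) // v ≠ 1} = Nat.card (M.U (y : X)) - 1 := by
    have := Fintype.ofFinite (M.U (y : X))
    rw [Nat.card_eq_fintype_card, Nat.card_eq_fintype_card, Fintype.card_subtype_compl,
      Fintype.card_subtype_eq]
  show Nat.card {v : M.U (y : X) // v ≠ 1} = _
  rw [h2]
  have hg' : g • x = y := hg
  rw [← hg', M.card_U_smul]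

omit hp [CharP K p] [Finite Γ] in
theorem card_one_fix_zero (h : ∀ x, M.U x = ⊥) :
    Nat.card {g : Γ // g ≠ 1 ∧ (fixedBy X g).ncard = 1} = 0 := by
  rw [Nat.card_eq_zero]
  left
  refine ⟨?_⟩
  rintro ⟨g, hg1, hg⟩
  obtain ⟨y, hy⟩ := Set.ncard_eq_one.1 hg
  have hgU : g ∈ M.U y := M.mem_U.2 (Or.inr hy)
  rw [h y] at hgU
  exact hg1 hgU

omit hp [CharP K p] in
theorem dihedral {z : X} (hU : M.U z = ⊥) (h : Nat.card (orbit Γ z) = 2) :
    Nonempty (Γ ≃* DihedralGroup (Nat.card (stabilizer Γ z))) := by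
  obtain ⟨w, hwz, hw, s, hs1, hs2⟩ := orbit_pair h
  have hcyc := M.stab_cyclic hU
  obtain ⟨a, ha⟩ := hcyc.exists_generator
  obtain ⟨h1, h2⟩ := M.swap s z w hwz.symm hs1 hs2
  have hcard : orderOf (a : Γ) = Nat.card (stabilizer Γ z) := by
    rw [Subgroup.orderOf_coe]
    exact orderOf_eq_card_of_forall_mem_zpowers ha
  have hz : (a : Γ) • z = z := a.2
  have haw : (a : Γ) • w = w := by
    have h3 : (a : Γ) • w ∈ orbit Γ z := by
      rw [← hs1, ← mul_smul]; exact mem_orbit z _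
    rw [hw] at h3
    rcases h3 with h4 | h4
    · exfalso
      have h4 : (a : Γ) • w = z := h4
      have : (a : Γ) • w = (a : Γ) • z := by rw [h4, hz]
      exact hwz (smul_left_cancel _ this)
    · exact h4
  refine MaxClass.nonempty_mulEquiv_dihedral (a := (a : Γ)) (b := s) Nat.card_pos hcard ?_ ?_ ?_ ?_
  · intro h3
    have h4 : s ∈ stabilizer Γ z := by
      have : zpowers (a : Γ) ≤ stabilizer Γ z := by
        rw [zpowers_le]; exact a.2
      exact this h3
    have h5 : s • z = z := h4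
    rw [hs1] at h5
    exact hwz h5
  · rw [sq, h1]
  · exact h2 _ hz haw
  · rw [← card_orbit_mul z, h]

end Mob

end Cfsg.Agent.Dk
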