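import Mathlib
import Cfsg.Agent.Dk.CountU
import Cfsg.Agent.ClassBase.SimpleSmall
import Cfsg.Agent.H17.SelfCent

/-! The exceptional groups `A4`, `S4`, `A5`. -/

set_option autoImplicit false

namespace Cfsg.Agent.Dk

open MulAction Subgroup

section perm

variable {G Y : Type*} [Group G] [MulAction G Y] [Finite G] [Finite Y]

omit [Finite G] in
theorem exists_perm_hom (n : ℕ) (hY : Nat.card Y = n)
    (faith : ∀ g : G, (∀ y : Y, g • y = y) → g = 1) :
    ∃ f : G →* Equiv.Perm (Fin n), Function.Injective f := by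
  let e : Y ≃ Fin n := Finite.equivFinOfCardEq hY
  refine ⟨(e.permCongrHom.toMonoidHom).comp (MulAction.toPermHom G Y), ?_⟩
  rw [MonoidHom.coe_comp]
  refine (e.permCongrHom.injective).comp ?_
  rw [injective_iff_map_eq_one]
  intro g hg
  apply faith
  intro y
  exact congrArg (fun f : Equiv.Perm Y => f y) hg

theorem perm_alt (n : ℕ) (hY : Nat.card Y = n)
    (faith : ∀ g : G, (∀ y : Y, g • y = y) → g = 1) (hG : 2 * Nat.card G = n.factorial) :
    Nonempty (G ≃* alternatingGroup (Fin n)) := by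
  obtain ⟨f, hf⟩ := exists_perm_hom n hY faith
  have h1 : Nat.card f.range = Nat.card G := Nat.card_congr (MonoidHom.ofInjective hf).symm.toEquiv
  have h2 := Subgroup.card_mul_index f.range
  have h3 : Nat.card (Equiv.Perm (Fin n)) = n.factorial := by
    rw [Nat.card_eq_fintype_card, Fintype.card_perm, Fintype.card_fin]
  rw [h3, h1, ← hG, mul_comm] at h2
  have h4 : f.range.index = 2 := Nat.eq_of_mul_eq_mul_right Nat.card_pos h2
  have h5 := Equiv.Perm.eq_alternatingGroup_of_index_eq_two h4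
  exact ⟨(MonoidHom.ofInjective hf).trans (MulEquiv.subgroupCongr h5)⟩

theorem perm_sym (n : ℕ) (hY : Nat.card Y = n)
    (faith : ∀ g : G, (∀ y : Y, g • y = y) → g = 1) (hG : Nat.card G = n.factorial) :
    Nonempty (G ≃* Equiv.Perm (Fin n)) := by
  obtain ⟨f, hf⟩ := exists_perm_hom n hY faith
  have h3 : Nat.card (Equiv.Perm (Fin n)) = n.factorial := by
    rw [Nat.card_eq_fintype_card, Fintype.card_perm, Fintype.card_fin]
  exact ⟨MulEquiv.ofBijective f ((Nat.bijective_iff_injective_and_card f).2 ⟨hf, by rw [h3, hG]⟩)⟩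

end perm

section normal

variable {G : Type*} [Group G] [Finite G]

theorem mem_normal_of_order {ℓ : ℕ} (hℓ : ℓ.Prime) (N : Subgroup G) [N.Normal]
    (h1 : ℓ ∣ Nat.card N) (h2 : ¬ ℓ ^ 2 ∣ Nat.card G) {g : G} (hg : orderOf g = ℓ) : g ∈ N := by
  have h3 : ¬ ℓ ∣ Nat.card (G ⧸ N) := by
    intro h
    apply h2
    rw [← Subgroup.card_mul_index N, Subgroup.index, sq]
    exact Nat.mul_dvd_mul h1 h
  rw [← QuotientGroup.eq_one_iff]
  have h4 : orderOf ((g : G ⧸ N)) ∣ ℓ := by
    rw [← hg]; exact orderOf_map_dvd (QuotientGroup.mk' N) g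
  have h5 : orderOf ((g : G ⧸ N)) ∣ Nat.card (G ⧸ N) := orderOf_dvd_natCard _
  rcases (Nat.dvd_prime hℓ).1 h4 with h | h
  · exact orderOf_eq_one_iff.1 h
  · rw [h] at h5; exact absurd h5 h3

omit [Group G] [Finite G] in
theorem card_or {p q : G → Prop} [Finite G] (h : ∀ g, p g → ¬ q g) :
    Nat.card {g // p g ∨ q g} = Nat.card {g // p g} + Nat.card {g // q g} := by
  classical
  have := Fintype.ofFinite G
  rw [Nat.card_eq_fintype_card, Nat.card_eq_fintype_card, Nat.card_eq_fintype_card]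
  apply Fintype.card_subtype_or_disjoint
  rw [Pi.disjoint_iff]
  intro g
  rw [Prop.disjoint_iff]
  rintro ⟨h7, h8⟩
  exact h g h7 h8

theorem card_le_of_subset {S : G → Prop} (N : Subgroup G) (h : ∀ g, S g → g ∈ N) :
    Nat.card {g // S g} ≤ Nat.card N :=
  Nat.card_le_card_of_injective (fun g => (⟨g.1, h _ g.2⟩ : N))
    (fun a b hab => Subtype.ext (congrArg (fun x : N => (x : G)) hab))

end normal

namespace Mob

variable {p : ℕ} {Γ X K : Type*} [Group Γ] [MulAction Γ X] [Field K] (M : Mob p Γ X K)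
variable [Finite Γ]
include M

theorem orbit_le {c : Γ} (hc : c ≠ 1) {w : X} (hw : c • w = w) :
    Nat.card (orbit Γ w) ≤ 2 * (normalizer (zpowers c : Set Γ)).index := by
  set N := normalizer (zpowers c : Set Γ) with hN
  have h1 : ∀ g : N, (g : Γ) • w ∈ fixedBy X c := by
    intro g
    have h2 : (g : Γ)⁻¹ * c * (g : Γ) ∈ zpowers c := by
      have := (mem_normalizer_iff''.1 g.2 c).1 (mem_zpowers c)
      exact this
    have h3 : ∀ k ∈ zpowers c, k • w = w := by
      have : zpowers c ≤ stabilizer Γ w := by rw [zpowers_le]; exact hw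
      exact fun k hk => this hk
    have h4 := h3 _ h2
    rw [mem_fixedBy]
    calc c • (g : Γ) • w = (g : Γ) • ((g : Γ)⁻¹ * c * (g : Γ)) • w := by
          rw [← mul_smul, ← mul_smul]; congr 1; group
      _ = (g : Γ) • w := by rw [h4]
  obtain ⟨hfin, hcard⟩ := M.hfix c hc
  have h5 : Nat.card (orbit N w) ≤ 2 := by
    have h6 : orbit N w ⊆ fixedBy X c := by
      rintro _ ⟨g, rfl⟩
      exact h1 g
    rw [Nat.card_coe_set_eq]
    have := Set.ncard_le_ncard h6 hfin
    omega
  have h7 := card_orbit_mul (Γ := N) w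
  have h8 : Nat.card (stabilizer N w) ≤ Nat.card (stabilizer Γ w) :=
    Nat.card_le_card_of_injective (fun s => (⟨s.1.1, s.2⟩ : stabilizer Γ w))
      (fun a b hab => Subtype.ext (Subtype.ext (congrArg (fun x : stabilizer Γ w => (x : Γ)) hab)))
  have h9 := card_orbit_mul (Γ := Γ) w
  have h10 := Subgroup.card_mul_index N
  have h11 : 0 < Nat.card (stabilizer Γ w) := Nat.card_pos
  refine Nat.le_of_mul_le_mul_right (c := Nat.card (stabilizer Γ w)) ?_ h11
  rw [h9, ← h10, ← h7]
  calc Nat.card (orbit N w) * Nat.card (stabilizer N w) * N.index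
      ≤ 2 * Nat.card (stabilizer Γ w) * N.index :=
        Nat.mul_le_mul_right _ (Nat.mul_le_mul h5 h8)
    _ = 2 * N.index * Nat.card (stabilizer Γ w) := by ring

theorem orbit_le_sylow {ℓ : ℕ} [Fact ℓ.Prime] (P : Sylow ℓ Γ) (hP : Nat.card P = ℓ) :
    ∃ w : X, Nat.card (orbit Γ w) ≤ 2 * Nat.card (Sylow ℓ Γ) := by
  have hℓ : ℓ.Prime := Fact.out
  obtain ⟨c, hc⟩ := exists_prime_orderOf_dvd_card' (G := P) ℓ (by rw [hP])
  have hc' : orderOf (c : Γ) = ℓ := by rw [Subgroup.orderOf_coe, hc]
  have hc1 : (c : Γ) ≠ 1 := by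
    intro h; rw [h, orderOf_one] at hc'; exact hℓ.one_lt.ne hc'
  have hz : zpowers (c : Γ) = (P : Subgroup Γ) := by
    apply Subgroup.eq_of_le_of_card_ge
    · rw [zpowers_le]; exact c.2
    · rw [Nat.card_zpowers, hc']; exact hP.le
  obtain ⟨w, hw⟩ := M.exists_fix hc1
  refine ⟨w, ?_⟩
  have := M.orbit_le hc1 hw
  rw [hz] at this
  rw [P.card_eq_index_normalizer]
  exact this

theorem orbit_le_normal {N : Subgroup Γ} [N.Normal] (h1 : N ≠ ⊥) (h4 : Nat.card N ≤ 4) :
    ∃ w : X, Nat.card (orbit Γ w) ≤ 6 := by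
  obtain ⟨c, hc⟩ := N.ne_bot_iff_exists_ne_one.1 h1
  have hc1 : (c : Γ) ≠ 1 := fun h' => hc (Subtype.ext h')
  obtain ⟨w, hw⟩ := M.exists_fix hc1
  refine ⟨w, (M.orbit_le hc1 hw).trans ?_⟩
  suffices h : (normalizer (zpowers (c : Γ) : Set Γ)).index ≤ 3 by omega
  have h5 : centralizer ({(c : Γ)} : Set Γ) ≤ normalizer (zpowers (c : Γ) : Set Γ) := by
    intro g hg
    have hg' : g * c = c * g := (mem_centralizer_singleton_iff.1 hg)
    have hgk : ∀ k : ℤ, g * (c : Γ) ^ k * g⁻¹ = (c : Γ) ^ k := by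
      intro k
      rw [← conj_zpow, hg', mul_inv_cancel_right]
    rw [mem_normalizer_iff]
    intro h
    constructor
    · rintro ⟨k, rfl⟩
      exact ⟨k, (hgk k).symm⟩
    · rintro ⟨k, hk⟩
      have hk : (c : Γ) ^ k = g * h * g⁻¹ := hk
      have : h = g⁻¹ * (c : Γ) ^ k * g := by rw [hk]; group
      refine ⟨k, ?_⟩
      show (c : Γ) ^ k = h
      rw [this]
      calc (c : Γ) ^ k = g⁻¹ * (g * (c : Γ) ^ k * g⁻¹) * g := by group
        _ = g⁻¹ * (c : Γ) ^ k * g := by rw [hgk k]
  have h6 : (centralizer ({(c : Γ)} : Set Γ)).index ≤ 3 := by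
    rw [Subgroup.index]
    have h7 : Nat.card {v : N // v ≠ 1} ≤ 3 := by
      classical
      have := Fintype.ofFinite N
      rw [Nat.card_eq_fintype_card, Fintype.card_subtype_compl, Fintype.card_subtype_eq,
        ← Nat.card_eq_fintype_card]
      omega
    refine le_trans (Nat.card_le_card_of_injective (fun q : Γ ⧸ centralizer ({(c : Γ)} : Set Γ) =>
      (⟨⟨q.out * c * q.out⁻¹, Normal.conj_mem inferInstance _ c.2 _⟩,
        fun h => hc1 (conj_eq_one_iff.1 (congrArg Subtype.val h))⟩ : {v : N // v ≠ 1})) ?_) h7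
    intro a b hab
    have hab' : a.out * (c : Γ) * a.out⁻¹ = b.out * c * b.out⁻¹ :=
      congrArg (fun v : {v : N // v ≠ 1} => (v.1 : Γ)) hab
    rw [← QuotientGroup.out_eq' a, ← QuotientGroup.out_eq' b, QuotientGroup.eq,
      mem_centralizer_singleton_iff]
    calc a.out⁻¹ * b.out * (c : Γ) = a.out⁻¹ * (b.out * c * b.out⁻¹) * b.out := by group
      _ = a.out⁻¹ * (a.out * c * a.out⁻¹) * b.out := by rw [hab']
      _ = c * (a.out⁻¹ * b.out) := by group
  exact (Nat.le_of_dvd (Nat.pos_of_ne_zero Subgroup.index_ne_zero_of_finite)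
    (Subgroup.index_dvd_of_le h5)).trans h6

theorem alt4 (hn : Nat.card Γ = 12) {w : X} (hw : Nat.card (orbit Γ w) = 4) :
    Nonempty (Γ ≃* alternatingGroup (Fin 4)) := by
  have := finite_orbit (Γ := Γ) w
  refine perm_alt (Y := orbit Γ w) 4 hw ?_ (by rw [hn]; rfl)
  intro g hg
  have hlt : 2 < (orbit Γ w).ncard := by rw [← Nat.card_coe_set_eq, hw]; norm_num
  obtain ⟨a, b, c, ha, hb, hc, hab, hac, hbc⟩ := (Set.two_lt_ncard_iff).1 hlt
  exact M.eq_one_of_three hab hac hbc (congrArg Subtype.val (hg ⟨a, ha⟩))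
    (congrArg Subtype.val (hg ⟨b, hb⟩)) (congrArg Subtype.val (hg ⟨c, hc⟩))

theorem sym4 (hn : Nat.card Γ = 24) (hw : ∀ w : X, 7 ≤ Nat.card (orbit Γ w) ∨ Nat.card (orbit Γ w) = 6) :
    Nonempty (Γ ≃* Equiv.Perm (Fin 4)) := by
  have : Fact (Nat.Prime 3) := ⟨Nat.prime_three⟩
  obtain ⟨P⟩ : Nonempty (Sylow 3 Γ) := inferInstance
  have hP : Nat.card P = 3 := by
    rw [P.card_eq_multiplicity, hn]
    have : Nat.factorization 24 3 = 1 := by
      rw [show 24 = 3 * 8 by norm_num, Nat.factorization_mul (by norm_num) (by norm_num)]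
      simp [Nat.Prime.factorization_self Nat.prime_three, Nat.factorization_eq_zero_of_not_dvd]
    rw [this, pow_one]
  have hN3 : Nat.card (Sylow 3 Γ) = 4 := by
    have h1 := card_sylow_modEq_one 3 Γ
    have h2 := P.card_dvd_index
    have h3 : (P : Subgroup Γ).index = 8 := by
      have := Subgroup.card_mul_index (P : Subgroup Γ)
      have hP' : Nat.card (P : Subgroup Γ) = 3 := hP
      rw [hP', hn] at this
      omega
    rw [h3] at h2
    have h4 : Nat.card (Sylow 3 Γ) ≤ 8 := Nat.le_of_dvd (by norm_num) h2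
    obtain ⟨w, hw'⟩ := M.orbit_le_sylow P hP
    have h5 := hw w
    have h6 : Nat.card (Sylow 3 Γ) % 3 = 1 := h1
    obtain ⟨k, hk⟩ := h2
    generalize Nat.card (Sylow 3 Γ) = m at *
    interval_cases m <;> omega
  refine perm_sym (Y := Sylow 3 Γ) 4 hN3 ?_ (by rw [hn]; rfl)
  -- the kernel
  set N : Subgroup Γ := (MulAction.toPermHom Γ (Sylow 3 Γ)).ker with hN
  have hNmem : ∀ g, g ∈ N ↔ ∀ Q : Sylow 3 Γ, g • Q = Q := by
    intro g
    rw [hN, MonoidHom.mem_ker]
    constructor
    · intro h Q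
      exact congrArg (fun f : Equiv.Perm (Sylow 3 Γ) => f Q) h
    · intro h
      ext1 Q
      exact h Q
  suffices hbot : N = ⊥ by
    intro g hg
    have := (hNmem g).2 hg
    rw [hbot] at this
    exact this
  by_contra hne
  have hNn : N.Normal := by rw [hN]; infer_instance
  have hle : N ≤ normalizer ((P : Subgroup Γ) : Set Γ) := by
    intro g hg
    exact Sylow.smul_eq_iff_mem_normalizer.1 ((hNmem g).1 hg P)
  have hcn : Nat.card (normalizer ((P : Subgroup Γ) : Set Γ)) = 6 := by
    have h1 := Subgroup.card_mul_index (normalizer ((P : Subgroup Γ) : Set Γ))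
    have h0 := P.card_eq_index_normalizer
    rw [hN3] at h0
    have h0' : (normalizer ((P : Subgroup Γ) : Set Γ)).index = 4 := h0.symm
    rw [h0', hn] at h1
    omega
  have hdvd : Nat.card N ∣ 6 := by rw [← hcn]; exact Subgroup.card_dvd_of_le hle
  have hle6 : Nat.card N ≤ 6 := Nat.le_of_dvd (by norm_num) hdvd
  have h3 : ¬ 3 ∣ Nat.card N := by
    intro h3
    have h4 := card_le_of_subset (S := fun g => orderOf g = 3) N
      (fun g hg => mem_normal_of_order Nat.prime_three N h3 (by rw [hn]; norm_num) hg)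
    rw [H17.card_orderOf_eq_prime P hP, hN3] at h4
    omega
  have h4 : Nat.card N ≤ 4 := by
    have h5 : 0 < Nat.card N := Nat.card_pos
    generalize Nat.card N = m at *
    interval_cases m <;> revert hdvd h3 <;> decide
  -- order two
  have h2 : Nat.card N = 2 := by
    have h5 : 1 < Nat.card N := (Subgroup.one_lt_card_iff_ne_bot N).2 hne
    generalize Nat.card N = m at *
    interval_cases m <;> revert hdvd h3 <;> decide
  obtain ⟨c, hc⟩ := N.ne_bot_iff_exists_ne_one.1 hne
  have hc1 : (c : Γ) ≠ 1 := fun h' => hc (Subtype.ext h')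
  obtain ⟨w, hw'⟩ := M.exists_fix hc1
  have h5 := M.orbit_le hc1 hw'
  have hz : zpowers (c : Γ) = N := by
    apply Subgroup.eq_of_le_of_card_ge
    · rw [zpowers_le]; exact c.2
    · rw [h2]
      have h6 : zpowers (c : Γ) ≠ ⊥ := by
        intro h; exact hc1 (zpowers_eq_bot.1 h)
      exact (Subgroup.one_lt_card_iff_ne_bot _).2 h6
  rw [hz, Subgroup.normalizer_eq_top_iff.2 hNn, Subgroup.index_top] at h5
  have h6 := hw w
  omega

theorem alt5 (hn : Nat.card Γ = 60) (hw : ∀ w : X, 9 ≤ Nat.card (orbit Γ w)) :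
    Nonempty (Γ ≃* alternatingGroup (Fin 5)) := by
  have : Fact (Nat.Prime 3) := ⟨Nat.prime_three⟩
  have : Fact (Nat.Prime 5) := ⟨Nat.prime_five⟩
  obtain ⟨P⟩ : Nonempty (Sylow 3 Γ) := inferInstance
  obtain ⟨Q⟩ : Nonempty (Sylow 5 Γ) := inferInstance
  have hP : Nat.card P = 3 := by
    rw [P.card_eq_multiplicity, hn]
    have : Nat.factorization 60 3 = 1 := by
      rw [show 60 = 3 * 20 by norm_num, Nat.factorization_mul (by norm_num) (by norm_num)]
      simp [Nat.Prime.factorization_self Nat.prime_three, Nat.factorization_eq_zero_of_not_dvd]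
    rw [this, pow_one]
  have hQ : Nat.card Q = 5 := by
    rw [Q.card_eq_multiplicity, hn]
    have : Nat.factorization 60 5 = 1 := by
      rw [show 60 = 5 * 12 by norm_num, Nat.factorization_mul (by norm_num) (by norm_num)]
      simp [Nat.Prime.factorization_self Nat.prime_five, Nat.factorization_eq_zero_of_not_dvd]
    rw [this, pow_one]
  have hN3 : Nat.card (Sylow 3 Γ) = 10 := by
    have h1 := card_sylow_modEq_one 3 Γ
    have h2 := P.card_dvd_index
    have h3 : (P : Subgroup Γ).index = 20 := by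
      have := Subgroup.card_mul_index (P : Subgroup Γ)
      have hP' : Nat.card (P : Subgroup Γ) = 3 := hP
      rw [hP', hn] at this
      omega
    rw [h3] at h2
    have h4 : Nat.card (Sylow 3 Γ) ≤ 20 := Nat.le_of_dvd (by norm_num) h2
    obtain ⟨w, hw'⟩ := M.orbit_le_sylow P hP
    have h5 := hw w
    have h6 : Nat.card (Sylow 3 Γ) % 3 = 1 := h1
    obtain ⟨k, hk⟩ := h2
    generalize Nat.card (Sylow 3 Γ) = m at *
    interval_cases m <;> omega
  have hN5 : Nat.card (Sylow 5 Γ) = 6 := by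
    have h1 := card_sylow_modEq_one 5 Γ
    have h2 := Q.card_dvd_index
    have h3 : (Q : Subgroup Γ).index = 12 := by
      have := Subgroup.card_mul_index (Q : Subgroup Γ)
      have hP' : Nat.card (Q : Subgroup Γ) = 5 := hQ
      rw [hP', hn] at this
      omega
    rw [h3] at h2
    have h4 : Nat.card (Sylow 5 Γ) ≤ 12 := Nat.le_of_dvd (by norm_num) h2
    obtain ⟨w, hw'⟩ := M.orbit_le_sylow Q hQ
    have h5 := hw w
    have h6 : Nat.card (Sylow 5 Γ) % 5 = 1 := h1
    obtain ⟨k, hk⟩ := h2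
    generalize Nat.card (Sylow 5 Γ) = m at *
    interval_cases m <;> omega
  have hs : IsSimpleGroup Γ := by
    have : Nontrivial Γ := by
      rw [← Finite.one_lt_card_iff_nontrivial, hn]; norm_num
    refine ⟨?_⟩
    intro N hN
    by_contra hcon
    push Not at hcon
    obtain ⟨hb, ht⟩ := hcon
    have hdvd : Nat.card N ∣ 60 := by rw [← hn]; exact Subgroup.card_subgroup_dvd_card N
    have h3 : 3 ∣ Nat.card N → 20 ≤ Nat.card N := by
      intro h3
      have h4 := card_le_of_subset (S := fun g => orderOf g = 3) N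
        (fun g hg => mem_normal_of_order Nat.prime_three N h3 (by rw [hn]; norm_num) hg)
      rw [H17.card_orderOf_eq_prime P hP, hN3] at h4
      omega
    have h5 : 5 ∣ Nat.card N → 24 ≤ Nat.card N := by
      intro h3
      have h4 := card_le_of_subset (S := fun g => orderOf g = 5) N
        (fun g hg => mem_normal_of_order Nat.prime_five N h3 (by rw [hn]; norm_num) hg)
      rw [H17.card_orderOf_eq_prime Q hQ, hN5] at h4
      omega
    have h15 : 3 ∣ Nat.card N → 5 ∣ Nat.card N → 44 ≤ Nat.card N := by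
      intro h3 h5
      have h4 := card_le_of_subset (S := fun g => orderOf g = 3 ∨ orderOf g = 5) N
        (by
          rintro g (hg | hg)
          · exact mem_normal_of_order Nat.prime_three N h3 (by rw [hn]; norm_num) hg
          · exact mem_normal_of_order Nat.prime_five N h5 (by rw [hn]; norm_num) hg)
      have h6 : Nat.card {g : Γ // orderOf g = 3 ∨ orderOf g = 5} =
          Nat.card {g : Γ // orderOf g = 3} + Nat.card {g : Γ // orderOf g = 5} := by
        apply card_or
        intro g h7 h8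
        rw [h7] at h8
        norm_num at h8
      rw [h6, H17.card_orderOf_eq_prime P hP, H17.card_orderOf_eq_prime Q hQ, hN3, hN5] at h4
      omega
    have h1 : 1 < Nat.card N := (Subgroup.one_lt_card_iff_ne_bot N).2 hb
    have h60 : Nat.card N ≠ 60 := by
      intro h; exact ht (Subgroup.eq_top_of_card_eq N (by rw [h, hn]))
    have hle : Nat.card N ≤ 60 := Nat.le_of_dvd (by norm_num) hdvd
    have h4 : Nat.card N ≤ 4 := by
      by_contra h7
      have h8 : Nat.card N = 30 ∨ ¬ (Nat.card N ∣ 60) := by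
        generalize Nat.card N = m at *
        interval_cases m <;> revert h3 h5 hdvd h60 h7 <;> decide
      rcases h8 with h8 | h8
      · have := h15 (by rw [h8]; norm_num) (by rw [h8]; norm_num)
        omega
      · exact h8 hdvd
    obtain ⟨w, hw'⟩ := M.orbit_le_normal hb h4
    have := hw w
    omega
  exact ClassBase.simple_sixty hn

end Mob

end Cfsg.Agent.Dk
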