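import Mathlib
import Cfsg.Agent.Dk.Small

/-! Classification of finite Moebius groups (abstract part). -/

set_option autoImplicit false

namespace Cfsg.Agent.Dk

open MulAction Subgroup

namespace Mob

variable {p : ℕ} {Γ X K : Type*} [Group Γ] [MulAction Γ X] [Field K]

/-- the list of possibilities for a finite Moebius group -/
def Concl (M : Mob p Γ X K) : Prop :=
  (∃ z : X, ∀ g : Γ, g • z = z) ∨
  (∃ z : X, M.U z = ⊥ ∧ Nat.card (orbit Γ z) = 2) ∨
  (¬ p ∣ 12 ∧ Nat.card Γ = 12 ∧ Nonempty (Γ ≃* alternatingGroup (Fin 4))) ∨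
  (¬ p ∣ 24 ∧ Nat.card Γ = 24 ∧ Nonempty (Γ ≃* Equiv.Perm (Fin 4))) ∨
  ((¬ p ∣ 60 ∨ p = 3) ∧ Nat.card Γ = 60 ∧ Nonempty (Γ ≃* alternatingGroup (Fin 5))) ∨
  (∃ z : X, 3 ≤ Nat.card (M.U z) ∧ Nat.card (orbit Γ z) = Nat.card (M.U z) + 1)

theorem three_case [Finite Γ] (M : Mob p Γ X K) (hU : ∀ x, M.U x = ⊥)
    (hp : ¬ p ∣ Nat.card Γ) (x y z : X)
    (hx : x ∈ Om Γ X) (hy : y ∈ Om Γ X) (hz : z ∈ Om Γ X)
    (hcov : ∀ w ∈ Om Γ X, w ∈ orbit Γ x ∨ w ∈ orbit Γ y ∨ w ∈ orbit Γ z)
    (hsum : Nat.card (orbit Γ x) + Nat.card (orbit Γ y) + Nat.card (orbit Γ z) = Nat.card Γ + 2)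
    (h1 : Nat.card (stabilizer Γ x) ≤ Nat.card (stabilizer Γ y))
    (h2 : Nat.card (stabilizer Γ y) ≤ Nat.card (stabilizer Γ z)) : M.Concl := by
  have ex := card_orbit_mul (Γ := Γ) x
  have ey := card_orbit_mul (Γ := Γ) y
  have ez := card_orbit_mul (Γ := Γ) z
  have px := card_orbit_pos (Γ := Γ) x
  have py := card_orbit_pos (Γ := Γ) y
  have pz := card_orbit_pos (Γ := Γ) z
  have tx := two_le_stab hx
  -- orbits of all points
  have hall : ∀ w : X, Nat.card (orbit Γ w) = Nat.card Γ ∨
      Nat.card (orbit Γ w) = Nat.card (orbit Γ x) ∨ Nat.card (orbit Γ w) = Nat.card (orbit Γ y) ∨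
      Nat.card (orbit Γ w) = Nat.card (orbit Γ z) := by
    intro w
    by_cases hw : w ∈ Om Γ X
    · right
      rcases hcov w hw with h | h | h
      · left; rw [MulAction.orbit_eq_iff.2 h]
      · right; left; rw [MulAction.orbit_eq_iff.2 h]
      · right; right; rw [MulAction.orbit_eq_iff.2 h]
    · left
      have h3 : stabilizer Γ w = ⊥ := by
        by_contra h; exact hw h
      have h4 := card_orbit_mul (Γ := Γ) w
      rw [h3, Subgroup.card_bot, mul_one] at h4
      exact h4
  set n := Nat.card Γ with hn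
  have hUz := hU z
  have nx3 : Nat.card (stabilizer Γ x) < 3 := by
    by_contra hc
    push Not at hc
    have a1 : Nat.card (orbit Γ x) * 3 ≤ n := by
      rw [← ex]; exact Nat.mul_le_mul_left _ hc
    have a2 : Nat.card (orbit Γ y) * 3 ≤ n := by
      rw [← ey]; exact Nat.mul_le_mul_left _ (hc.trans h1)
    have a3 : Nat.card (orbit Γ z) * 3 ≤ n := by
      rw [← ez]; exact Nat.mul_le_mul_left _ (hc.trans (h1.trans h2))
    omega
  have nx : Nat.card (stabilizer Γ x) = 2 := by omega
  have ny4 : Nat.card (stabilizer Γ y) < 4 := by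
    by_contra hc
    push Not at hc
    rw [nx] at ex
    have a2 : Nat.card (orbit Γ y) * 4 ≤ n := by
      rw [← ey]; exact Nat.mul_le_mul_left _ hc
    have a3 : Nat.card (orbit Γ z) * 4 ≤ n := by
      rw [← ez]; exact Nat.mul_le_mul_left _ (hc.trans h2)
    omega
  rw [nx] at ex h1
  have ny : Nat.card (stabilizer Γ y) = 2 ∨ Nat.card (stabilizer Γ y) = 3 := by omega
  rcases ny with ny | ny
  · rw [ny] at ey
    right; left
    exact ⟨z, hUz, by omega⟩
  · rw [ny] at ey
    have nz6 : Nat.card (stabilizer Γ z) < 6 := by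
      by_contra hc
      push Not at hc
      have a3 : Nat.card (orbit Γ z) * 6 ≤ n := by
        rw [← ez]; exact Nat.mul_le_mul_left _ hc
      omega
    rw [ny] at h2
    have nz : Nat.card (stabilizer Γ z) = 3 ∨ Nat.card (stabilizer Γ z) = 4 ∨
      Nat.card (stabilizer Γ z) = 5 := by omega
    rcases nz with nz | nz | nz
    · rw [nz] at ez
      have hn12 : n = 12 := by omega
      right; right; left
      refine ⟨by rw [← hn12]; exact hp, hn12, M.alt4 hn12 (w := z) (by omega)⟩
    · rw [nz] at ez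
      have hn12 : n = 24 := by omega
      right; right; right; left
      refine ⟨by rw [← hn12]; exact hp, hn12, M.sym4 hn12 ?_⟩
      intro w
      have := hall w
      omega
    · rw [nz] at ez
      have hn12 : n = 60 := by omega
      right; right; right; right; left
      refine ⟨Or.inl (by rw [← hn12]; exact hp), hn12, M.alt5 hn12 ?_⟩
      intro w
      have := hall w
      omega

theorem orbit_mod [Finite Γ] (M : Mob p Γ X K) (z : X) :
    ∃ k, Nat.card (orbit Γ z) = 1 + k * Nat.card (M.U z) := by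
  classical
  have := finite_orbit (Γ := Γ) z
  have := Fintype.ofFinite (orbit Γ z)
  have := Fintype.ofFinite (M.U z)
  have := Fintype.ofFinite (Quotient (orbitRel (M.U z) (orbit Γ z)))
  have hB := sum_card_fixedBy_eq_card_orbits_mul_card_group (M.U z) (orbit Γ z)
  have h1 : ∑ g : M.U z, Fintype.card (fixedBy (orbit Γ z) g) =
      Nat.card (orbit Γ z) + (Nat.card (M.U z) - 1) := by
    rw [← Finset.add_sum_erase _ _ (Finset.mem_univ (1 : M.U z))]
    congr 1
    · rw [Nat.card_eq_fintype_card]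
      apply Fintype.card_congr
      refine Equiv.subtypeUnivEquiv ?_
      intro x
      exact one_smul _ _
    · rw [Finset.sum_congr rfl (g := fun _ => 1), Finset.sum_const,
        Finset.card_erase_of_mem (Finset.mem_univ _), Finset.card_univ, Nat.card_eq_fintype_card,
        smul_eq_mul, mul_one]
      intro g hg
      have hg1 : (g : Γ) ≠ 1 := fun h => Finset.ne_of_mem_erase hg (Subtype.ext h)
      rw [Fintype.card_eq_one_iff]
      refine ⟨⟨⟨z, mem_orbit_self z⟩, Subtype.ext (M.smul_of_mem_U g.2)⟩, ?_⟩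
      rintro ⟨⟨y, hy⟩, hyg⟩
      apply Subtype.ext
      apply Subtype.ext
      have h2 : (g : Γ) • y = y := congrArg Subtype.val hyg
      exact M.eq_of_mem_U g.2 hg1 h2
  rw [h1, ← Nat.card_eq_fintype_card (α := M.U z)] at hB
  set m := Fintype.card (Quotient (orbitRel (M.U z) (orbit Γ z))) with hm
  have hpos : 0 < Nat.card (M.U z) := Nat.card_pos
  have hNpos := card_orbit_pos (Γ := Γ) z
  have hm1 : 1 ≤ m := by
    rcases Nat.eq_zero_or_pos m with h | h
    · rw [h] at hB; omega
    · exact h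
  refine ⟨m - 1, ?_⟩
  obtain ⟨m', hm'⟩ : ∃ m', m = m' + 1 := ⟨m - 1, by omega⟩
  rw [hm'] at hB ⊢
  have e : (m' + 1) * Nat.card (M.U z) = m' * Nat.card (M.U z) + Nat.card (M.U z) := by ring
  rw [e] at hB
  have e2 : m' + 1 - 1 = m' := by omega
  rw [e2]
  omega

theorem mem_Om_of_U {M : Mob p Γ X K} {z : X} (hz : M.U z ≠ ⊥) : z ∈ Om Γ X := by
  rw [mem_Om_iff]
  obtain ⟨u, hu⟩ := (M.U z).ne_bot_iff_exists_ne_one.1 hz
  exact ⟨u, fun h' => hu (Subtype.ext h'), M.smul_of_mem_U u.2⟩

theorem card_eq_orbit [Finite Γ] (M : Mob p Γ X K) (z : X) :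
    Nat.card (orbit Γ z) * (Nat.card (M.U z) * M.t z) = Nat.card Γ := by
  have h := card_orbit_mul (Γ := Γ) z
  rwa [M.card_stab] at h

/-- The modular case: there are one or two orbits of special points. -/
theorem modular [Fact p.Prime] [CharP K p] [Finite Γ] (M : Mob p Γ X K) {z : X} (hz : M.U z ≠ ⊥) :
    Nat.card (orbit Γ z) = 1 ∨ ∃ x, x ∈ Om Γ X ∧ M.U x = ⊥ ∧
      (∀ y ∈ Om Γ X, y ∈ orbit Γ z ∨ y ∈ orbit Γ x) ∧
      Nat.card (orbit Γ x) = 2 + Nat.card (orbit Γ z) * (Nat.card (M.U z) - 2) := by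
  classical
  obtain ⟨r, x, hx, hcov, hinj, hcount⟩ := burnside (Γ := Γ) (X := X) M.hfix
  have hle : ∀ i, 2 * Nat.card (orbit Γ (x i)) ≤ Nat.card Γ := fun i => two_mul_orbit_le (hx i)
  rw [M.card_one_fix hz] at hcount
  have hN := card_orbit_mul (Γ := Γ) z
  rw [M.card_stab] at hN
  have hNpos := card_orbit_pos (Γ := Γ) z
  have hq0 : 2 ≤ Nat.card (M.U z) := by
    have := (Subgroup.one_lt_card_iff_ne_bot (M.U z)).2 hz
    omega
  have ht1 : 1 ≤ M.t z := by
    have := M.finite_range z
    exact Nat.card_pos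
  have htq := M.t_lt hz
  -- z lies in one of the orbits
  have hzOm : z ∈ Om Γ X := mem_Om_of_U hz
  obtain ⟨i0, hi0⟩ := hcov z hzOm
  have horb0 : Nat.card (orbit Γ (x i0)) = Nat.card (orbit Γ z) := by
    rw [MulAction.orbit_eq_iff.2 hi0]
  have hUi : ∀ i, i ≠ i0 → M.U (x i) = ⊥ := by
    intro i hi
    by_contra hne
    obtain ⟨g, hg⟩ := M.exists_smul_eq hz hne
    apply hi
    apply hinj
    rw [← hg]
    rw [← MulAction.orbit_eq_iff.2 hi0]
    exact mem_orbit z g
  rw [← Finset.add_sum_erase _ _ (Finset.mem_univ i0), horb0] at hcount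
  set N := Nat.card (orbit Γ z) with hNdef
  set q0 := Nat.card (M.U z) with hq0def
  set t := M.t z with htdef
  set n := Nat.card Γ with hndef
  have hsum : 2 * ∑ i ∈ Finset.univ.erase i0, Nat.card (orbit Γ (x i)) ≤ (r - 1) * n := by
    rw [Finset.mul_sum]
    have h1 := Finset.sum_le_card_nsmul (Finset.univ.erase i0)
      (fun i => 2 * Nat.card (orbit Γ (x i))) n (fun i _ => hle i)
    rw [Finset.card_erase_of_mem (Finset.mem_univ _), Finset.card_univ, Fintype.card_fin,
      smul_eq_mul] at h1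
    exact h1
  have hr1 : 1 ≤ r := by
    have := i0.2; omega
  set S := ∑ i ∈ Finset.univ.erase i0, Nat.card (orbit Γ (x i)) with hS
  -- 2n + (N + S) = 2 + N (q0 - 1) + r n
  obtain ⟨a, ha⟩ : ∃ a, q0 = a + 2 := ⟨q0 - 2, by omega⟩
  have ha' : q0 - 2 = a := by omega
  rw [ha] at hcount hN htq
  have e1 : a + 2 - 1 = a + 1 := by omega
  rw [e1] at hcount htq
  have hr3 : r < 3 := by
    by_contra hc
    push Not at hc
    obtain ⟨s, hs⟩ : ∃ s, r = s + 3 := ⟨r - 3, by omega⟩
    rw [hs] at hcount hsum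
    have e2 : s + 3 - 1 = s + 2 := by omega
    rw [e2] at hsum
    -- 2 S ≤ (s+2) n ; 2n + N + S = 2 + N (a+1) + (s+3) n
    have e3 : S = 2 + N * a + (s + 1) * n := by
      have : 2 * n + (N + S) = 2 * n + (N + (2 + N * a + (s + 1) * n)) := by
        rw [hcount]; ring
      omega
    rw [e3] at hsum
    have e4 : 2 * (2 + N * a + (s + 1) * n) = 4 + 2 * (N * a) + s * n + (s + 2) * n := by ring
    omega
  have hr : r = 1 ∨ r = 2 := by omega
  rcases hr with rfl | rfl
  · -- one orbit
    have hS0 : S = 0 := by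
      have : (1 - 1) * n = 0 := by simp
      omega
    rw [hS0] at hcount
    have e3 : n = 2 + N * a := by
      have : 2 * n + (N + 0) = n + (N + (2 + N * a)) := by
        rw [hcount]; ring
      omega
    left
    rw [← hN] at e3
    have e5 : N * ((a + 2) * t) = N * a * t + 2 * (N * t) := by ring
    have e6 : N * a ≤ N * a * t := Nat.le_mul_of_pos_right _ (by omega)
    have e7 : N ≤ N * t := Nat.le_mul_of_pos_right _ (by omega)
    omega
  · -- two orbits
    obtain ⟨j, hj⟩ : ∃ j : Fin 2, j ≠ i0 := exists_ne i0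
    have hSj : S = Nat.card (orbit Γ (x j)) := by
      rw [hS]
      have : Finset.univ.erase i0 = {j} := by
        ext k
        simp only [Finset.mem_erase, Finset.mem_univ, and_true, Finset.mem_singleton]
        omega
      rw [this, Finset.sum_singleton]
    have e3 : S = 2 + N * a := by
      have : 2 * n + (N + S) = 2 * n + (N + (2 + N * a)) := by
        rw [hcount]; ring
      omega
    right
    refine ⟨x j, hx j, hUi j hj, ?_, by rw [← hSj, e3, ha']⟩
    intro y hy
    obtain ⟨i, hi⟩ := hcov y hy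
    by_cases h3 : i = i0
    · left
      rw [MulAction.orbit_eq_iff.2 hi0, ← h3]
      exact hi
    · right
      have : i = j := by omega
      rw [← this]; exact hi

theorem cases [Fact p.Prime] [CharP K p] [Finite Γ] [Nontrivial Γ] (M : Mob p Γ X K) : M.Concl := by
  classical
  have hn2 : 2 ≤ Nat.card Γ := Finite.one_lt_card
  by_cases hpn : p ∣ Nat.card Γ
  · -- modular case
    obtain ⟨z, hz⟩ := M.U_ne_bot_of_dvd hpn
    have hN := M.card_eq_orbit z
    have hNpos := card_orbit_pos (Γ := Γ) z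
    have hq0 : 2 ≤ Nat.card (M.U z) := by
      have := (Subgroup.one_lt_card_iff_ne_bot (M.U z)).2 hz
      omega
    have ht1 : 1 ≤ M.t z := by
      have := M.finite_range z
      exact Nat.card_pos
    have htq := M.t_lt hz
    rcases M.modular hz with h1 | ⟨x, hxOm, hUx, hcov, hcx⟩
    · left; exact ⟨z, stab_eq_top_of_card_orbit h1⟩
    obtain ⟨k, hk⟩ := M.orbit_mod z
    by_cases hN1 : Nat.card (orbit Γ z) = 1
    · left; exact ⟨z, stab_eq_top_of_card_orbit hN1⟩
    set N := Nat.card (orbit Γ z) with hNdef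
    set q0 := Nat.card (M.U z) with hq0def
    set t := M.t z with htdef
    have hk1 : 1 ≤ k := by
      rcases Nat.eq_zero_or_pos k with h | h
      · exfalso; apply hN1; rw [hk, h]; simp
      · exact h
    by_cases hq2 : q0 = 2
    · rw [hq2] at hcx
      right; left
      exact ⟨x, hUx, by rw [hcx]; simp⟩
    · have hq3 : 3 ≤ q0 := by omega
      have ej := card_orbit_mul (Γ := Γ) x
      rw [hcx, ← hN] at ej
      have hnt := H81.nt_dickson q0 t (Nat.card (stabilizer Γ x)) k hq3 ht1
        htq hk1 (by rw [← hk, mul_comm, ej]; ring)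
      rcases hnt with h | ⟨h1, h2⟩
      · right; right; right; right; right
        refine ⟨z, hq3, ?_⟩
        rw [← hNdef, hk, h]; ring
      · -- q0 = 3, N = 10
        have hN10 : N = 10 := by rw [hk, h1, h2]
        rw [h1, hN10] at hN ej hcx
        have hp3 : p = 3 := by
          obtain ⟨m, hm⟩ := IsPGroup.iff_card.1 (M.isPGroup_U z)
          rw [← hq0def, h1] at hm
          have hd : p ∣ 3 := by
            rw [hm]
            apply dvd_pow_self
            rintro rfl
            norm_num at hm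
          exact (Nat.prime_dvd_prime_iff_eq Fact.out Nat.prime_three).1 hd
        have ht2 : t ≤ 2 := by omega
        have hn60 : Nat.card Γ = 60 := by
          rcases (show t = 1 ∨ t = 2 by omega) with h | h
          · rw [h] at hN ej
            omega
          · rw [h] at hN; omega
        right; right; right; right; left
        refine ⟨Or.inr hp3, hn60, M.alt5 hn60 ?_⟩
        intro w
        by_cases hw : w ∈ Om Γ X
        · rcases hcov w hw with hi | hi
          · rw [MulAction.orbit_eq_iff.2 hi, ← hNdef]; omega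
          · rw [MulAction.orbit_eq_iff.2 hi]; omega
        · have h3 : stabilizer Γ w = ⊥ := by
            by_contra h; exact hw h
          have h4 := card_orbit_mul (Γ := Γ) w
          rw [h3, Subgroup.card_bot, mul_one] at h4
          omega
  · -- nonmodular case
    obtain ⟨r, x, hx, hcov, -, hcount⟩ := burnside (Γ := Γ) (X := X) M.hfix
    have hle : ∀ i, 2 * Nat.card (orbit Γ (x i)) ≤ Nat.card Γ := fun i => two_mul_orbit_le (hx i)
    have hpos : ∀ i, 0 < Nat.card (orbit Γ (x i)) := fun i => card_orbit_pos (x i)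
    have hU : ∀ x, M.U x = ⊥ := by
      intro x
      by_contra h
      exact hpn (M.dvd_of_U_ne_bot h)
    rw [M.card_one_fix_zero hU, add_zero] at hcount
    set n := Nat.card Γ with hndef
    have hsum : 2 * ∑ i, Nat.card (orbit Γ (x i)) ≤ r * n := by
      rw [Finset.mul_sum]
      have h1 := Finset.sum_le_card_nsmul Finset.univ
        (fun i => 2 * Nat.card (orbit Γ (x i))) n (fun i _ => hle i)
      rw [Finset.card_univ, Fintype.card_fin, smul_eq_mul] at h1
      exact h1
    have hkey : ∀ S : ℕ, 2 * n + S = 2 + r * n → 2 * S ≤ r * n → r < 4 := by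
      intro S hS1 hS2
      by_contra hc
      push Not at hc
      obtain ⟨s, hs⟩ : ∃ s, r = s + 4 := ⟨r - 4, by omega⟩
      have e4 : r * n = s * n + 4 * n := by rw [hs]; ring
      rw [e4] at hS1 hS2
      have : 0 ≤ s * n := Nat.zero_le _
      omega
    have hr4 : r < 4 := hkey _ hcount hsum
    have hr : r = 0 ∨ r = 1 ∨ r = 2 ∨ r = 3 := by omega
    rcases hr with rfl | rfl | rfl | rfl
    · exfalso
      rw [Finset.univ_eq_empty, Finset.sum_empty] at hcount
      omega
    · exfalso
      rw [Fin.sum_univ_one] at hcount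
      have := hpos 0
      omega
    · rw [Fin.sum_univ_two] at hcount
      have h0 := hpos 0
      have h1 := hpos 1
      left
      exact ⟨x 0, stab_eq_top_of_card_orbit (by omega)⟩
    · rw [Fin.sum_univ_three] at hcount
      have hcov' : ∀ w ∈ Om Γ X, w ∈ orbit Γ (x 0) ∨ w ∈ orbit Γ (x 1) ∨ w ∈ orbit Γ (x 2) := by
        intro w hw
        obtain ⟨i, hi⟩ := hcov w hw
        fin_cases i
        · exact Or.inl hi
        · exact Or.inr (Or.inl hi)
        · exact Or.inr (Or.inr hi)
      rcases le_total (Nat.card (stabilizer Γ (x 0))) (Nat.card (stabilizer Γ (x 1))) with h1 | h1 <;>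
      rcases le_total (Nat.card (stabilizer Γ (x 0))) (Nat.card (stabilizer Γ (x 2))) with h2 | h2 <;>
      rcases le_total (Nat.card (stabilizer Γ (x 1))) (Nat.card (stabilizer Γ (x 2))) with h3 | h3
      · exact M.three_case hU hpn (x 0) (x 1) (x 2) (hx _) (hx _) (hx _) (fun w hw => by
          have := hcov' w hw; tauto) (by omega) h1 h3
      · exact M.three_case hU hpn (x 0) (x 2) (x 1) (hx _) (hx _) (hx _) (fun w hw => by
          have := hcov' w hw; tauto) (by omega) h2 h3
      · exact M.three_case hU hpn (x 0) (x 1) (x 2) (hx _) (hx _) (hx _) (fun w hw => by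
          have := hcov' w hw; tauto) (by omega) h1 h3
      · exact M.three_case hU hpn (x 2) (x 0) (x 1) (hx _) (hx _) (hx _) (fun w hw => by
          have := hcov' w hw; tauto) (by omega) h2 h1
      · exact M.three_case hU hpn (x 1) (x 0) (x 2) (hx _) (hx _) (hx _) (fun w hw => by
          have := hcov' w hw; tauto) (by omega) h1 h2
      · exact M.three_case hU hpn (x 2) (x 1) (x 0) (hx _) (hx _) (hx _) (fun w hw => by
          have := hcov' w hw; tauto) (by omega) h3 h1
      · exact M.three_case hU hpn (x 1) (x 2) (x 0) (hx _) (hx _) (hx _) (fun w hw => by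
          have := hcov' w hw; tauto) (by omega) h3 h2
      · exact M.three_case hU hpn (x 2) (x 1) (x 0) (hx _) (hx _) (hx _) (fun w hw => by
          have := hcov' w hw; tauto) (by omega) h3 h1

end Mob

end Cfsg.Agent.Dk
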