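import Mathlib
import Cfsg.Agent.Dk.Cases

/-! Moebius groups which are two-transitive on their unipotent points. -/

set_option autoImplicit false

namespace Cfsg.Agent.Dk

open MulAction Subgroup

section dsub

variable {Γ X : Type*} [Group Γ] [MulAction Γ X]

/-- the setwise stabilizer of two points -/
def DS (Γ : Type*) {X : Type*} [Group Γ] [MulAction Γ X] (x y : X) : Subgroup Γ where
  carrier := {g | (g • x = x ∧ g • y = y) ∨ (g • x = y ∧ g • y = x)}
  one_mem' := Or.inl ⟨one_smul _ _, one_smul _ _⟩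
  mul_mem' := by
    rintro a b (⟨h1, h2⟩ | ⟨h1, h2⟩) (⟨h3, h4⟩ | ⟨h3, h4⟩)
    · left; exact ⟨by rw [mul_smul, h3, h1], by rw [mul_smul, h4, h2]⟩
    · right; exact ⟨by rw [mul_smul, h3, h2], by rw [mul_smul, h4, h1]⟩
    · right; exact ⟨by rw [mul_smul, h3, h1], by rw [mul_smul, h4, h2]⟩
    · left; exact ⟨by rw [mul_smul, h3, h2], by rw [mul_smul, h4, h1]⟩
  inv_mem' := by
    rintro a (⟨h1, h2⟩ | ⟨h1, h2⟩)
    · left; exact ⟨inv_smul_eq_iff.2 h1.symm, inv_smul_eq_iff.2 h2.symm⟩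
    · right; exact ⟨inv_smul_eq_iff.2 h2.symm, inv_smul_eq_iff.2 h1.symm⟩

theorem mem_DS {x y : X} {g : Γ} : g ∈ DS Γ x y ↔
    (g • x = x ∧ g • y = y) ∨ (g • x = y ∧ g • y = x) := Iff.rfl

/-- the pointwise stabilizer of two points -/
def TS (Γ : Type*) {X : Type*} [Group Γ] [MulAction Γ X] (x y : X) : Subgroup Γ :=
  stabilizer Γ x ⊓ stabilizer Γ y

theorem mem_TS {x y : X} {g : Γ} : g ∈ TS Γ x y ↔ g • x = x ∧ g • y = y := Iff.rfl

theorem TS_le_DS (x y : X) : TS Γ x y ≤ DS Γ x y := fun _ hg => Or.inl hg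

/-- conjugation of stabilizers -/
theorem card_stab_smul (g : Γ) (x : X) :
    Nat.card (stabilizer Γ (g • x)) = Nat.card (stabilizer Γ x) :=
  Nat.card_congr (stabilizerEquivStabilizer (g := g) rfl).symm.toEquiv

theorem card_stab_of_mem {x y : X} (h : y ∈ orbit Γ x) :
    Nat.card (stabilizer Γ y) = Nat.card (stabilizer Γ x) := by
  obtain ⟨g, rfl⟩ := h
  exact card_stab_smul g x

end dsub

namespace Mob

variable {p : ℕ} {Γ X K : Type*} [Group Γ] [MulAction Γ X] [Field K] (M : Mob p Γ X K)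

theorem mem_U_subgroup {H : Subgroup Γ} {z : X} {h : H} :
    h ∈ (M.subgroup H).U z ↔ (h : Γ) ∈ M.U z := by
  rw [mem_U, mem_U]
  have h1 : fixedBy X h = fixedBy X (h : Γ) := rfl
  rw [h1]
  constructor
  · rintro (h | h)
    · left; rw [h]; rfl
    · exact Or.inr h
  · rintro (h | h)
    · left; exact Subtype.ext h
    · exact Or.inr h

theorem U_mono_bot {H : Subgroup Γ} {z : X} (h : M.U z = ⊥) : (M.subgroup H).U z = ⊥ := by
  rw [Subgroup.eq_bot_iff_forall]
  intro g hg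
  rw [M.mem_U_subgroup, h] at hg
  exact Subtype.ext hg

theorem TS_inf_U {x y : X} (hxy : x ≠ y) {g : Γ} (hg : g ∈ TS Γ x y) (hU : g ∈ M.U x) : g = 1 := by
  by_contra h1
  exact hxy (M.eq_of_mem_U hU h1 hg.2).symm

include M in
theorem cyclic_TS [Finite Γ] {x y : X} (hxy : x ≠ y) : IsCyclic (TS Γ x y) := by
  have hU : (M.subgroup (TS Γ x y)).U x = ⊥ := by
    rw [Subgroup.eq_bot_iff_forall]
    intro g hg
    rw [M.mem_U_subgroup] at hg
    exact Subtype.ext (M.TS_inf_U hxy g.2 hg)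
  have h1 := (M.subgroup (TS Γ x y)).stab_cyclic hU
  have h2 : stabilizer (TS Γ x y) x = ⊤ := by
    rw [eq_top_iff]
    intro g _
    exact g.2.1
  rw [h2] at h1
  exact (MulEquiv.isCyclic Subgroup.topEquiv).1 h1

include M in
/-- the setwise stabilizer of two points is dihedral as soon as they can be swapped -/
theorem DS_dihedral [Finite Γ] {x y : X} (hxy : x ≠ y) {s : Γ} (h1 : s • x = y) (h2 : s • y = x) :
    Nonempty (DS Γ x y ≃* DihedralGroup (Nat.card (TS Γ x y))) ∧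
      Nat.card (DS Γ x y) = 2 * Nat.card (TS Γ x y) := by
  have hmem : ∀ g : DS Γ x y, (g : Γ) • x = x ∨ (g : Γ) • x = y := by
    intro g
    rcases g.2 with h | h
    · exact Or.inl h.1
    · exact Or.inr h.1
  have horb : orbit (DS Γ x y) x = {x, y} := by
    ext z
    constructor
    · rintro ⟨g, rfl⟩
      exact hmem g
    · rintro (rfl | rfl)
      · exact mem_orbit_self _
      · exact ⟨⟨s, Or.inr ⟨h1, h2⟩⟩, h1⟩
  have hcard : Nat.card (orbit (DS Γ x y) x) = 2 := by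
    rw [horb, Nat.card_coe_set_eq, Set.ncard_pair hxy]
  have hst : Nat.card (stabilizer (DS Γ x y) x) = Nat.card (TS Γ x y) := by
    refine Nat.card_eq_of_bijective (f := fun g => (⟨g.1.1, ?_⟩ : TS Γ x y)) ⟨?_, ?_⟩
    · have hx : (g.1 : Γ) • x = x := g.2
      rcases g.1.2 with h | h
      · exact h
      · exfalso; exact hxy (hx.symm.trans h.1)
    · intro a b hab
      exact Subtype.ext (Subtype.ext (congrArg (fun z : TS Γ x y => (z : Γ)) hab))
    · rintro ⟨g, hg⟩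
      exact ⟨⟨⟨g, Or.inl hg⟩, hg.1⟩, rfl⟩
  have hU : (M.subgroup (DS Γ x y)).U x = ⊥ := by
    rw [Subgroup.eq_bot_iff_forall]
    intro g hg
    rw [M.mem_U_subgroup] at hg
    rcases g.2 with h | h
    · exact Subtype.ext (M.TS_inf_U hxy h hg)
    · exfalso
      have := M.smul_of_mem_U hg
      exact hxy (this.symm.trans h.1)
  have h3 := (M.subgroup (DS Γ x y)).dihedral hU hcard
  rw [hst] at h3
  refine ⟨h3, ?_⟩
  rw [← card_orbit_mul (Γ := DS Γ x y) x, hcard, hst]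

/-- a Moebius group which is 2-transitive on its unipotent points -/
structure Full (z0 : X) : Prop where
  hU : M.U z0 ≠ ⊥
  hN : Nat.card (orbit Γ z0) = Nat.card (M.U z0) + 1

end Mob

section full

variable {p : ℕ} {Γ X K : Type*} [Group Γ] [MulAction Γ X] [Field K] {M : Mob p Γ X K}
  [Finite Γ] {z0 : X} (hF : M.Full z0)
include hF

omit hF in
theorem card_U_of_mem {z z0 : X} (hz : z ∈ orbit Γ z0) : Nat.card (M.U z) = Nat.card (M.U z0) := by
  obtain ⟨g, rfl⟩ := hz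
  exact M.card_U_smul g z0

omit hF in
theorem U_ne_bot_of_mem (hU : M.U z0 ≠ ⊥) {z : X} (hz : z ∈ orbit Γ z0) : M.U z ≠ ⊥ := by
  have h1 := (Subgroup.one_lt_card_iff_ne_bot _).2 hU
  rw [← card_U_of_mem hz] at h1
  exact (Subgroup.one_lt_card_iff_ne_bot _).1 h1

theorem Mob.Full.reg {z z' z'' : X} (hz : z ∈ orbit Γ z0) (hz' : z' ∈ orbit Γ z0)
    (hz'' : z'' ∈ orbit Γ z0) (h1 : z' ≠ z) (h2 : z'' ≠ z) : ∃ u ∈ M.U z, u • z' = z'' := by
  classical
  have := finite_orbit (Γ := Γ) z0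
  let S : Set X := orbit Γ z0 \ {z}
  have hS : Nat.card S = Nat.card (M.U z) := by
    rw [Nat.card_coe_set_eq, Set.ncard_sdiff_singleton_of_mem hz, ← Nat.card_coe_set_eq, hF.hN,
      card_U_of_mem hz]
    rfl
  let f : M.U z → S := fun u => ⟨(u : Γ) • z', by
    obtain ⟨g, rfl⟩ := hz'
    exact ⟨(u : Γ) * g, mul_smul _ _ _⟩, by
    intro h
    have h : (u : Γ) • z' = z := h
    have h3 : (u : Γ) • z' = (u : Γ) • z := by rw [h, M.smul_of_mem_U u.2]
    exact h1 (smul_left_cancel _ h3)⟩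
  have hf : Function.Injective f := by
    intro u v huv
    have h3 : (u : Γ) • z' = (v : Γ) • z' := congrArg (fun s : S => (s : X)) huv
    have h4 : ((v : Γ)⁻¹ * (u : Γ)) • z' = z' := by
      rw [mul_smul, h3, inv_smul_smul]
    have h5 : (v : Γ)⁻¹ * (u : Γ) ∈ M.U z := mul_mem (inv_mem v.2) u.2
    by_contra hne
    have h6 : (v : Γ)⁻¹ * (u : Γ) ≠ 1 := by
      intro h
      exact hne (Subtype.ext (inv_mul_eq_one.1 h).symm)
    exact h1 (M.eq_of_mem_U h5 h6 h4)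
  have hfinS : Finite S := by
    have : (orbit Γ z0).Finite := Set.finite_range _
    exact this.subset Set.sdiff_subset
  have hb : Function.Bijective f := (Nat.bijective_iff_injective_and_card f).2 ⟨hf, hS.symm⟩
  obtain ⟨u, hu⟩ := hb.2 ⟨z'', hz'', h2⟩
  exact ⟨u, u.2, congrArg (fun s : S => (s : X)) hu⟩

theorem Mob.Full.swap {z z' : X} (hz : z ∈ orbit Γ z0) (hz' : z' ∈ orbit Γ z0) (h : z ≠ z') :
    ∃ s : Γ, s • z = z' ∧ s • z' = z := by
  obtain ⟨g, hg⟩ : ∃ g : Γ, g • z = z' := by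
    obtain ⟨a, rfl⟩ := hz
    obtain ⟨b, rfl⟩ := hz'
    exact ⟨b * a⁻¹, by simp [mul_smul]⟩
  have h1 : g • z' ∈ orbit Γ z0 := by
    obtain ⟨b, rfl⟩ := hz'
    exact ⟨g * b, mul_smul _ _ _⟩
  have h2 : g • z' ≠ z' := by
    intro h3
    have : g • z' = g • z := by rw [h3, hg]
    exact h (smul_left_cancel g this).symm
  obtain ⟨u, hu, hu'⟩ := hF.reg hz' h1 hz h2 h
  refine ⟨u * g, ?_, ?_⟩
  · rw [mul_smul, hg, M.smul_of_mem_U hu]
  · rw [mul_smul, hu']

omit hF in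
theorem exists_other {z0 : X} (h : 1 < Nat.card (orbit Γ z0)) (z : X) :
    ∃ z' ∈ orbit Γ z0, z' ≠ z := by
  by_contra hcon
  push Not at hcon
  have h1 : orbit Γ z0 ⊆ {z} := fun y hy => hcon y hy
  have h2 := Set.ncard_le_ncard h1 (Set.finite_singleton _)
  rw [Set.ncard_singleton, ← Nat.card_coe_set_eq] at h2
  omega

/-- an element outside the unipotent radical fixes a second unipotent point -/
theorem Mob.Full.mate {z : X} (hz : z ∈ orbit Γ z0) {h : Γ} (hh : h • z = z) (hU : h ∉ M.U z) :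
    ∃ z' ∈ orbit Γ z0, z' ≠ z ∧ h • z' = z' := by
  have hc : 1 < Nat.card (orbit Γ z0) := by
    have := (Subgroup.one_lt_card_iff_ne_bot _).2 hF.hU
    rw [hF.hN]; omega
  obtain ⟨z', hz', hne⟩ := exists_other hc z
  have h1 : h • z' ∈ orbit Γ z0 := by
    obtain ⟨b, rfl⟩ := hz'
    exact ⟨h * b, mul_smul _ _ _⟩
  have h2 : h • z' ≠ z := by
    intro h3
    have : h • z' = h • z := by rw [h3, hh]
    exact hne (smul_left_cancel h this)
  obtain ⟨v, hv, hv'⟩ := hF.reg hz hz' h1 hne h2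
  -- v • z' = h • z'
  have hconj : ∀ u : M.U z, (h * (u : Γ) * h⁻¹) ∈ M.U z := by
    intro u
    have := (M.conj_mem_U (x := z) h (u := (u : Γ))).2 u.2
    rwa [hh] at this
  let f : M.U z → M.U z := fun u => ⟨(h * (u : Γ) * h⁻¹)⁻¹ * u, mul_mem (inv_mem (hconj u)) u.2⟩
  have hf : Function.Injective f := by
    intro u w huw
    have h3 : (h * (u : Γ) * h⁻¹)⁻¹ * u = (h * (w : Γ) * h⁻¹)⁻¹ * w := congrArg Subtype.val huw
    by_contra hne'
    have h4 : (w : Γ) * (u : Γ)⁻¹ ≠ 1 := by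
      intro h
      exact hne' (Subtype.ext (mul_inv_eq_one.1 h).symm)
    apply hU
    apply M.mem_U_of_comm (u := (w : Γ) * (u : Γ)⁻¹) (mul_mem w.2 (inv_mem u.2)) h4
    have h5 : h * (w : Γ) * h⁻¹ * ((h * (u : Γ) * h⁻¹)⁻¹ * u) = w := by rw [h3]; group
    calc h * ((w : Γ) * (u : Γ)⁻¹) = (h * (w : Γ) * h⁻¹ * ((h * (u : Γ) * h⁻¹)⁻¹ * u)) * (u : Γ)⁻¹ * h := by
          group
      _ = (w : Γ) * (u : Γ)⁻¹ * h := by rw [h5]
  obtain ⟨u, hu⟩ := (Finite.injective_iff_surjective.1 hf) ⟨v, hv⟩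
  have hu' : (h * (u : Γ) * h⁻¹)⁻¹ * u = v := congrArg Subtype.val hu
  refine ⟨(u : Γ) • z', ?_, ?_, ?_⟩
  · obtain ⟨b, rfl⟩ := hz'
    exact ⟨(u : Γ) * b, mul_smul _ _ _⟩
  · intro h3
    have : (u : Γ) • z' = (u : Γ) • z := by rw [h3, M.smul_of_mem_U u.2]
    exact hne (smul_left_cancel _ this)
  · calc h • (u : Γ) • z' = (h * (u : Γ) * h⁻¹) • h • z' := by
          rw [← mul_smul, ← mul_smul]; congr 1; group
      _ = (h * (u : Γ) * h⁻¹) • v • z' := by rw [hv']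
      _ = (u : Γ) • z' := by
          rw [← hu', ← mul_smul]; congr 1; group

/-- data of the second orbit -/
theorem Mob.Full.exists_irr [Fact p.Prime] [CharP K p] : ∃ x, x ∈ Om Γ X ∧ M.U x = ⊥ ∧
      (∀ y ∈ Om Γ X, y ∈ orbit Γ z0 ∨ y ∈ orbit Γ x) ∧ x ∉ orbit Γ z0 ∧
      Nat.card (orbit Γ x) = Nat.card (M.U z0) * (Nat.card (M.U z0) - 1) ∧
      Nat.card (stabilizer Γ x) * (Nat.card (M.U z0) - 1) = (Nat.card (M.U z0) + 1) * M.t z0 := by
  have hc := (Subgroup.one_lt_card_iff_ne_bot _).2 hF.hU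
  rcases M.modular hF.hU with h | ⟨x, h1, h2, h3, h4⟩
  · exfalso
    rw [hF.hN] at h; omega
  · rw [hF.hN] at h4
    have e : 2 + (Nat.card (M.U z0) + 1) * (Nat.card (M.U z0) - 2) =
        Nat.card (M.U z0) * (Nat.card (M.U z0) - 1) := by
      obtain ⟨a, ha⟩ : ∃ a, Nat.card (M.U z0) = a + 2 := ⟨Nat.card (M.U z0) - 2, by omega⟩
      have e1 : a + 2 - 2 = a := by omega
      have e2 : a + 2 - 1 = a + 1 := by omega
      rw [ha, e1, e2]; ring
    rw [e] at h4
    refine ⟨x, h1, h2, h3, ?_, h4, ?_⟩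
    · intro h
      exact U_ne_bot_of_mem hF.hU h h2
    · have h5 := card_orbit_mul (Γ := Γ) x
      have h6 := M.card_eq_orbit z0
      rw [hF.hN] at h6
      rw [h4, ← h6] at h5
      have h7 : 0 < Nat.card (M.U z0) := by omega
      apply Nat.eq_of_mul_eq_mul_left h7
      calc Nat.card (M.U z0) * (Nat.card (stabilizer Γ x) * (Nat.card (M.U z0) - 1))
          = Nat.card (M.U z0) * (Nat.card (M.U z0) - 1) * Nat.card (stabilizer Γ x) := by ring
        _ = (Nat.card (M.U z0) + 1) * (Nat.card (M.U z0) * M.t z0) := h5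
        _ = _ := by ring

/-- an irrational point has an irrational mate -/
theorem Mob.Full.irr_mate [Fact p.Prime] [CharP K p] {x : X} (hx : x ∈ Om Γ X)
    (hx0 : x ∉ orbit Γ z0) :
    ∃ y, y ∈ Om Γ X ∧ y ∉ orbit Γ z0 ∧ y ≠ x ∧ stabilizer Γ x = TS Γ x y ∧
      stabilizer Γ y = TS Γ x y ∧ ∃ s : Γ, s • x = y ∧ s • y = x := by
  obtain ⟨w, hw1, hw2, hw3, hw4, -, -⟩ := hF.exists_irr
  have hxw : x ∈ orbit Γ w := (hw3 x hx).resolve_left hx0
  have hU : M.U x = ⊥ := by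
    by_contra hne
    obtain ⟨g, hg⟩ := M.exists_smul_eq hF.hU hne
    exact hx0 ⟨g, hg⟩
  have hcyc := M.stab_cyclic hU
  obtain ⟨a, ha⟩ := hcyc.exists_generator
  have ha1 : (a : Γ) ≠ 1 := by
    intro h
    apply (show stabilizer Γ x ≠ ⊥ from hx)
    rw [Subgroup.eq_bot_iff_forall]
    intro g hg
    obtain ⟨k, hk⟩ := ha ⟨g, hg⟩
    have h2 : a = 1 := Subtype.ext h
    have hk' : a ^ k = ⟨g, hg⟩ := hk
    rw [h2, one_zpow] at hk'
    exact (congrArg Subtype.val hk').symm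
  have hax : (a : Γ) • x = x := a.2
  rcases M.fix_or ha1 hax with h | ⟨y, hyx, h⟩
  · exfalso
    have : (a : Γ) ∈ M.U x := M.mem_U.2 (Or.inr h)
    rw [hU] at this
    exact ha1 this
  have hay : (a : Γ) • y = y := by
    have : y ∈ fixedBy X (a : Γ) := by rw [h]; simp
    exact this
  have h1 : stabilizer Γ x ≤ stabilizer Γ y := by
    intro g hg
    obtain ⟨k, hk⟩ := ha ⟨g, hg⟩
    have hk' : (a : Γ) ^ k = g := congrArg Subtype.val hk
    rw [← hk']
    exact zpow_mem (show (a : Γ) ∈ stabilizer Γ y from hay) k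
  have hyOm : y ∈ Om Γ X := mem_Om_iff.2 ⟨a, ha1, hay⟩
  have hy0 : y ∉ orbit Γ z0 := by
    intro hy
    have hnU : (a : Γ) ∉ M.U y := by
      intro haU
      exact hyx (M.eq_of_mem_U haU ha1 hax).symm
    obtain ⟨z', hz', hne, hfix⟩ := hF.mate hy hay hnU
    have : z' ∈ fixedBy X (a : Γ) := hfix
    rw [h] at this
    rcases this with h3 | h3
    · rw [h3] at hz'; exact hx0 hz'
    · exact hne h3
  have hyw : y ∈ orbit Γ w := (hw3 y hyOm).resolve_left hy0
  have hcard : Nat.card (stabilizer Γ y) = Nat.card (stabilizer Γ x) := by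
    rw [card_stab_of_mem hyw, card_stab_of_mem hxw]
  have heq : stabilizer Γ x = stabilizer Γ y := Subgroup.eq_of_le_of_card_ge h1 hcard.le
  refine ⟨y, hyOm, hy0, hyx, ?_, ?_, ?_⟩
  · unfold TS; rw [← heq, inf_idem]
  · unfold TS; rw [← heq, inf_idem]
  · obtain ⟨s, hs⟩ : ∃ s : Γ, s • x = y := by
      have h3 := MulAction.orbit_eq_iff.2 hxw
      rw [← h3] at hyw
      exact hyw
    refine ⟨s, hs, ?_⟩
    -- s • y is fixed by stab (s • x) = stab y = stab x
    have h3 : (a : Γ) • s • y = s • y := by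
      have h4 : s⁻¹ * (a : Γ) * s ∈ stabilizer Γ x := by
        rw [mem_stabilizer_iff, mul_smul, mul_smul, hs, hay, ← hs, inv_smul_smul]
      have h5 : (s⁻¹ * (a : Γ) * s) • y = y := h1 h4
      rw [mul_smul, mul_smul] at h5
      rw [inv_smul_eq_iff] at h5
      exact h5
    have h4 : s • y ∈ fixedBy X (a : Γ) := h3
    rw [h] at h4
    rcases h4 with h5 | h5
    · exact h5
    · exfalso
      have h5 : s • y = y := h5
      have : s • y = s • x := by rw [h5, hs]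
      exact hyx (smul_left_cancel s this)

/-- the order of two point stabilizers of rational points -/
theorem Mob.Full.card_TS {z z' : X} (hz : z ∈ orbit Γ z0) (hz' : z' ∈ orbit Γ z0)
    (h : z ≠ z') : Nat.card (TS Γ z z') = M.t z0 := by
  have h1 : Nat.card (stabilizer Γ z) = Nat.card (M.U z0) * M.t z0 := by
    rw [card_stab_of_mem hz, M.card_stab]
  have h2 := card_orbit_mul (Γ := stabilizer Γ z) z'
  have h3 : Nat.card (stabilizer (stabilizer Γ z) z') = Nat.card (TS Γ z z') := by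
    refine Nat.card_eq_of_bijective (f := fun g => (⟨g.1.1, ?_⟩ : TS Γ z z')) ⟨?_, ?_⟩
    · exact ⟨g.1.2, g.2⟩
    · intro a b hab
      exact Subtype.ext (Subtype.ext (congrArg (fun z : TS Γ z z' => (z : Γ)) hab))
    · rintro ⟨g, hg⟩
      exact ⟨⟨⟨g, hg.1⟩, hg.2⟩, rfl⟩
  have h4 : orbit (stabilizer Γ z) z' = orbit Γ z0 \ {z} := by
    ext y
    constructor
    · rintro ⟨g, rfl⟩
      refine ⟨?_, ?_⟩
      · obtain ⟨b, rfl⟩ := hz'
        exact ⟨(g : Γ) * b, mul_smul _ _ _⟩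
      · intro h5
        have h5 : (g : Γ) • z' = z := h5
        have : (g : Γ) • z' = (g : Γ) • z := by rw [h5, (show (g : Γ) • z = z from g.2)]
        exact h (smul_left_cancel _ this).symm
    · rintro ⟨hy, hyz⟩
      obtain ⟨u, hu, hu'⟩ := hF.reg hz hz' hy h.symm hyz
      exact ⟨⟨u, M.U_le_stab z hu⟩, hu'⟩
  rw [h4, h3, h1] at h2
  have h5 : Nat.card ((orbit Γ z0 \ {z} : Set X)) = Nat.card (M.U z0) := by
    rw [Nat.card_coe_set_eq, Set.ncard_sdiff_singleton_of_mem hz, ← Nat.card_coe_set_eq, hF.hN]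
    rfl
  rw [h5] at h2
  exact Nat.eq_of_mul_eq_mul_left Nat.card_pos h2

end full

end Cfsg.Agent.Dk
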