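import Mathlib

/-! Additive subgroups of a finite field closed under `a ↦ μ / a` are subfields. -/

set_option autoImplicit false

namespace Cfsg.Agent.Dk

theorem hua_closed {F : Type*} [Field F] [Finite F] (A : AddSubgroup F) (h1 : (1 : F) ∈ A) {μ : F}
    (hμ : μ ≠ 0) (hi : ∀ a ∈ A, a ≠ 0 → μ / a ∈ A) : ∃ K0 : Subfield F, ∀ a, a ∈ K0 ↔ a ∈ A := by
  have hhua : ∀ a ∈ A, ∀ b ∈ A, a * a * b / μ ∈ A := by
    intro a ha b hb
    by_cases ha0 : a = 0
    · rw [ha0]; simp [A.zero_mem]
    by_cases hb0 : b = 0
    · rw [hb0]; simp [A.zero_mem]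
    by_cases hab : a * b = μ
    · have : a * a * b / μ = a := by rw [← hab]; field_simp
      rw [this]; exact ha
    have hne : μ - a * b ≠ 0 := fun h => hab (sub_eq_zero.1 h).symm
    have e1 : μ / b - a ∈ A := A.sub_mem (hi b hb hb0) ha
    have e1' : μ / b - a = (μ - a * b) / b := by field_simp
    have e1n : μ / b - a ≠ 0 := by rw [e1']; exact div_ne_zero hne hb0
    have e2 : μ / (μ / b - a) ∈ A := hi _ e1 e1n
    have e3 : μ / a + μ / (μ / b - a) ∈ A := A.add_mem (hi a ha ha0) e2
    have e3' : μ / a + μ / (μ / b - a) = μ ^ 2 / (a * (μ - a * b)) := by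
      rw [e1']; field_simp; ring
    have e3n : μ / a + μ / (μ / b - a) ≠ 0 := by
      rw [e3']; exact div_ne_zero (pow_ne_zero _ hμ) (mul_ne_zero ha0 hne)
    have e4 := hi _ e3 e3n
    have e4' : μ / (μ / a + μ / (μ / b - a)) = a - a * a * b / μ := by
      rw [e3']; field_simp
    rw [e4'] at e4
    have e5 := A.sub_mem ha e4
    have : a - (a - a * a * b / μ) = a * a * b / μ := by ring
    rwa [this] at e5
  have hdiv : ∀ b ∈ A, b / μ ∈ A := by
    intro b hb
    have := hhua 1 h1 b hb
    rwa [one_mul, one_mul] at this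
  have hmulμ : ∀ a ∈ A, a * μ ∈ A := by
    let f : A → A := fun b => ⟨b / μ, hdiv b b.2⟩
    have hf : Function.Injective f := by
      intro a b hab
      have : (a : F) / μ = (b : F) / μ := congrArg Subtype.val hab
      exact Subtype.ext ((div_left_inj' hμ).1 this)
    intro a ha
    obtain ⟨b, hb⟩ := (Finite.injective_iff_surjective.1 hf) ⟨a, ha⟩
    have hb' : (b : F) / μ = a := congrArg Subtype.val hb
    have : a * μ = b := by rw [← hb']; field_simp
    rw [this]; exact b.2
  have hsq : ∀ a ∈ A, ∀ b ∈ A, a * a * b ∈ A := by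
    intro a ha b hb
    have h := hmulμ _ (hhua a ha b hb)
    have : a * a * b / μ * μ = a * a * b := by field_simp
    rwa [this] at h
  have hmul : ∀ a ∈ A, ∀ b ∈ A, a * b ∈ A := by
    intro a ha b hb
    by_cases h2 : (2 : F) = 0
    · -- squaring is bijective
      let f : A → A := fun b => ⟨b * b, by
        have := hsq b b.2 1 h1
        rwa [mul_one] at this⟩
      have hf : Function.Injective f := by
        intro x y hxy
        have h3 : (x : F) * x = (y : F) * y := congrArg Subtype.val hxy
        have h4 : ((x : F) - y) ^ 2 = 0 := by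
          linear_combination h3 + ((y : F) * y - (x : F) * y) * h2
        exact Subtype.ext (sub_eq_zero.1 (pow_eq_zero_iff two_ne_zero |>.1 h4))
      obtain ⟨c, hc⟩ := (Finite.injective_iff_surjective.1 hf) ⟨a, ha⟩
      have hc' : (c : F) * c = a := congrArg Subtype.val hc
      rw [← hc']
      exact hsq c c.2 b hb
    · have h3 : 2 * (a * b) ∈ A := by
        have e1 := hsq (a + b) (A.add_mem ha hb) 1 h1
        have e2 := hsq a ha 1 h1
        have e3 := hsq b hb 1 h1
        have e4 := A.sub_mem (A.sub_mem e1 e2) e3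
        have : (a + b) * (a + b) * 1 - a * a * 1 - b * b * 1 = 2 * (a * b) := by ring
        rwa [this] at e4
      let f : A → A := fun b => ⟨2 * b, by rw [two_mul]; exact A.add_mem b.2 b.2⟩
      have hf : Function.Injective f := by
        intro x y hxy
        have h3 : 2 * (x : F) = 2 * (y : F) := congrArg Subtype.val hxy
        exact Subtype.ext (mul_left_cancel₀ h2 h3)
      obtain ⟨c, hc⟩ := (Finite.injective_iff_surjective.1 hf) ⟨_, h3⟩
      have hc' : 2 * (c : F) = 2 * (a * b) := congrArg Subtype.val hc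
      rw [← mul_left_cancel₀ h2 hc']
      exact c.2
  refine ⟨{ carrier := A
            mul_mem' := fun {a b} ha hb => hmul a ha b hb
            one_mem' := h1
            add_mem' := fun {a b} ha hb => A.add_mem ha hb
            zero_mem' := A.zero_mem
            neg_mem' := fun {a} ha => A.neg_mem ha
            inv_mem' := ?_ }, fun a => Iff.rfl⟩
  intro a ha
  by_cases ha0 : a = 0
  · rw [ha0, inv_zero]; exact A.zero_mem
  · have := hdiv _ (hi a ha ha0)
    have e : μ / a / μ = a⁻¹ := by field_simp
    rwa [e] at this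

end Cfsg.Agent.Dk
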