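import Mathlib
import Cfsg.Agent.Dk.Cases
import Cfsg.Agent.H81.FixPts
import Cfsg.Agent.H81.DickEmb

/-! `PGL₂` of an algebraically closed field is a Moebius group. -/

set_option autoImplicit false

namespace Cfsg.Agent.Dk

open MulAction Matrix LinearAlgebra.Projectivization Projectivization
open scoped MatrixGroups
open H81 (pt0 pt1 ptz ptc)

theorem fixedBy_conj_singleton {G X : Type*} [Group G] [MulAction G X] (g u : G) (x : X) :
    fixedBy X (g * u * g⁻¹) = {g • x} ↔ fixedBy X u = {x} := by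
  have h : ∀ y, y ∈ fixedBy X (g * u * g⁻¹) ↔ g⁻¹ • y ∈ fixedBy X u := by
    intro y
    rw [mem_fixedBy, mem_fixedBy, mul_smul, mul_smul]
    exact smul_eq_iff_eq_inv_smul g
  constructor
  · intro h3
    ext y
    have h4 := h (g • y)
    rw [inv_smul_smul, h3, Set.mem_singleton_iff] at h4
    rw [← h4, Set.mem_singleton_iff]
    exact smul_left_cancel_iff g
  · intro h3
    ext y
    rw [h, h3, Set.mem_singleton_iff, Set.mem_singleton_iff]
    exact inv_smul_eq_iff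

section

variable {K : Type*} [Field K]

theorem mk_eq_one_of {g : GL (Fin 2) K} (h10 : g.1 1 0 = 0) (h01 : g.1 0 1 = 0)
    (h : g.1 1 1 = g.1 0 0) : (ProjGenLinGroup.mk g : PGL(2, K)) = 1 := by
  have hne : g.1 0 0 ≠ 0 := by
    intro h0
    have := g.det.ne_zero
    apply this
    rw [GeneralLinearGroup.val_det_apply, Matrix.det_fin_two]
    change g.1 0 0 * g.1 1 1 - g.1 0 1 * g.1 1 0 = 0
    rw [h0, h10]; ring
  have h2 : g = GeneralLinearGroup.scalar (Fin 2) (Units.mk0 _ hne) := by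
    ext i j
    change g.1 i j = (Matrix.scalar (Fin 2) (g.1 0 0)) i j
    fin_cases i <;> fin_cases j
    · simp
    · simpa using h01
    · simpa using h10
    · simpa using h
  rw [h2, ProjGenLinGroup.mk_scalar]

theorem pgl_three {g : PGL(2, K)} {a b c : ℙ K (Fin 2 → K)} (hab : a ≠ b) (hac : a ≠ c)
    (hbc : b ≠ c) (ha : g • a = a) (hb : g • b = b) (hc : g • c = c) : g = 1 := by
  obtain ⟨g0, rfl⟩ := ProjGenLinGroup.mk_surjective g
  obtain ⟨k, rfl, rfl, rfl⟩ := H81.exists_gl_frame hab hac hbc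
  rw [H81.pgl_mk_smul] at ha hb hc
  have e : ∀ x : ℙ K (Fin 2 → K), g0 • k • x = k • x → (k⁻¹ * g0 * k) • x = x := by
    intro x hx
    rw [mul_smul, mul_smul, hx, inv_smul_smul]
  obtain ⟨h1, h2, h3⟩ := H81.fix_frame (e _ ha) (e _ hb) (e _ hc)
  rw [one_mul] at h3
  have h4 := mk_eq_one_of h1 h2 h3
  rw [map_mul, map_mul, map_inv] at h4
  have h5 : (ProjGenLinGroup.mk g0 : PGL(2, K)) = ProjGenLinGroup.mk k *
    ((ProjGenLinGroup.mk k)⁻¹ * ProjGenLinGroup.mk g0 * ProjGenLinGroup.mk k) *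
      (ProjGenLinGroup.mk k)⁻¹ := by group
  rw [h5, h4]; group

theorem diag_ne_zero {g : GL (Fin 2) K} (h10 : g.1 1 0 = 0) : g.1 0 0 ≠ 0 ∧ g.1 1 1 ≠ 0 := by
  have hd := g.det.ne_zero
  rw [GeneralLinearGroup.val_det_apply, Matrix.det_fin_two] at hd
  change g.1 0 0 * g.1 1 1 - g.1 0 1 * g.1 1 0 ≠ 0 at hd
  rw [h10, mul_zero, sub_zero] at hd
  exact ⟨left_ne_zero_of_mul hd, right_ne_zero_of_mul hd⟩

theorem fixedBy_upper_one {h : GL (Fin 2) K} (h10 : h.1 1 0 = 0) (hd : h.1 0 0 = h.1 1 1)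
    (h01 : h.1 0 1 ≠ 0) : fixedBy (ℙ K (Fin 2 → K)) h = {pt0 K} := by
  ext x
  rw [mem_fixedBy, Set.mem_singleton_iff]
  constructor
  · intro hx
    rcases H81.eq_pt0_or_ptz x with rfl | ⟨z, rfl⟩
    · rfl
    · exfalso
      rw [H81.smul_ptz_iff, h10, hd] at hx
      apply h01
      linear_combination hx
  · rintro rfl
    exact (H81.fix_pt0_iff h).2 h10

/-- ratio of the eigenvalues on the Borel subgroup -/
noncomputable def ratB : stabilizer (GL (Fin 2) K) (pt0 K) →* Kˣ where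
  toFun g := Units.mk0 (g.1.1 0 0 / g.1.1 1 1)
    (div_ne_zero (diag_ne_zero ((H81.fix_pt0_iff g.1).1 g.2)).1
      (diag_ne_zero ((H81.fix_pt0_iff g.1).1 g.2)).2)
  map_one' := by
    apply Units.ext
    show (1 : Matrix (Fin 2) (Fin 2) K) 0 0 / (1 : Matrix (Fin 2) (Fin 2) K) 1 1 = 1
    simp
  map_mul' a b := by
    apply Units.ext
    have ha := (H81.fix_pt0_iff a.1).1 a.2
    have hb := (H81.fix_pt0_iff b.1).1 b.2
    show (a.1.1 * b.1.1) 0 0 / (a.1.1 * b.1.1) 1 1 =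
      (a.1.1 0 0 / a.1.1 1 1) * (b.1.1 0 0 / b.1.1 1 1)
    rw [Matrix.mul_apply, Matrix.mul_apply, Fin.sum_univ_two, Fin.sum_univ_two, ha, hb]
    have h1 := (diag_ne_zero ha).2
    have h2 := (diag_ne_zero hb).2
    field_simp
    ring

theorem ratB_val (g : stabilizer (GL (Fin 2) K) (pt0 K)) :
    (ratB g : K) = g.1.1 0 0 / g.1.1 1 1 := rfl

theorem ratB_eq_one_iff (g : stabilizer (GL (Fin 2) K) (pt0 K)) :
    ratB g = 1 ↔ (ProjGenLinGroup.mk g.1 : PGL(2, K)) = 1 ∨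
      fixedBy (ℙ K (Fin 2 → K)) (ProjGenLinGroup.mk g.1 : PGL(2, K)) = {pt0 K} := by
  have h10 := (H81.fix_pt0_iff g.1).1 g.2
  have hd := diag_ne_zero h10
  have h1 : ratB g = 1 ↔ g.1.1 0 0 = g.1.1 1 1 := by
    rw [Units.ext_iff, ratB_val, Units.val_one, div_eq_one_iff_eq hd.2]
  have hfb : fixedBy (ℙ K (Fin 2 → K)) (ProjGenLinGroup.mk g.1 : PGL(2, K)) =
    fixedBy (ℙ K (Fin 2 → K)) g.1 := rfl
  rw [h1, hfb]
  constructor
  · intro h
    by_cases h01 : g.1.1 0 1 = 0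
    · left; exact mk_eq_one_of h10 h01 h.symm
    · right; exact fixedBy_upper_one h10 h h01
  · intro h
    by_contra hne
    have hne' : g.1.1 1 1 - g.1.1 0 0 ≠ 0 := sub_ne_zero.2 (Ne.symm hne)
    have hfix : g.1 • ptz K (g.1.1 0 1 / (g.1.1 1 1 - g.1.1 0 0)) =
        ptz K (g.1.1 0 1 / (g.1.1 1 1 - g.1.1 0 0)) := by
      rw [H81.smul_ptz_iff, h10]
      field_simp
      ring
    rcases h with h | h
    · obtain ⟨u, hu⟩ := (ProjGenLinGroup.mk_eq_mk_iff (g₁ := (1 : GL (Fin 2) K)) (g₂ := g.1)).1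
        (by rw [h]; rfl)
      rw [one_mul] at hu
      apply hne
      rw [← hu]
      rfl
    · have h3 : ptz K (g.1.1 0 1 / (g.1.1 1 1 - g.1.1 0 0)) ∈ fixedBy (ℙ K (Fin 2 → K)) g.1 := hfix
      rw [h] at h3
      exact H81.pt0_ne_ptz _ h3.symm

theorem ratB_congr {a b : stabilizer (GL (Fin 2) K) (pt0 K)}
    (h : (ProjGenLinGroup.mk a.1 : PGL(2, K)) = ProjGenLinGroup.mk b.1) : ratB a = ratB b := by
  obtain ⟨u, hu⟩ := ProjGenLinGroup.mk_eq_mk_iff.1 h
  apply Units.ext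
  rw [ratB_val, ratB_val, ← hu]
  have h00 : (a.1 * GeneralLinearGroup.scalar (Fin 2) u).1 0 0 = a.1.1 0 0 * u := by
    change (a.1.1 * Matrix.scalar (Fin 2) (u : K)) 0 0 = _
    simp [Matrix.mul_apply, Fin.sum_univ_two]
  have h11 : (a.1 * GeneralLinearGroup.scalar (Fin 2) u).1 1 1 = a.1.1 1 1 * u := by
    change (a.1.1 * Matrix.scalar (Fin 2) (u : K)) 1 1 = _
    simp [Matrix.mul_apply, Fin.sum_univ_two]
  rw [h00, h11, mul_div_mul_right _ _ u.ne_zero]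

theorem exists_chi (x : ℙ K (Fin 2 → K)) : ∃ χ : stabilizer PGL(2, K) x →* Kˣ,
    ∀ g : stabilizer PGL(2, K) x, χ g = 1 ↔ (g : PGL(2, K)) = 1 ∨
      fixedBy (ℙ K (Fin 2 → K)) (g : PGL(2, K)) = {x} := by
  obtain ⟨k, rfl⟩ := H81.exists_gl_smul_pt0 x
  choose r hr using (ProjGenLinGroup.mk_surjective : Function.Surjective
    (ProjGenLinGroup.mk : GL (Fin 2) K → PGL(2, K)))
  have hmem : ∀ g : stabilizer PGL(2, K) (k • pt0 K), k⁻¹ * r g.1 * k ∈
      stabilizer (GL (Fin 2) K) (pt0 K) := by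
    intro g
    have h1 : g.1 • k • pt0 K = k • pt0 K := g.2
    rw [← hr g.1, H81.pgl_mk_smul] at h1
    rw [mem_stabilizer_iff, mul_smul, mul_smul, h1, inv_smul_smul]
  let χ : stabilizer PGL(2, K) (k • pt0 K) →* Kˣ :=
    MonoidHom.mk' (fun g => ratB ⟨_, hmem g⟩) (by
      intro a b
      rw [← map_mul]
      apply ratB_congr
      show (ProjGenLinGroup.mk (k⁻¹ * r (a.1 * b.1) * k) : PGL(2, K)) =
        ProjGenLinGroup.mk ((k⁻¹ * r a.1 * k) * (k⁻¹ * r b.1 * k))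
      simp only [map_mul, map_inv, hr]
      group)
  refine ⟨χ, fun g => ?_⟩
  show ratB ⟨_, hmem g⟩ = 1 ↔ _
  rw [ratB_eq_one_iff]
  have e : (ProjGenLinGroup.mk (k⁻¹ * r g.1 * k) : PGL(2, K)) =
      (ProjGenLinGroup.mk k)⁻¹ * g.1 * ProjGenLinGroup.mk k := by
    simp only [map_mul, map_inv, hr]
  have e2 : g.1 = ProjGenLinGroup.mk k * ((ProjGenLinGroup.mk k)⁻¹ * g.1 * ProjGenLinGroup.mk k)
      * (ProjGenLinGroup.mk k)⁻¹ := by group
  rw [e]
  have h1 := fixedBy_conj_singleton (ProjGenLinGroup.mk k : PGL(2, K))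
    ((ProjGenLinGroup.mk k)⁻¹ * g.1 * ProjGenLinGroup.mk k) (pt0 K)
  rw [← e2] at h1
  have h2 : (ProjGenLinGroup.mk k)⁻¹ * g.1 * ProjGenLinGroup.mk k = 1 ↔ g.1 = 1 := by
    constructor
    · intro h; rw [e2, h]; group
    · intro h; rw [h]; group
  rw [h2, ← h1]
  rfl

theorem xx_pow_char {p : ℕ} [CharP K p] (b : K) : (H81.xx b) ^ p = 1 := by
  rw [H81.xx_pow, CharP.cast_eq_zero, zero_mul]
  ext i j
  rw [H81.xx_val]
  fin_cases i <;> fin_cases j <;> rfl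

theorem mk_eq_xx {h : GL (Fin 2) K} (h10 : h.1 1 0 = 0) (hd : h.1 0 0 = h.1 1 1) :
    (ProjGenLinGroup.mk h : PGL(2, K)) =
      ProjGenLinGroup.mk (H81.xx (h.1 0 1 / h.1 1 1) : GL (Fin 2) K) := by
  have hne := (diag_ne_zero h10).2
  symm
  rw [ProjGenLinGroup.mk_eq_mk_iff]
  refine ⟨Units.mk0 _ hne, ?_⟩
  ext i j
  change ((H81.xx (h.1 0 1 / h.1 1 1)).1 * Matrix.scalar (Fin 2) (h.1 1 1)) i j = h.1 i j
  rw [H81.xx_val]
  fin_cases i <;> fin_cases j
  · simpa [Matrix.mul_apply, Fin.sum_univ_two] using hd.symm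
  · simp [Matrix.mul_apply, Fin.sum_univ_two]
    field_simp
  · simpa [Matrix.mul_apply, Fin.sum_univ_two] using h10.symm
  · simp [Matrix.mul_apply, Fin.sum_univ_two]

theorem pow_of_fix_one {p : ℕ} [CharP K p] {g : PGL(2, K)} {x : ℙ K (Fin 2 → K)}
    (h : fixedBy (ℙ K (Fin 2 → K)) g = {x}) : g ^ p = 1 := by
  obtain ⟨g0, rfl⟩ := ProjGenLinGroup.mk_surjective g
  obtain ⟨k, rfl⟩ := H81.exists_gl_smul_pt0 x
  have e2 : (ProjGenLinGroup.mk g0 : PGL(2, K)) = ProjGenLinGroup.mk k *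
      ProjGenLinGroup.mk (k⁻¹ * g0 * k) * (ProjGenLinGroup.mk k)⁻¹ := by
    simp only [map_mul, map_inv]; group
  rw [e2] at h ⊢
  have h1 := (fixedBy_conj_singleton (ProjGenLinGroup.mk k : PGL(2, K))
    (ProjGenLinGroup.mk (k⁻¹ * g0 * k)) (pt0 K)).1 h
  set g1 := k⁻¹ * g0 * k with hg1
  have h2 : g1 • pt0 K = pt0 K := by
    have : pt0 K ∈ fixedBy (ℙ K (Fin 2 → K)) (ProjGenLinGroup.mk g1 : PGL(2, K)) := by
      rw [h1]; rfl
    exact this
  have h10 := (H81.fix_pt0_iff g1).1 h2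
  have hr : ratB ⟨g1, h2⟩ = 1 := (ratB_eq_one_iff ⟨g1, h2⟩).2 (Or.inr h1)
  have hd : g1.1 0 0 = g1.1 1 1 := by
    rw [Units.ext_iff, ratB_val, Units.val_one, div_eq_one_iff_eq (diag_ne_zero h10).2] at hr
    exact hr
  rw [conj_pow, mk_eq_xx h10 hd, ← map_pow]
  have h3 : ((H81.xx (g1.1 0 1 / g1.1 1 1) : SpecialLinearGroup (Fin 2) K) : GL (Fin 2) K) ^ p
      = 1 := by
    show (Matrix.SpecialLinearGroup.toGL (H81.xx (g1.1 0 1 / g1.1 1 1))) ^ p = 1
    rw [← map_pow, xx_pow_char, map_one]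
  rw [h3, map_one, mul_one, mul_inv_cancel]

theorem mob_pgl {p : ℕ} [CharP K p] [IsAlgClosed K] : Mob p PGL(2, K) (ℙ K (Fin 2 → K)) K := by
  have hfix : ∀ g : PGL(2, K), ∃ x : ℙ K (Fin 2 → K), g • x = x := by
    intro g
    obtain ⟨g0, rfl⟩ := ProjGenLinGroup.mk_surjective g
    exact H81.exists_fixed_point g0
  have hsq : ∀ (s : PGL(2, K)) (x y : ℙ K (Fin 2 → K)), x ≠ y → s • x = y → s • y = x →
      s * s = 1 := by
    intro s x y hxy h1 h2
    obtain ⟨z, hz⟩ := hfix s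
    have hzx : z ≠ x := by
      rintro rfl; rw [hz] at h1; exact hxy h1
    have hzy : z ≠ y := by
      rintro rfl; rw [hz] at h2; exact hxy h2.symm
    refine pgl_three hxy (Ne.symm hzx) (Ne.symm hzy) ?_ ?_ ?_
    · rw [mul_smul, h1, h2]
    · rw [mul_smul, h2, h1]
    · rw [mul_smul, hz, hz]
  refine ⟨?_, exists_chi, fun g x h => pow_of_fix_one h, ?_⟩
  · intro g hg
    obtain ⟨x, hx⟩ := hfix g
    by_cases h : ∃ y, y ≠ x ∧ g • y = y
    · obtain ⟨y, hyx, hy⟩ := h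
      refine ⟨x, y, ?_⟩
      ext z
      rw [mem_fixedBy, Set.mem_insert_iff, Set.mem_singleton_iff]
      constructor
      · intro hz
        by_contra hcon
        push Not at hcon
        exact hg (pgl_three hcon.1 hcon.2 hyx.symm hz hx hy)
      · rintro (rfl | rfl)
        · exact hx
        · exact hy
    · push Not at h
      refine ⟨x, x, ?_⟩
      ext z
      rw [mem_fixedBy, Set.mem_insert_iff, Set.mem_singleton_iff, or_self]
      constructor
      · intro hz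
        by_contra hcon
        exact h z hcon hz
      · rintro rfl; exact hx
  · intro s x y hxy h1 h2
    have hs := hsq s x y hxy h1 h2
    refine ⟨hs, ?_⟩
    intro h hx hy
    have h3 := hsq (s * h) x y hxy (by rw [mul_smul, hx, h1]) (by rw [mul_smul, hy, h2])
    have hsi : s⁻¹ = s := inv_eq_of_mul_eq_one_left hs
    rw [hsi]
    exact eq_inv_of_mul_eq_one_left (by rw [← h3]; group)

end

end Cfsg.Agent.Dk
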