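import Mathlib
import Cfsg.Agent.Dk.PGL
import Cfsg.Agent.Dk.Full
import Cfsg.Agent.Dk.Hua
import Cfsg.Agent.H14.SubField

/-! The action of `PGL₂(F)` on the projective line over a larger field. -/

set_option autoImplicit false

namespace Cfsg.Agent.Dk

open MulAction Matrix LinearAlgebra.Projectivization Projectivization Subgroup
open scoped MatrixGroups
open H81 (pt0 pt1 ptz ptc)

section

variable (F K : Type*) [Field F] [Field K] [Algebra F K]

/-- extension of scalars -/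
noncomputable def emb : PGL(2, F) →* PGL(2, K) := ProjGenLinGroup.map (algebraMap F K)

/-- `PGL₂(F)` acts on the projective line over `K` -/
@[reducible] noncomputable def pact : MulAction PGL(2, F) (ℙ K (Fin 2 → K)) :=
  MulAction.compHom _ (emb F K)

attribute [local instance 10] pact

end

section

variable {F : Type*} [Field F]

theorem mk_eq_one_iff {g : GL (Fin 2) F} : (ProjGenLinGroup.mk g : PGL(2, F)) = 1 ↔
    g.1 1 0 = 0 ∧ g.1 0 1 = 0 ∧ g.1 1 1 = g.1 0 0 := by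
  constructor
  · intro h
    obtain ⟨u, hu⟩ := (ProjGenLinGroup.mk_eq_mk_iff (g₁ := (1 : GL (Fin 2) F)) (g₂ := g)).1
        (by rw [h]; rfl)
    rw [one_mul] at hu
    rw [← hu]
    change (Matrix.scalar (Fin 2) (u : F)) 1 0 = 0 ∧ (Matrix.scalar (Fin 2) (u : F)) 0 1 = 0 ∧
      (Matrix.scalar (Fin 2) (u : F)) 1 1 = (Matrix.scalar (Fin 2) (u : F)) 0 0
    simp
  · rintro ⟨h1, h2, h3⟩
    exact mk_eq_one_of h1 h2 h3

/-- translation `z ↦ z + a` -/
noncomputable def XX (a : F) : PGL(2, F) := ProjGenLinGroup.mk (H81.xx a : GL (Fin 2) F)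

/-- scaling `z ↦ a z` -/
noncomputable def DD (a : F) (ha : a ≠ 0) : PGL(2, F) := ProjGenLinGroup.mk (H81.dg a ha)

/-- the matrix `(0, μ; 1, 0)` -/
noncomputable def wm (a : F) (ha : a ≠ 0) : GL (Fin 2) F :=
  GeneralLinearGroup.mkOfDetNeZero !![0, a; 1, 0] (by simpa [Matrix.det_fin_two] using ha)

/-- inversion `z ↦ a / z` -/
noncomputable def WW (a : F) (ha : a ≠ 0) : PGL(2, F) := ProjGenLinGroup.mk (wm a ha)

theorem wm_val (a : F) (ha : a ≠ 0) : (wm a ha).1 = !![0, a; 1, 0] := rfl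

theorem xx_add (a b : F) : H81.xx (a + b) = H81.xx a * H81.xx b := by
  apply Subtype.ext
  show (H81.xx (a + b)).1 = (H81.xx a).1 * (H81.xx b).1
  rw [H81.xx_val, H81.xx_val, H81.xx_val]
  ext i j
  fin_cases i <;> fin_cases j <;> simp [Matrix.mul_apply, Fin.sum_univ_two, add_comm]

theorem xx_zero : H81.xx (0 : F) = 1 := by
  ext i j
  rw [H81.xx_val]
  fin_cases i <;> fin_cases j <;> rfl

theorem XX_add (a b : F) : XX (a + b) = XX a * XX b := by
  show ProjGenLinGroup.mk (SpecialLinearGroup.toGL (H81.xx (a + b))) =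
    ProjGenLinGroup.mk (SpecialLinearGroup.toGL (H81.xx a)) *
      ProjGenLinGroup.mk (SpecialLinearGroup.toGL (H81.xx b))
  rw [xx_add, map_mul, map_mul]

theorem XX_zero : XX (0 : F) = 1 := by
  show ProjGenLinGroup.mk (SpecialLinearGroup.toGL (H81.xx 0)) = 1
  rw [xx_zero, map_one, map_one]

theorem XX_neg (a : F) : XX (-a) = (XX a)⁻¹ := by
  rw [eq_inv_iff_mul_eq_one, ← XX_add, neg_add_cancel, XX_zero]

theorem XX_inj {a b : F} (h : XX a = XX b) : a = b := by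
  have h1 : XX (a - b) = 1 := by rw [sub_eq_add_neg, XX_add, XX_neg, h, mul_inv_cancel]
  unfold XX at h1
  obtain ⟨-, h2, -⟩ := mk_eq_one_iff.1 h1
  have h2 : a - b = 0 := h2
  exact sub_eq_zero.1 h2

end

section

variable {F K : Type*} [Field F] [Field K] [Algebra F K]

attribute [local instance 10] pact

local notation "aK" => algebraMap F K

theorem emb_mk (g : GL (Fin 2) F) : emb F K (ProjGenLinGroup.mk g) =
    ProjGenLinGroup.mk (GeneralLinearGroup.map aK g) := rfl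

theorem emb_injective : Function.Injective (emb F K) := by
  rw [injective_iff_map_eq_one]
  intro g hg
  obtain ⟨g0, rfl⟩ := ProjGenLinGroup.mk_surjective g
  rw [emb_mk, mk_eq_one_iff] at hg
  rw [mk_eq_one_iff]
  obtain ⟨h1, h2, h3⟩ := hg
  have h1 : aK (g0.1 1 0) = 0 := h1
  have h2 : aK (g0.1 0 1) = 0 := h2
  have h3 : aK (g0.1 1 1) = aK (g0.1 0 0) := h3
  exact ⟨(map_eq_zero_iff _ (algebraMap F K).injective).1 h1,
    (map_eq_zero_iff _ (algebraMap F K).injective).1 h2, (algebraMap F K).injective h3⟩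

theorem smul_def (g : PGL(2, F)) (x : ℙ K (Fin 2 → K)) : g • x = emb F K g • x := rfl

theorem mobF {p : ℕ} [CharP K p] [IsAlgClosed K] : Mob p PGL(2, F) (ℙ K (Fin 2 → K)) K :=
  mob_pgl.comap (emb F K) emb_injective (fun _ _ => rfl)

theorem mk_smul_pt0_iff (g : GL (Fin 2) F) :
    (ProjGenLinGroup.mk g : PGL(2, F)) • pt0 K = pt0 K ↔ g.1 1 0 = 0 := by
  have h : (ProjGenLinGroup.mk g : PGL(2, F)) • pt0 K = pt0 K ↔
    (GeneralLinearGroup.map aK g) • pt0 K = pt0 K := Iff.rfl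
  rw [h, H81.fix_pt0_iff]
  change aK (g.1 1 0) = 0 ↔ _
  exact map_eq_zero_iff _ (algebraMap F K).injective

theorem mk_smul_ptz_iff (g : GL (Fin 2) F) (z w : K) :
    (ProjGenLinGroup.mk g : PGL(2, F)) • ptz K z = ptz K w ↔
      aK (g.1 0 0) * z + aK (g.1 0 1) = w * (aK (g.1 1 0) * z + aK (g.1 1 1)) := by
  have h : (ProjGenLinGroup.mk g : PGL(2, F)) • ptz K z = ptz K w ↔
    (GeneralLinearGroup.map aK g) • ptz K z = ptz K w := Iff.rfl
  rw [h, H81.smul_ptz_iff]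
  rfl

theorem mk_smul_pt0_ptz_iff (g : GL (Fin 2) F) (w : K) :
    (ProjGenLinGroup.mk g : PGL(2, F)) • pt0 K = ptz K w ↔ aK (g.1 0 0) = w * aK (g.1 1 0) := by
  have h : (ProjGenLinGroup.mk g : PGL(2, F)) • pt0 K = ptz K w ↔
    (GeneralLinearGroup.map aK g) • pt0 K = ptz K w := Iff.rfl
  rw [h, H81.smul_pt0_eq_ptz_iff]
  rfl

theorem XX_smul_pt0 (a : F) : XX a • pt0 K = pt0 K := by
  unfold XX
  rw [mk_smul_pt0_iff]
  rfl

theorem XX_smul_ptz (a : F) (z : K) : XX a • ptz K z = ptz K (z + aK a) := by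
  unfold XX
  rw [mk_smul_ptz_iff]
  change aK 1 * z + aK a = (z + aK a) * (aK 0 * z + aK 1)
  rw [map_one, map_zero]; ring

theorem DD_smul_pt0 (a : F) (ha : a ≠ 0) : DD a ha • pt0 K = pt0 K := by
  unfold DD
  rw [mk_smul_pt0_iff]
  rfl

theorem DD_smul_ptz (a : F) (ha : a ≠ 0) (z : K) : DD a ha • ptz K z = ptz K (aK a * z) := by
  unfold DD
  rw [mk_smul_ptz_iff]
  change aK a * z + aK 0 = (aK a * z) * (aK 0 * z + aK 1)
  rw [map_one, map_zero]; ring

theorem WW_smul_pt0 (a : F) (ha : a ≠ 0) : WW a ha • pt0 K = ptz K 0 := by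
  unfold WW
  rw [mk_smul_pt0_ptz_iff]
  change aK 0 = 0 * aK 1
  rw [map_zero]; ring

theorem WW_smul_ptz_zero (a : F) (ha : a ≠ 0) : WW a ha • ptz K 0 = pt0 K := by
  unfold WW
  rcases H81.eq_pt0_or_ptz (K := K) ((ProjGenLinGroup.mk (wm a ha) : PGL(2, F)) • ptz K 0) with h | ⟨w, h⟩
  · exact h
  · exfalso
    rw [mk_smul_ptz_iff] at h
    change aK 0 * 0 + aK a = w * (aK 1 * 0 + aK 0) at h
    rw [map_zero] at h
    apply ha
    apply (map_eq_zero_iff _ (algebraMap F K).injective).1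
    linear_combination h

theorem WW_smul_ptz (a : F) (ha : a ≠ 0) {z : K} (hz : z ≠ 0) :
    WW a ha • ptz K z = ptz K (aK a / z) := by
  unfold WW
  rw [mk_smul_ptz_iff]
  change aK 0 * z + aK a = (aK a / z) * (aK 1 * z + aK 0)
  rw [map_one, map_zero]
  field_simp
  ring

/-- rational points -/
def RatPts (F K : Type*) [Field F] [Field K] [Algebra F K] : Set (ℙ K (Fin 2 → K)) :=
  {x | x = pt0 K ∨ ∃ a : F, x = ptz K (algebraMap F K a)}

theorem mem_Rat {x : ℙ K (Fin 2 → K)} : x ∈ RatPts F K ↔ x = pt0 K ∨ ∃ a : F, x = ptz K (algebraMap F K a) :=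
  Iff.rfl

theorem orbit_pt0 : orbit PGL(2, F) (pt0 K) = RatPts F K := by
  ext x
  constructor
  · rintro ⟨g, rfl⟩
    obtain ⟨g0, rfl⟩ := ProjGenLinGroup.mk_surjective g
    show (ProjGenLinGroup.mk g0 : PGL(2, F)) • pt0 K ∈ _
    by_cases h : g0.1 1 0 = 0
    · left; exact (mk_smul_pt0_iff g0).2 h
    · right
      refine ⟨g0.1 0 0 / g0.1 1 0, ?_⟩
      rw [mk_smul_pt0_ptz_iff, map_div₀]
      have : aK (g0.1 1 0) ≠ 0 := by
        intro h'; exact h ((map_eq_zero_iff _ (algebraMap F K).injective).1 h')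
      field_simp
  · rintro (rfl | ⟨a, rfl⟩)
    · exact mem_orbit_self _
    · refine ⟨XX a * WW 1 one_ne_zero, ?_⟩
      show (XX a * WW 1 one_ne_zero) • pt0 K = _
      rw [mul_smul, WW_smul_pt0, XX_smul_ptz, zero_add]

theorem ptz_eq_iff {z w : K} : ptz K z = ptz K w ↔ z = w := H81.ptz_injective.eq_iff

theorem card_Rat [Finite F] : Nat.card (RatPts F K) = Nat.card F + 1 := by
  have h1 : Nat.card (Option F) = Nat.card F + 1 := Finite.card_option
  rw [← h1]
  symm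
  refine Nat.card_eq_of_bijective (f := fun o : Option F => match o with
    | none => ⟨pt0 K, Or.inl rfl⟩
    | some a => ⟨ptz K (aK a), Or.inr ⟨a, rfl⟩⟩) ⟨?_, ?_⟩
  · rintro (_ | a) (_ | b) h
    · rfl
    · exact absurd (congrArg (fun s : RatPts F K => (s : ℙ K (Fin 2 → K))) h) (H81.pt0_ne_ptz _)
    · exact absurd (congrArg (fun s : RatPts F K => (s : ℙ K (Fin 2 → K))) h).symm (H81.pt0_ne_ptz _)
    · have h2 : ptz K (aK a) = ptz K (aK b) := congrArg (fun s : RatPts F K => (s : ℙ K (Fin 2 → K))) h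
      rw [ptz_eq_iff] at h2
      rw [(algebraMap F K).injective h2]
  · rintro ⟨x, rfl | ⟨a, rfl⟩⟩
    · exact ⟨none, rfl⟩
    · exact ⟨some a, rfl⟩

/-- three distinct rational points can be normalised -/
theorem exists_normal {x y z : ℙ K (Fin 2 → K)} (hx : x ∈ RatPts F K) (hy : y ∈ RatPts F K)
    (hz : z ∈ RatPts F K) (hxy : x ≠ y) (hxz : x ≠ z) (hyz : y ≠ z) :
    ∃ g : PGL(2, F), g • x = pt0 K ∧ g • y = ptz K 0 ∧ g • z = ptz K 1 := by
  rw [← orbit_pt0] at hx hy hz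
  obtain ⟨g1, hg1⟩ := hx
  have hg1 : g1 • pt0 K = x := hg1
  have key : ∀ y, y ∈ orbit PGL(2, F) (pt0 K) → x ≠ y → ∃ a : F, g1⁻¹ • y = ptz K (aK a) := by
    intro y hy hxy
    have h1 : g1⁻¹ • y ∈ orbit PGL(2, F) (pt0 K) := by
      obtain ⟨b, rfl⟩ := hy
      exact ⟨g1⁻¹ * b, mul_smul _ _ _⟩
    rw [orbit_pt0] at h1
    rcases h1 with h2 | h2
    · exfalso
      apply hxy
      rw [← hg1, ← h2, smul_inv_smul]
    · exact h2
  obtain ⟨a, ha⟩ := key y hy hxy
  obtain ⟨b, hb⟩ := key z hz hxz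
  have hab : b - a ≠ 0 := by
    intro h
    apply hyz
    have : b = a := sub_eq_zero.1 h
    rw [this, ← ha] at hb
    exact (smul_left_cancel _ hb).symm
  refine ⟨DD (b - a)⁻¹ (inv_ne_zero hab) * XX (-a) * g1⁻¹, ?_, ?_, ?_⟩
  · rw [mul_smul, mul_smul, ← hg1, inv_smul_smul, XX_smul_pt0, DD_smul_pt0]
  · rw [mul_smul, mul_smul, ha, XX_smul_ptz, DD_smul_ptz, map_neg, add_neg_cancel, mul_zero]
  · rw [mul_smul, mul_smul, hb, XX_smul_ptz, DD_smul_ptz, ← map_add, ← map_mul]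
    congr 1
    rw [← map_one (algebraMap F K)]
    congr 1
    field_simp
    ring

end

end Cfsg.Agent.Dk
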