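import Mathlib
import Cfsg.Agent.Dk.Act

/-! Subgroups of `PGL₂(F)` defined over a subfield. -/

set_option autoImplicit false

namespace Cfsg.Agent.Dk

open MulAction Matrix LinearAlgebra.Projectivization Projectivization Subgroup
open scoped MatrixGroups
open H81 (pt0 pt1 ptz ptc)

section sq

theorem sq_mul {k : Type*} [Field k] [Finite k] {a b : k} (ha : ¬ IsSquare a)
    (hb : ¬ IsSquare b) : IsSquare (a * b) := by
  classical
  have := Fintype.ofFinite k
  by_cases h2 : ringChar k = 2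
  · exact absurd (FiniteField.isSquare_of_char_two h2 a) ha
  · have ha0 : a ≠ 0 := by rintro rfl; exact ha ⟨0, by simp⟩
    have hb0 : b ≠ 0 := by rintro rfl; exact hb ⟨0, by simp⟩
    have h3 : quadraticChar k a = -1 := quadraticChar_neg_one_iff_not_isSquare.2 ha
    have h4 : quadraticChar k b = -1 := quadraticChar_neg_one_iff_not_isSquare.2 hb
    rw [← quadraticChar_one_iff_isSquare (mul_ne_zero ha0 hb0), map_mul, h3, h4]
    norm_num

end sq

section psl

variable {k : Type*} [Field k]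

variable (k) in
/-- the image of `SL₂` in `PGL₂` -/
noncomputable def PSLr : Subgroup PGL(2, k) :=
  (ProjGenLinGroup.mk.comp (SpecialLinearGroup.toGL (n := Fin 2) (R := k))).range

theorem mk_mem_PSLr {g : GL (Fin 2) k} :
    (ProjGenLinGroup.mk g : PGL(2, k)) ∈ PSLr k ↔ IsSquare g.1.det := by
  constructor
  · rintro ⟨s, hs⟩
    obtain ⟨u, hu⟩ := ProjGenLinGroup.mk_eq_mk_iff.1 hs
    refine ⟨u, ?_⟩
    have h1 : g.1 = s.1 * (Matrix.scalar (Fin 2) (u : k)) := by rw [← hu]; rfl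
    rw [h1, Matrix.det_mul, s.2, one_mul]
    simp [sq]
  · rintro ⟨u, hu⟩
    have hdet : g.1.det ≠ 0 := by
      have := g.det.ne_zero
      rwa [GeneralLinearGroup.val_det_apply] at this
    have hu0 : u ≠ 0 := by rintro rfl; apply hdet; rw [hu, mul_zero]
    have hd : (g.1 * (Matrix.scalar (Fin 2) (u⁻¹ : k))).det = 1 := by
      rw [Matrix.det_mul, hu]
      simp
      field_simp
    refine ⟨⟨_, hd⟩, ?_⟩
    show (ProjGenLinGroup.mk (SpecialLinearGroup.toGL ⟨_, hd⟩) : PGL(2, k)) = ProjGenLinGroup.mk g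
    symm
    rw [ProjGenLinGroup.mk_eq_mk_iff]
    refine ⟨(Units.mk0 u hu0)⁻¹, ?_⟩
    apply Units.ext
    show g.1 * (Matrix.scalar (Fin 2) (((Units.mk0 u hu0)⁻¹ : kˣ) : k)) =
      g.1 * (Matrix.scalar (Fin 2) (u⁻¹ : k))
    rw [Units.val_inv_eq_inv_val, Units.val_mk0]

theorem mul_mem_PSLr [Finite k] {x y : PGL(2, k)} (hx : x ∉ PSLr k) (hy : y ∉ PSLr k) :
    x * y⁻¹ ∈ PSLr k := by
  suffices h : x * y⁻¹ * (y * y) ∈ PSLr k by
    have hyy : y * y ∈ PSLr k := by
      obtain ⟨b, rfl⟩ := ProjGenLinGroup.mk_surjective y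
      rw [← map_mul, mk_mem_PSLr]
      exact ⟨b.1.det, by rw [← Matrix.det_mul]; rfl⟩
    exact (Subgroup.mul_mem_cancel_right _ hyy).1 h
  have e : x * y⁻¹ * (y * y) = x * y := by group
  rw [e]
  obtain ⟨a, rfl⟩ := ProjGenLinGroup.mk_surjective x
  obtain ⟨b, rfl⟩ := ProjGenLinGroup.mk_surjective y
  rw [mk_mem_PSLr] at hx hy
  rw [← map_mul, mk_mem_PSLr]
  have := sq_mul hx hy
  rw [← Matrix.det_mul] at this
  exact this

theorem sl2_top (P : Subgroup (SpecialLinearGroup (Fin 2) k)) (hx : ∀ a, H81.xx a ∈ P)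
    (hy : ∀ a, H81.yy a ∈ P) : P = ⊤ := by
  have key : ∀ g : SpecialLinearGroup (Fin 2) k, g.1 1 0 ≠ 0 → g ∈ P := by
    intro g hg
    have hdet := g.2
    rw [Matrix.det_fin_two] at hdet
    have : g = H81.xx ((g.1 0 0 - 1) / g.1 1 0) * H81.yy (g.1 1 0) *
        H81.xx ((g.1 1 1 - 1) / g.1 1 0) := by
      apply Subtype.ext
      show g.1 = (H81.xx _).1 * (H81.yy _).1 * (H81.xx _).1
      rw [H81.xx_val, H81.xx_val, H81.yy_val]
      ext i j
      fin_cases i <;> fin_cases j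
      · simp [Matrix.mul_apply, Fin.sum_univ_two]; field_simp; ring
      · simp [Matrix.mul_apply, Fin.sum_univ_two]; field_simp; linear_combination -hdet
      · simp [Matrix.mul_apply, Fin.sum_univ_two]
      · simp [Matrix.mul_apply, Fin.sum_univ_two]; field_simp; ring
    rw [this]
    exact mul_mem (mul_mem (hx _) (hy _)) (hx _)
  rw [eq_top_iff]
  intro g _
  by_cases hg : g.1 1 0 = 0
  · have hdet := g.2
    rw [Matrix.det_fin_two, hg, mul_zero, sub_zero] at hdet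
    have h00 : g.1 0 0 ≠ 0 := left_ne_zero_of_mul (by rw [hdet]; exact one_ne_zero)
    have h1 : H81.yy 1 * g ∈ P := by
      apply key
      change ((H81.yy (1 : k)).1 * g.1 : Matrix (Fin 2) (Fin 2) k) 1 0 ≠ 0
      rw [H81.yy_val]
      simpa [Matrix.mul_apply, Fin.sum_univ_two, hg] using h00
    exact (Subgroup.mul_mem_cancel_left _ (hy 1)).1 h1
  · exact key g hg

end psl

section sub

variable {F : Type*} [Field F]

/-- `PGL₂` of a subfield -/
noncomputable def PGLs (K0 : Subfield F) : Subgroup PGL(2, F) :=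
  (ProjGenLinGroup.map (n := Fin 2) K0.subtype).range

/-- `PSL₂` of a subfield -/
noncomputable def PSLs (K0 : Subfield F) : Subgroup PGL(2, F) :=
  (PSLr K0).map (ProjGenLinGroup.map (n := Fin 2) K0.subtype)

theorem PSLs_le_PGLs (K0 : Subfield F) : PSLs K0 ≤ PGLs K0 := by
  rintro _ ⟨g, -, rfl⟩
  exact ⟨g, rfl⟩

theorem mk_mem_PGLs {K0 : Subfield F} {g : GL (Fin 2) F} (h : ∀ i j, g.1 i j ∈ K0) :
    (ProjGenLinGroup.mk g : PGL(2, F)) ∈ PGLs K0 := by
  let A : Matrix (Fin 2) (Fin 2) K0 := Matrix.of fun i j => ⟨g.1 i j, h i j⟩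
  have hA : A.map K0.subtype = g.1 := by
    ext i j; rfl
  have hd : A.det ≠ 0 := by
    intro h0
    have h1 := congrArg K0.subtype h0
    rw [RingHom.map_det, map_zero] at h1
    have h2 : g.1.det ≠ 0 := by
      have := g.det.ne_zero
      rwa [GeneralLinearGroup.val_det_apply] at this
    apply h2
    rw [← hA]
    exact h1
  refine ⟨ProjGenLinGroup.mk (GeneralLinearGroup.mkOfDetNeZero A hd), ?_⟩
  rw [ProjGenLinGroup.map_mk]
  congr 1
  exact Units.ext hA

theorem XX_mem_PGLs {K0 : Subfield F} {a : F} (ha : a ∈ K0) : XX a ∈ PGLs K0 := by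
  apply mk_mem_PGLs
  intro i j
  change !![1, a; 0, 1] i j ∈ K0
  fin_cases i <;> fin_cases j <;> simp [ha, one_mem, zero_mem]

theorem DD_mem_PGLs {K0 : Subfield F} {a : F} (ha : a ∈ K0) (h : a ≠ 0) : DD a h ∈ PGLs K0 := by
  apply mk_mem_PGLs
  intro i j
  change !![a, 0; 0, 1] i j ∈ K0
  fin_cases i <;> fin_cases j <;> simp [ha, one_mem, zero_mem]

theorem WW_mem_PGLs {K0 : Subfield F} {a : F} (ha : a ∈ K0) (h : a ≠ 0) : WW a h ∈ PGLs K0 := by
  apply mk_mem_PGLs
  intro i j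
  change !![0, a; 1, 0] i j ∈ K0
  fin_cases i <;> fin_cases j <;> simp [ha, one_mem, zero_mem]

theorem wm_xx (a μ : F) (hμ : μ ≠ 0) : wm μ hμ * (SpecialLinearGroup.toGL (H81.xx (a * μ))) =
    (SpecialLinearGroup.toGL (H81.yy a)) * wm μ hμ := by
  apply Units.ext
  show !![0, μ; 1, 0] * !![1, a * μ; 0, 1] = !![1, 0; a, 1] * !![0, μ; 1, 0]
  ext i j
  fin_cases i <;> fin_cases j <;> simp [Matrix.mul_apply, Fin.sum_univ_two]

theorem yy_mem {H : Subgroup PGL(2, F)} {a μ : F} (hμ : μ ≠ 0) (hw : WW μ hμ ∈ H)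
    (hx : XX (a * μ) ∈ H) : (ProjGenLinGroup.mk (SpecialLinearGroup.toGL (H81.yy a)) : PGL(2, F)) ∈ H := by
  have h := congrArg (fun g => (ProjGenLinGroup.mk g : PGL(2, F))) (wm_xx a μ hμ)
  simp only [map_mul] at h
  have h2 : WW μ hμ * XX (a * μ) = ProjGenLinGroup.mk (SpecialLinearGroup.toGL (H81.yy a)) * WW μ hμ := h
  have h3 := mul_mem hw hx
  rw [h2] at h3
  exact (Subgroup.mul_mem_cancel_right _ hw).1 h3

theorem PSLs_le {K0 : Subfield F} {H : Subgroup PGL(2, F)} (hx : ∀ a ∈ K0, XX a ∈ H) {μ : F}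
    (hμ : μ ≠ 0) (hμK : μ ∈ K0) (hw : WW μ hμ ∈ H) : PSLs K0 ≤ H := by
  rintro _ ⟨_, ⟨s, rfl⟩, rfl⟩
  let f : SpecialLinearGroup (Fin 2) K0 →* PGL(2, F) :=
    (ProjGenLinGroup.map (n := Fin 2) K0.subtype).comp (ProjGenLinGroup.mk.comp
      (SpecialLinearGroup.toGL (n := Fin 2) (R := K0)))
  have h1 : H.comap f = ⊤ := by
    apply sl2_top
    · intro a
      show f (H81.xx a) ∈ H
      have : f (H81.xx a) = XX (a : F) := by
        show (ProjGenLinGroup.mk (GeneralLinearGroup.map K0.subtype (SpecialLinearGroup.toGL (H81.xx a))) : PGL(2, F))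
          = ProjGenLinGroup.mk (SpecialLinearGroup.toGL (H81.xx (a : F)))
        congr 1
        apply Units.ext
        show (H81.xx a).1.map K0.subtype = (H81.xx (a : F)).1
        rw [H81.xx_val, H81.xx_val]
        ext i j
        fin_cases i <;> fin_cases j <;> simp
      rw [this]
      exact hx _ a.2
    · intro a
      show f (H81.yy a) ∈ H
      have : f (H81.yy a) = ProjGenLinGroup.mk (SpecialLinearGroup.toGL (H81.yy (a : F))) := by
        show (ProjGenLinGroup.mk (GeneralLinearGroup.map K0.subtype (SpecialLinearGroup.toGL (H81.yy a))) : PGL(2, F))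
          = ProjGenLinGroup.mk (SpecialLinearGroup.toGL (H81.yy (a : F)))
        congr 1
        apply Units.ext
        show (H81.yy a).1.map K0.subtype = (H81.yy (a : F)).1
        rw [H81.yy_val, H81.yy_val]
        ext i j
        fin_cases i <;> fin_cases j <;> simp
      rw [this]
      exact yy_mem hμ hw (hx _ (mul_mem a.2 hμK))
  have h2 : s ∈ H.comap f := by rw [h1]; exact mem_top s
  exact h2

theorem eq_PGLs_or {K0 : Subfield F} [Finite K0] {H : Subgroup PGL(2, F)} (h1 : PSLs K0 ≤ H)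
    (h2 : H ≤ PGLs K0) : H = PGLs K0 ∨ H = PSLs K0 := by
  by_cases h : H ≤ PSLs K0
  · right; exact le_antisymm h h1
  · left
    apply le_antisymm h2
    obtain ⟨h0, hh0, hn⟩ := SetLike.not_le_iff_exists.1 h
    obtain ⟨x, hx⟩ := h2 hh0
    rintro _ ⟨y, rfl⟩
    by_cases hy : y ∈ PSLr K0
    · exact h1 ⟨y, hy, rfl⟩
    · have hx' : x ∉ PSLr K0 := by
        intro hx'
        exact hn ⟨x, hx', hx⟩
      have h3 := mul_mem_PSLr hy hx'
      have h4 : ProjGenLinGroup.map (n := Fin 2) K0.subtype (y * x⁻¹) ∈ H := h1 ⟨_, h3, rfl⟩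
      rw [map_mul, map_inv, hx] at h4
      exact (Subgroup.mul_mem_cancel_right _ (inv_mem hh0)).1 h4

end sub

section main

variable {F K : Type*} [Field F] [Field K] [Algebra F K]

attribute [local instance 10] pact

local notation "aK" => algebraMap F K

theorem eq_of_three {g h : PGL(2, F)} (h1 : g • pt0 K = h • pt0 K)
    (h2 : g • ptz K 0 = h • ptz K 0) (h3 : g • ptz K 1 = h • ptz K 1) : g = h := by
  have key : emb F K (h⁻¹ * g) = 1 := by
    refine pgl_three (a := pt0 K) (b := ptz K 0) (c := ptz K 1) (H81.pt0_ne_ptz _)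
      (H81.pt0_ne_ptz _) ?_ ?_ ?_ ?_
    · intro h; exact zero_ne_one (H81.ptz_injective h)
    · change (h⁻¹ * g) • pt0 K = pt0 K
      rw [mul_smul, h1, inv_smul_smul]
    · change (h⁻¹ * g) • ptz K 0 = ptz K 0
      rw [mul_smul, h2, inv_smul_smul]
    · change (h⁻¹ * g) • ptz K 1 = ptz K 1
      rw [mul_smul, h3, inv_smul_smul]
  have h4 : h⁻¹ * g = 1 := emb_injective (K := K) (by rw [key, map_one])
  exact (inv_mul_eq_one.1 h4).symm

variable {p : ℕ} [CharP K p] [IsAlgClosed K]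

theorem mem_U_pt0 {g : PGL(2, F)} :
    g ∈ (mobF (p := p) (F := F) (K := K)).U (pt0 K) ↔ ∃ a : F, g = XX a := by
  rw [Mob.mem_U]
  constructor
  · rintro (rfl | h)
    · exact ⟨0, XX_zero.symm⟩
    · obtain ⟨g0, rfl⟩ := ProjGenLinGroup.mk_surjective g
      have h1 : (ProjGenLinGroup.mk g0 : PGL(2, F)) • pt0 K = pt0 K := by
        have : pt0 K ∈ fixedBy (ℙ K (Fin 2 → K)) (ProjGenLinGroup.mk g0 : PGL(2, F)) := by
          rw [h]; rfl
        exact this
      have h10 := (mk_smul_pt0_iff g0).1 h1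
      have hd : g0.1 0 0 = g0.1 1 1 := by
        by_contra hne
        have hne' : g0.1 1 1 - g0.1 0 0 ≠ 0 := sub_ne_zero.2 (Ne.symm hne)
        have h2 : (ProjGenLinGroup.mk g0 : PGL(2, F)) • ptz K (aK (g0.1 0 1 / (g0.1 1 1 - g0.1 0 0))) =
            ptz K (aK (g0.1 0 1 / (g0.1 1 1 - g0.1 0 0))) := by
          rw [mk_smul_ptz_iff, h10, map_zero, zero_mul, zero_add, ← map_mul, ← map_add, ← map_mul]
          congr 1
          field_simp
          ring
        have h3 : ptz K (aK (g0.1 0 1 / (g0.1 1 1 - g0.1 0 0))) ∈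
          fixedBy (ℙ K (Fin 2 → K)) (ProjGenLinGroup.mk g0 : PGL(2, F)) := h2
        rw [h] at h3
        exact H81.pt0_ne_ptz _ h3.symm
      exact ⟨_, mk_eq_xx h10 hd⟩
  · rintro ⟨a, rfl⟩
    by_cases ha : a = 0
    · left; rw [ha, XX_zero]
    · right
      ext x
      rw [mem_fixedBy, Set.mem_singleton_iff]
      constructor
      · intro hx
        rcases H81.eq_pt0_or_ptz x with rfl | ⟨z, rfl⟩
        · rfl
        · exfalso
          rw [XX_smul_ptz, ptz_eq_iff] at hx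
          apply ha
          apply (map_eq_zero_iff _ (algebraMap F K).injective).1
          linear_combination hx
      · rintro rfl
        exact XX_smul_pt0 a

theorem card_U_pt0 : Nat.card ((mobF (p := p) (F := F) (K := K)).U (pt0 K)) = Nat.card F := by
  symm
  refine Nat.card_eq_of_bijective (f := fun a : F => ⟨XX a, mem_U_pt0.2 ⟨a, rfl⟩⟩) ⟨?_, ?_⟩
  · intro a b hab
    exact XX_inj (congrArg Subtype.val hab)
  · rintro ⟨g, hg⟩
    obtain ⟨a, rfl⟩ := mem_U_pt0.1 hg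
    exact ⟨a, rfl⟩

theorem fullF [Finite F] : (mobF (p := p) (F := F) (K := K)).Full (pt0 K) := by
  refine ⟨?_, ?_⟩
  · intro h
    have h1 : XX (1 : F) ∈ (mobF (p := p) (F := F) (K := K)).U (pt0 K) := mem_U_pt0.2 ⟨1, rfl⟩
    rw [h] at h1
    have h2 : XX (1 : F) = 1 := h1
    exact one_ne_zero (XX_inj (h2.trans XX_zero.symm))
  · rw [orbit_pt0, card_Rat, card_U_pt0]

instance finite_pgl [Finite F] : Finite PGL(2, F) := by
  unfold Matrix.ProjGenLinGroup
  infer_instance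

theorem field_case [Finite F] (H : Subgroup PGL(2, F))
    (hF : ((mobF (p := p) (F := F) (K := K)).subgroup H).Full (pt0 K))
    (h0 : ptz K 0 ∈ orbit H (pt0 K)) (h1 : ptz K 1 ∈ orbit H (pt0 K)) :
    ∃ K0 : Subfield F, (∀ a, a ∈ K0 ↔ XX a ∈ H) ∧ (H = PGLs K0 ∨ H = PSLs K0) := by
  let A : AddSubgroup F :=
    { carrier := {a | XX a ∈ H}
      add_mem' := fun {a b} ha hb => by
        show XX (a + b) ∈ H
        rw [XX_add]; exact mul_mem ha hb
      zero_mem' := by
        show XX 0 ∈ H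
        rw [XX_zero]; exact one_mem _
      neg_mem' := fun {a} ha => by
        show XX (-a) ∈ H
        rw [XX_neg]; exact inv_mem ha }
  have hA : ∀ a, a ∈ A ↔ XX a ∈ H := fun _ => Iff.rfl
  -- the orbit
  have horb : ∀ z : ℙ K (Fin 2 → K), z ∈ orbit H (pt0 K) → z ≠ pt0 K →
      ∃ a ∈ A, z = ptz K (aK a) := by
    intro z hz hne
    obtain ⟨u, hu, hu'⟩ := hF.reg (mem_orbit_self _) h0 hz (H81.pt0_ne_ptz _).symm hne
    rw [(mobF (p := p) (F := F) (K := K)).mem_U_subgroup, mem_U_pt0] at hu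
    obtain ⟨a, ha⟩ := hu
    refine ⟨a, ?_, ?_⟩
    · rw [hA, ← ha]; exact u.2
    · rw [← hu']
      change (u : PGL(2, F)) • ptz K 0 = _
      rw [ha, XX_smul_ptz, zero_add]
  have hone : (1 : F) ∈ A := by
    obtain ⟨a, ha, ha'⟩ := horb _ h1 (H81.pt0_ne_ptz _).symm
    rw [ptz_eq_iff, ← map_one (algebraMap F K)] at ha'
    rw [(algebraMap F K).injective ha']
    exact ha
  -- the Weyl element
  obtain ⟨s, hs1, hs2⟩ := hF.swap (mem_orbit_self _) h0 (H81.pt0_ne_ptz _)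
  obtain ⟨s0, hs0⟩ := ProjGenLinGroup.mk_surjective (s : PGL(2, F))
  have hs1' : (ProjGenLinGroup.mk s0 : PGL(2, F)) • pt0 K = ptz K 0 := by rw [hs0]; exact hs1
  have hs2' : (ProjGenLinGroup.mk s0 : PGL(2, F)) • ptz K 0 = pt0 K := by rw [hs0]; exact hs2
  have h00 : s0.1 0 0 = 0 := by
    rw [mk_smul_pt0_ptz_iff, zero_mul] at hs1'
    exact (map_eq_zero_iff _ (algebraMap F K).injective).1 hs1'
  have h11 : s0.1 1 1 = 0 := by
    by_contra hne
    have h2 : (ProjGenLinGroup.mk s0 : PGL(2, F)) • ptz K 0 = ptz K (aK (s0.1 0 1 / s0.1 1 1)) := by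
      rw [mk_smul_ptz_iff, mul_zero, mul_zero, zero_add, zero_add, ← map_mul]
      congr 1
      field_simp
    rw [hs2'] at h2
    exact H81.pt0_ne_ptz _ h2
  have hdet : s0.1 0 1 ≠ 0 ∧ s0.1 1 0 ≠ 0 := by
    have hd := s0.det.ne_zero
    rw [GeneralLinearGroup.val_det_apply, Matrix.det_fin_two] at hd
    change s0.1 0 0 * s0.1 1 1 - s0.1 0 1 * s0.1 1 0 ≠ 0 at hd
    rw [h00, zero_mul, zero_sub, neg_ne_zero] at hd
    exact ⟨left_ne_zero_of_mul hd, right_ne_zero_of_mul hd⟩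
  set μ := s0.1 0 1 / s0.1 1 0 with hμdef
  have hμ : μ ≠ 0 := div_ne_zero hdet.1 hdet.2
  have hsW : (s : PGL(2, F)) = WW μ hμ := by
    rw [← hs0]
    symm
    unfold WW
    rw [ProjGenLinGroup.mk_eq_mk_iff]
    refine ⟨Units.mk0 _ hdet.2, ?_⟩
    apply Units.ext
    show !![0, μ; 1, 0] * Matrix.scalar (Fin 2) (s0.1 1 0) = s0.1
    ext i j
    fin_cases i <;> fin_cases j
    · simpa [Matrix.mul_apply, Fin.sum_univ_two] using h00.symm
    · simp [Matrix.mul_apply, Fin.sum_univ_two, hμdef]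
      field_simp [hdet.2]
    · simp [Matrix.mul_apply, Fin.sum_univ_two]
    · simpa [Matrix.mul_apply, Fin.sum_univ_two] using h11.symm
  have hWH : WW μ hμ ∈ H := by rw [← hsW]; exact s.2
  have hi : ∀ a ∈ A, a ≠ 0 → μ / a ∈ A := by
    intro a ha ha0
    have ha0' : aK a ≠ 0 := fun h => ha0 ((map_eq_zero_iff _ (algebraMap F K).injective).1 h)
    have h2 : WW μ hμ • ptz K (aK a) = ptz K (aK (μ / a)) := by
      rw [WW_smul_ptz _ _ ha0', ← map_div₀]
    have h3 : ptz K (aK (μ / a)) ∈ orbit H (pt0 K) := by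
      rw [← h2]
      have h4 : ptz K (aK a) = XX a • ptz K 0 := by rw [XX_smul_ptz, zero_add]
      obtain ⟨b, hb⟩ := h0
      have hb : (b : PGL(2, F)) • pt0 K = ptz K 0 := hb
      refine ⟨⟨WW μ hμ, hWH⟩ * ⟨XX a, ha⟩ * b, ?_⟩
      change (WW μ hμ * XX a * (b : PGL(2, F))) • pt0 K = _
      rw [mul_smul, mul_smul, hb, ← h4]
    obtain ⟨b, hb, hb'⟩ := horb _ h3 (H81.pt0_ne_ptz _).symm
    rw [ptz_eq_iff] at hb'
    rw [(algebraMap F K).injective hb']
    exact hb
  obtain ⟨K0, hK0⟩ := hua_closed A hone hμ hi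
  have hμK : μ ∈ K0 := by
    rw [hK0]
    have := hi 1 hone one_ne_zero
    rwa [div_one] at this
  refine ⟨K0, fun a => (hK0 a).trans (hA a), ?_⟩
  apply eq_PGLs_or
  · exact PSLs_le (fun a ha => (hK0 a).1 ha) hμ hμK hWH
  · -- H ≤ PGLs
    have hstab : ∀ h ∈ H, h • pt0 K = pt0 K → h ∈ PGLs K0 := by
      intro h hh hfix
      have hne : ∀ z : ℙ K (Fin 2 → K), z ≠ pt0 K → h • z ≠ pt0 K := by
        intro z hz hz'
        apply hz
        apply smul_left_cancel h
        rw [hz', hfix]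
      have horbh : ∀ z : ℙ K (Fin 2 → K), z ∈ orbit H (pt0 K) → h • z ∈ orbit H (pt0 K) := by
        rintro _ ⟨b, rfl⟩
        exact ⟨⟨h, hh⟩ * b, mul_smul _ _ _⟩
      obtain ⟨β, hβ, hβ'⟩ := horb _ (horbh _ h0) (hne _ (H81.pt0_ne_ptz _).symm)
      obtain ⟨γ, hγ, hγ'⟩ := horb _ (horbh _ h1) (hne _ (H81.pt0_ne_ptz _).symm)
      have hne2 : γ - β ≠ 0 := by
        intro h2
        have h3 : γ = β := sub_eq_zero.1 h2
        rw [h3, ← hβ'] at hγ'
        have := smul_left_cancel h hγ'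
        exact zero_ne_one (H81.ptz_injective this).symm
      have h5 : h = XX β * DD (γ - β) hne2 := by
        apply eq_of_three (K := K)
        · rw [mul_smul, DD_smul_pt0, XX_smul_pt0, hfix]
        · rw [mul_smul, DD_smul_ptz, XX_smul_ptz, hβ', mul_zero, zero_add]
        · rw [mul_smul, DD_smul_ptz, XX_smul_ptz, hγ', mul_one, ← map_add]
          congr 2; ring
      rw [h5]
      exact mul_mem (XX_mem_PGLs ((hK0 _).2 hβ)) (DD_mem_PGLs (sub_mem ((hK0 _).2 hγ) ((hK0 _).2 hβ)) hne2)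
    intro h hh
    by_cases hfix : h • pt0 K = pt0 K
    · exact hstab h hh hfix
    · obtain ⟨c, hc, hc'⟩ := horb (h • pt0 K) ⟨⟨h, hh⟩, rfl⟩ hfix
      have hk : WW μ hμ * XX (-c) * h ∈ PGLs K0 := by
        apply hstab
        · exact mul_mem (mul_mem hWH (by rw [XX_neg]; exact inv_mem hc)) hh
        · rw [mul_smul, mul_smul, hc', XX_smul_ptz, map_neg, add_neg_cancel, WW_smul_ptz_zero]
      have h6 : WW μ hμ * XX (-c) ∈ PGLs K0 :=
        mul_mem (WW_mem_PGLs hμK hμ) (XX_mem_PGLs (neg_mem ((hK0 _).2 hc)))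
      exact (Subgroup.mul_mem_cancel_left _ h6).1 hk

end main

end Cfsg.Agent.Dk
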