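import Mathlib
import Cfsg.Agent.Dk.FieldCase

/-! `PGL₂(q)` and `PSL₂(q)` as Moebius groups: numerical data. -/

set_option autoImplicit false

namespace Cfsg.Agent.Dk

open MulAction Matrix LinearAlgebra.Projectivization Projectivization Subgroup
open scoped MatrixGroups
open H81 (pt0 pt1 ptz ptc)

section gen

variable {p : ℕ} {Γ X K : Type*} [Group Γ] [MulAction Γ X] [Field K] {M : Mob p Γ X K}
  [Finite Γ] {z0 : X}

theorem Mob.Full.card_dvd [Fact p.Prime] [CharP K p] (hF : M.Full z0) {C : Subgroup Γ} {z : X}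
    (hz : ∀ c ∈ C, c • z = z) (hp : ¬ p ∣ Nat.card C) :
    Nat.card C ∣ M.t z0 ∨
      ∃ m, Nat.card C ∣ m ∧ m * (Nat.card (M.U z0) - 1) = (Nat.card (M.U z0) + 1) * M.t z0 := by
  by_cases hC : C = ⊥
  · left; rw [hC, Subgroup.card_bot]; exact one_dvd _
  have hle : C ≤ stabilizer Γ z := fun c hc => hz c hc
  have hOm : z ∈ Om Γ X := by
    intro h
    rw [h] at hle
    exact hC (le_bot_iff.1 hle)
  obtain ⟨x, hx1, hx2, hx3, hx4, hx5, hx6⟩ := hF.exists_irr
  rcases hx3 z hOm with h | h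
  · left
    have h1 : Nat.card C ∣ Nat.card (stabilizer Γ z) := Subgroup.card_dvd_of_le hle
    rw [card_stab_of_mem h, M.card_stab] at h1
    refine Nat.Coprime.dvd_of_dvd_mul_left ?_ h1
    obtain ⟨k, hk⟩ := IsPGroup.iff_card.1 (M.isPGroup_U z0)
    rw [hk]
    apply Nat.Coprime.pow_right
    exact ((Nat.Prime.coprime_iff_not_dvd Fact.out).2 hp).symm
  · right
    refine ⟨Nat.card (stabilizer Γ x), ?_, hx6⟩
    rw [← card_stab_of_mem h]
    exact Subgroup.card_dvd_of_le hle

end gen

section pgl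

variable {F K : Type*} [Field F] [Field K] [Algebra F K]

attribute [local instance 10] pact

variable {p : ℕ} [CharP K p] [IsAlgClosed K] [Finite F]

theorem card_pgl : Nat.card PGL(2, F) = Nat.card F * ((Nat.card F - 1) * (Nat.card F + 1)) := by
  have := Fintype.ofFinite F
  rw [Nat.card_eq_fintype_card (α := F)]
  exact H14.SubField.card_PGL2

theorem t_pgl : (mobF (p := p) (F := F) (K := K)).t (pt0 K) = Nat.card F - 1 := by
  have h := (mobF (p := p) (F := F) (K := K)).card_eq_orbit (pt0 K)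
  rw [orbit_pt0, card_Rat, card_U_pt0, card_pgl] at h
  have hpos : 0 < Nat.card F := Nat.card_pos
  have h1 : (Nat.card F * (Nat.card F + 1)) * (mobF (p := p) (F := F) (K := K)).t (pt0 K) =
      (Nat.card F * (Nat.card F + 1)) * (Nat.card F - 1) := by
    calc _ = (Nat.card F + 1) * (Nat.card F * (mobF (p := p) (F := F) (K := K)).t (pt0 K)) := by ring
      _ = _ := h
      _ = _ := by ring
  exact Nat.eq_of_mul_eq_mul_left (by positivity) h1

end pgl

section psl

variable (F K : Type*) [Field F] [Field K] [Algebra F K]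

/-- the embedding of `PSL₂(F)` -/
noncomputable def toP : PSL(2, F) →* PGL(2, F) := ProjectiveSpecialLinearGroup.toPGL

/-- `PSL₂(F)` acts on the projective line over `K` -/
@[reducible] noncomputable def sact : MulAction PSL(2, F) (ℙ K (Fin 2 → K)) :=
  MulAction.compHom _ ((emb F K).comp (toP F))

end psl

section psl2

variable {F K : Type*} [Field F] [Field K] [Algebra F K]

attribute [local instance 10] pact sact

local notation "aK" => algebraMap F K

theorem toP_injective : Function.Injective (toP F) := ProjectiveSpecialLinearGroup.toPGL_injective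

theorem toP_mk (s : SL(2, F)) : toP F (QuotientGroup.mk s) =
    ProjGenLinGroup.mk (SpecialLinearGroup.toGL s) := rfl

theorem toP_range : (toP F).range = PSLr F := by
  ext g
  constructor
  · rintro ⟨x, rfl⟩
    induction x using QuotientGroup.induction_on with
    | H s => exact ⟨s, rfl⟩
  · rintro ⟨s, rfl⟩
    exact ⟨QuotientGroup.mk s, rfl⟩

theorem sact_def (g : PSL(2, F)) (x : ℙ K (Fin 2 → K)) : g • x = toP F g • x := rfl

/-- unipotent elements of `PSL₂` -/
noncomputable def XS (a : F) : PSL(2, F) := QuotientGroup.mk (H81.xx a)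

/-- the Weyl element -/
noncomputable def WS (F : Type*) [Field F] : PSL(2, F) :=
  QuotientGroup.mk (⟨!![0, -1; 1, 0], by simp [Matrix.det_fin_two]⟩ : SL(2, F))

theorem toP_XS (a : F) : toP F (XS a) = XX a := rfl

theorem toP_WS : toP F (WS F) = WW (-1) (neg_ne_zero.2 one_ne_zero) := by
  show ProjGenLinGroup.mk (SpecialLinearGroup.toGL _) = ProjGenLinGroup.mk (wm _ _)
  congr 1
  apply Units.ext
  rfl

instance finite_psl [Finite F] : Finite PSL(2, F) :=
  Finite.of_injective _ toP_injective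

variable {p : ℕ} [CharP K p] [IsAlgClosed K]

theorem mobS : Mob p PSL(2, F) (ℙ K (Fin 2 → K)) K :=
  mob_pgl.comap ((emb F K).comp (toP F)) (emb_injective.comp toP_injective) (fun _ _ => rfl)

theorem mem_US {g : PSL(2, F)} {z : ℙ K (Fin 2 → K)} :
    g ∈ (mobS (p := p) (F := F) (K := K)).U z ↔ toP F g ∈ (mobF (p := p) (F := F) (K := K)).U z := by
  rw [Mob.mem_U, Mob.mem_U]
  have h1 : fixedBy (ℙ K (Fin 2 → K)) g = fixedBy (ℙ K (Fin 2 → K)) (toP F g) := rfl
  rw [h1]
  have h2 : toP F g = 1 ↔ g = 1 := by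
    rw [← map_one (toP F), toP_injective.eq_iff]
  rw [h2]

theorem card_US_pt0 : Nat.card ((mobS (p := p) (F := F) (K := K)).U (pt0 K)) = Nat.card F := by
  symm
  refine Nat.card_eq_of_bijective (f := fun a : F => ⟨XS a, mem_US.2 (mem_U_pt0.2 ⟨a, toP_XS a⟩)⟩)
    ⟨?_, ?_⟩
  · intro a b hab
    have h : XS a = XS b := congrArg Subtype.val hab
    apply XX_inj
    rw [← toP_XS, ← toP_XS, h]
  · rintro ⟨g, hg⟩
    obtain ⟨a, ha⟩ := mem_U_pt0.1 (mem_US.1 hg)
    refine ⟨a, Subtype.ext (toP_injective ?_)⟩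
    rw [toP_XS, ha]

theorem orbitS_pt0 : orbit PSL(2, F) (pt0 K) = RatPts F K := by
  ext x
  constructor
  · rintro ⟨g, rfl⟩
    rw [← orbit_pt0]
    exact ⟨toP F g, rfl⟩
  · rintro (rfl | ⟨a, rfl⟩)
    · exact mem_orbit_self _
    · refine ⟨XS a * WS F, ?_⟩
      show (XS a * WS F) • pt0 K = _
      rw [mul_smul, sact_def, sact_def, toP_XS, toP_WS, WW_smul_pt0, XX_smul_ptz, zero_add]

theorem fullS [Finite F] : (mobS (p := p) (F := F) (K := K)).Full (pt0 K) := by
  refine ⟨?_, ?_⟩
  · rw [← Subgroup.one_lt_card_iff_ne_bot, card_US_pt0]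
    exact Finite.one_lt_card
  · rw [orbitS_pt0, card_Rat, card_US_pt0]

theorem card_psl [Finite F] : Nat.gcd 2 (Nat.card F - 1) * Nat.card PSL(2, F) =
    Nat.card F * ((Nat.card F - 1) * (Nat.card F + 1)) := by
  have := Fintype.ofFinite F
  rw [Nat.card_eq_fintype_card (α := F)]
  have h := H4.card_PSL_mul (F := F) 2 (by norm_num)
  rw [H81.card_sl2] at h
  rw [mul_comm]
  rw [mul_comm] at h
  linarith [h]

theorem t_psl [Finite F] : Nat.gcd 2 (Nat.card F - 1) * (mobS (p := p) (F := F) (K := K)).t (pt0 K) =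
    Nat.card F - 1 := by
  have h := (mobS (p := p) (F := F) (K := K)).card_eq_orbit (pt0 K)
  rw [orbitS_pt0, card_Rat, card_US_pt0] at h
  have h2 := card_psl (F := F)
  rw [← h] at h2
  have hpos : 0 < Nat.card F := Nat.card_pos
  have hpos2 : 0 < Nat.card F * (Nat.card F + 1) := by positivity
  refine Nat.eq_of_mul_eq_mul_left hpos2 ?_
  calc Nat.card F * (Nat.card F + 1) * (Nat.gcd 2 (Nat.card F - 1) *
        (mobS (p := p) (F := F) (K := K)).t (pt0 K))
      = Nat.gcd 2 (Nat.card F - 1) * ((Nat.card F + 1) * (Nat.card F *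
        (mobS (p := p) (F := F) (K := K)).t (pt0 K))) := by ring
    _ = _ := h2
    _ = _ := by ring

/-- orders of semisimple subgroups fixing a point, `PGL₂` -/
theorem card_dvd_pgl [Finite F] [Fact p.Prime] {C : Subgroup PGL(2, F)} {z : ℙ K (Fin 2 → K)}
    (hz : ∀ c ∈ C, c • z = z) (hp : ¬ p ∣ Nat.card C) :
    Nat.card C ∣ Nat.card F - 1 ∨ Nat.card C ∣ Nat.card F + 1 := by
  rcases (fullF (p := p) (F := F) (K := K)).card_dvd hz hp with h | ⟨m, h1, h2⟩
  · left; rwa [t_pgl] at h
  · right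
    rw [t_pgl, card_U_pt0] at h2
    have h3 : 0 < Nat.card F - 1 := by
      have := Finite.one_lt_card (α := F); omega
    have : m = Nat.card F + 1 := Nat.eq_of_mul_eq_mul_right h3 h2
    rwa [← this]

/-- orders of semisimple subgroups fixing a point, `PSL₂` -/
theorem card_dvd_psl [Finite F] [Fact p.Prime] {C : Subgroup PSL(2, F)} {z : ℙ K (Fin 2 → K)}
    (hz : ∀ c ∈ C, c • z = z) (hp : ¬ p ∣ Nat.card C) :
    Nat.card C ∣ (Nat.card F - 1) / Nat.gcd 2 (Nat.card F - 1) ∨
      Nat.card C ∣ (Nat.card F + 1) / Nat.gcd 2 (Nat.card F - 1) := by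
  have h3 : 0 < Nat.card F - 1 := by
    have := Finite.one_lt_card (α := F); omega
  have hd : 0 < Nat.gcd 2 (Nat.card F - 1) := Nat.gcd_pos_of_pos_left _ (by norm_num)
  have ht := t_psl (F := F) (K := K) (p := p)
  have ht' : (Nat.card F - 1) / Nat.gcd 2 (Nat.card F - 1) =
      (mobS (p := p) (F := F) (K := K)).t (pt0 K) :=
    Nat.div_eq_of_eq_mul_right hd ht.symm
  rcases (fullS (p := p) (F := F) (K := K)).card_dvd hz hp with h | ⟨m, h1, h2⟩
  · left; rwa [ht']
  · right
    rw [card_US_pt0] at h2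
    have h4 : Nat.gcd 2 (Nat.card F - 1) * m = Nat.card F + 1 := by
      apply Nat.eq_of_mul_eq_mul_right h3
      calc Nat.gcd 2 (Nat.card F - 1) * m * (Nat.card F - 1)
          = Nat.gcd 2 (Nat.card F - 1) * (m * (Nat.card F - 1)) := by ring
        _ = Nat.gcd 2 (Nat.card F - 1) * ((Nat.card F + 1) *
            (mobS (p := p) (F := F) (K := K)).t (pt0 K)) := by rw [h2]
        _ = (Nat.card F + 1) * (Nat.gcd 2 (Nat.card F - 1) *
            (mobS (p := p) (F := F) (K := K)).t (pt0 K)) := by ring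
        _ = _ := by rw [ht]
    rw [← h4, Nat.mul_div_cancel_left _ hd]
    exact h1

end psl2

end Cfsg.Agent.Dk
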