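import Mathlib
import Cfsg.Agent.Dk.PSL

/-! Dickson's theorem: the subfield subgroups. -/

set_option autoImplicit false

namespace Cfsg.Agent.Dk

open MulAction Matrix LinearAlgebra.Projectivization Projectivization Subgroup
open scoped MatrixGroups
open H81 (pt0 pt1 ptz ptc)

section conj

variable {Γ X : Type*} [Group Γ] [MulAction Γ X]

/-- conjugate of a subgroup -/
def cj (g : Γ) (H : Subgroup Γ) : Subgroup Γ := H.map (MulAut.conj g).toMonoidHom

theorem mem_cj {g x : Γ} {H : Subgroup Γ} : x ∈ cj g H ↔ g⁻¹ * x * g ∈ H := by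
  constructor
  · rintro ⟨y, hy, rfl⟩
    have : g⁻¹ * (g * y * g⁻¹) * g = y := by group
    show g⁻¹ * (g * y * g⁻¹) * g ∈ H
    rw [this]; exact hy
  · intro h
    refine ⟨_, h, ?_⟩
    show g * (g⁻¹ * x * g) * g⁻¹ = x
    group

theorem conj_mem_cj {g x : Γ} {H : Subgroup Γ} : g * x * g⁻¹ ∈ cj g H ↔ x ∈ H := by
  rw [mem_cj]
  have : g⁻¹ * (g * x * g⁻¹) * g = x := by group
  rw [this]

theorem cj_cj (g h : Γ) (H : Subgroup Γ) : cj g (cj h H) = cj (g * h) H := by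
  ext x
  rw [mem_cj, mem_cj, mem_cj]
  have : h⁻¹ * (g⁻¹ * x * g) * h = (g * h)⁻¹ * x * (g * h) := by group
  rw [this]

theorem cj_one (H : Subgroup Γ) : cj 1 H = H := by
  ext x
  rw [mem_cj]; simp

theorem cj_inv_cj (g : Γ) (H : Subgroup Γ) : cj g⁻¹ (cj g H) = H := by
  rw [cj_cj, inv_mul_cancel, cj_one]

theorem cj_cj_inv (g : Γ) (H : Subgroup Γ) : cj g (cj g⁻¹ H) = H := by
  rw [cj_cj, mul_inv_cancel, cj_one]

/-- a conjugate is isomorphic -/
noncomputable def cjEquiv (g : Γ) (H : Subgroup Γ) : H ≃* cj g H :=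
  H.equivMapOfInjective _ (MulAut.conj g).injective

theorem card_cj (g : Γ) (H : Subgroup Γ) : Nat.card (cj g H) = Nat.card H :=
  (Nat.card_congr (cjEquiv g H).toEquiv).symm

theorem cj_mono {g : Γ} {H L : Subgroup Γ} : cj g H ≤ cj g L ↔ H ≤ L := by
  constructor
  · intro h x hx
    exact conj_mem_cj.1 (h (conj_mem_cj.2 hx))
  · intro h x hx
    rw [mem_cj] at hx ⊢
    exact h hx

theorem mem_orbit_cj {g : Γ} {H : Subgroup Γ} {x y : X} :
    g • y ∈ orbit (cj g H) (g • x) ↔ y ∈ orbit H x := by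
  constructor
  · rintro ⟨⟨k, hk⟩, h⟩
    have h : k • g • x = g • y := h
    refine ⟨⟨g⁻¹ * k * g, mem_cj.1 hk⟩, ?_⟩
    show (g⁻¹ * k * g) • x = y
    rw [mul_smul, mul_smul, h, inv_smul_smul]
  · rintro ⟨⟨k, hk⟩, h⟩
    have h : k • x = y := h
    refine ⟨⟨g * k * g⁻¹, conj_mem_cj.2 hk⟩, ?_⟩
    show (g * k * g⁻¹) • g • x = g • y
    rw [mul_smul, mul_smul, inv_smul_smul, h]

theorem card_orbit_cj (g : Γ) (H : Subgroup Γ) (x : X) :
    Nat.card (orbit (cj g H) (g • x)) = Nat.card (orbit H x) := by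
  symm
  refine Nat.card_eq_of_bijective (f := fun y : orbit H x => ⟨g • (y : X), mem_orbit_cj.2 y.2⟩)
    ⟨?_, ?_⟩
  · intro a b hab
    have h : g • (a : X) = g • (b : X) :=
      congrArg (fun z : orbit (cj g H) (g • x) => (z : X)) hab
    exact Subtype.ext (smul_left_cancel g h)
  · rintro ⟨y, hy⟩
    have h : g • g⁻¹ • y ∈ orbit (cj g H) (g • x) := by rwa [smul_inv_smul]
    exact ⟨⟨g⁻¹ • y, mem_orbit_cj.1 h⟩, Subtype.ext (smul_inv_smul g y)⟩

end conj

section conjM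

variable {p : ℕ} {Γ X K : Type*} [Group Γ] [MulAction Γ X] [Field K] (M : Mob p Γ X K)

theorem card_U_cj (g : Γ) (H : Subgroup Γ) (x : X) :
    Nat.card ((M.subgroup (cj g H)).U (g • x)) = Nat.card ((M.subgroup H).U x) := by
  symm
  refine Nat.card_eq_of_bijective (f := fun u : (M.subgroup H).U x =>
    (⟨⟨g * (u.1 : Γ) * g⁻¹, conj_mem_cj.2 u.1.2⟩, ?_⟩ : (M.subgroup (cj g H)).U (g • x))) ⟨?_, ?_⟩
  · rw [M.mem_U_subgroup]
    exact (M.conj_mem_U g).2 (M.mem_U_subgroup.1 u.2)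
  · intro a b hab
    have h : g * (a.1 : Γ) * g⁻¹ = g * (b.1 : Γ) * g⁻¹ :=
      congrArg (fun z : (M.subgroup (cj g H)).U (g • x) => ((z : cj g H) : Γ)) hab
    exact Subtype.ext (Subtype.ext (mul_left_cancel (mul_right_cancel h)))
  · rintro ⟨⟨v, hv⟩, hvU⟩
    rw [M.mem_U_subgroup] at hvU
    have hvU : v ∈ M.U (g • x) := hvU
    have e : g * (g⁻¹ * v * g) * g⁻¹ = v := by group
    refine ⟨⟨⟨g⁻¹ * v * g, mem_cj.1 hv⟩, ?_⟩, ?_⟩
    · rw [M.mem_U_subgroup]
      show g⁻¹ * v * g ∈ M.U x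
      rw [← M.conj_mem_U g, e]; exact hvU
    · apply Subtype.ext
      apply Subtype.ext
      exact e

theorem full_cj {g : Γ} {H : Subgroup Γ} {x : X} [Finite H] (hF : (M.subgroup H).Full x) :
    (M.subgroup (cj g H)).Full (g • x) := by
  have : Finite (cj g H) := Finite.of_equiv _ (cjEquiv g H).toEquiv
  refine ⟨?_, ?_⟩
  · rw [← Subgroup.one_lt_card_iff_ne_bot, card_U_cj M, Subgroup.one_lt_card_iff_ne_bot]
    exact hF.hU
  · rw [card_orbit_cj, card_U_cj M, hF.hN]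

end conjM

section dick

variable {F K : Type*} [Field F] [Field K] [Algebra F K]

attribute [local instance 10] pact

variable {p : ℕ} [CharP K p] [IsAlgClosed K] [Finite F] [hp : Fact p.Prime]

/-- points with non trivial unipotent stabilizer are rational -/
theorem rat_of_U {H : Subgroup PGL(2, F)} {z : ℙ K (Fin 2 → K)}
    (h : ((mobF (p := p) (F := F) (K := K)).subgroup H).U z ≠ ⊥) : z ∈ RatPts F K := by
  rw [← orbit_pt0]
  apply (mobF (p := p) (F := F) (K := K)).exists_smul_eq fullF.hU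
  intro hb
  exact h (Mob.U_mono_bot _ hb)

theorem card_K0 {H : Subgroup PGL(2, F)} {K0 : Subfield F} (h : ∀ a, a ∈ K0 ↔ XX a ∈ H) :
    Nat.card K0 = Nat.card (((mobF (p := p) (F := F) (K := K)).subgroup H).U (pt0 K)) := by
  refine Nat.card_eq_of_bijective (f := fun a : K0 => ⟨⟨XX (a : F), (h _).1 a.2⟩, ?_⟩) ⟨?_, ?_⟩
  · rw [(mobF (p := p) (F := F) (K := K)).mem_U_subgroup, mem_U_pt0]
    exact ⟨_, rfl⟩
  · intro a b hab
    have h1 : XX (a : F) = XX (b : F) := congrArg (fun z : ((mobF (p := p) (F := F)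
      (K := K)).subgroup H).U (pt0 K) => ((z : H) : PGL(2, F))) hab
    exact Subtype.ext (XX_inj h1)
  · rintro ⟨⟨v, hv⟩, hvU⟩
    rw [(mobF (p := p) (F := F) (K := K)).mem_U_subgroup, mem_U_pt0] at hvU
    obtain ⟨a, ha⟩ := hvU
    have ha : v = XX a := ha
    subst ha
    exact ⟨⟨a, (h a).2 hv⟩, rfl⟩

/-- Dickson's theorem, the subfield case. -/
theorem dickson_field (H : Subgroup PGL(2, F)) {z : ℙ K (Fin 2 → K)}
    (hF : ((mobF (p := p) (F := F) (K := K)).subgroup H).Full z) :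
    ∃ (g : PGL(2, F)) (K0 : Subfield F), (∀ a, a ∈ K0 ↔ XX a ∈ cj g H) ∧
      (cj g H = PGLs K0 ∨ cj g H = PSLs K0) ∧ g • z = pt0 K ∧
      Nat.card K0 = Nat.card (((mobF (p := p) (F := F) (K := K)).subgroup H).U z) := by
  have hc := (Subgroup.one_lt_card_iff_ne_bot _).2 hF.hU
  have h3 : 2 < (orbit H z).ncard := by
    rw [← Nat.card_coe_set_eq, hF.hN]; omega
  -- two further points
  obtain ⟨y, hy, hyz⟩ : ∃ y ∈ orbit H z, y ≠ z := by
    apply exists_other
    rw [hF.hN]; omega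
  obtain ⟨x, hx, hxz, hxy⟩ : ∃ x ∈ orbit H z, x ≠ z ∧ x ≠ y := by
    by_contra hcon
    push Not at hcon
    have h4 : orbit H z ⊆ {z, y} := by
      intro w hw
      by_cases h : w = z
      · left; exact h
      · right; exact hcon w hw h
    have h5 := Set.ncard_le_ncard h4 (Set.toFinite _)
    have h6 := Set.ncard_insert_le z {y}
    rw [Set.ncard_singleton] at h6
    omega
  have hUorb : ∀ w ∈ orbit H z, w ∈ RatPts F K := by
    intro w hw
    exact rat_of_U (p := p) (H := H) (U_ne_bot_of_mem hF.hU hw)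
  obtain ⟨g, hg1, hg2, hg3⟩ := exists_normal (hUorb z (mem_orbit_self _)) (hUorb y hy) (hUorb x hx)
    hyz.symm hxz.symm hxy.symm
  have hF' := full_cj (mobF (p := p) (F := F) (K := K)) (g := g) hF
  rw [hg1] at hF'
  obtain ⟨K0, hK1, hK2⟩ := field_case (cj g H) hF'
    (by rw [← hg1, ← hg2]; exact mem_orbit_cj.2 hy)
    (by rw [← hg1, ← hg3]; exact mem_orbit_cj.2 hx)
  refine ⟨g, K0, hK1, hK2, hg1, ?_⟩
  rw [card_K0 (p := p) (K := K) hK1, ← hg1, card_U_cj mobF]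

end dick

end Cfsg.Agent.Dk
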