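import Mathlib
import Cfsg.Agent.Dk.Dick

/-! Isomorphism types of the subfield subgroups. -/

set_option autoImplicit false

namespace Cfsg.Agent.Dk

open MulAction Matrix Subgroup
open scoped MatrixGroups

section iso

theorem nonempty_psl_iso {k k' : Type*} [Field k] [Field k'] (e : k ≃+* k') :
    Nonempty (PSL(2, k) ≃* PSL(2, k')) := by
  refine ⟨MulEquiv.ofBijective (H14.SubField.pslMap e.toRingHom)
    ⟨H14.SubField.pslMap_injective _, ?_⟩⟩
  intro x
  induction x using QuotientGroup.induction_on with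
  | H s =>
    refine ⟨QuotientGroup.mk (SpecialLinearGroup.map e.symm.toRingHom s), ?_⟩
    rw [H14.SubField.pslMap_mk]
    congr 1
    apply Subtype.ext
    ext i j
    show e (e.symm (s.1 i j)) = s.1 i j
    exact e.apply_symm_apply _

theorem nonempty_pgl_iso {k k' : Type*} [Field k] [Field k'] (e : k ≃+* k') :
    Nonempty (PGL(2, k) ≃* PGL(2, k')) := by
  refine ⟨MulEquiv.ofBijective (ProjGenLinGroup.map (n := Fin 2) e.toRingHom) ⟨?_, ?_⟩⟩
  · rw [injective_iff_map_eq_one]
    intro g hg
    obtain ⟨g0, rfl⟩ := ProjGenLinGroup.mk_surjective g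
    rw [ProjGenLinGroup.map_mk, mk_eq_one_iff] at hg
    rw [mk_eq_one_iff]
    obtain ⟨h1, h2, h3⟩ := hg
    have h1 : e (g0.1 1 0) = 0 := h1
    have h2 : e (g0.1 0 1) = 0 := h2
    have h3 : e (g0.1 1 1) = e (g0.1 0 0) := h3
    exact ⟨(map_eq_zero_iff _ e.injective).1 h1, (map_eq_zero_iff _ e.injective).1 h2,
      e.injective h3⟩
  · intro x
    obtain ⟨g, rfl⟩ := ProjGenLinGroup.mk_surjective x
    refine ⟨ProjGenLinGroup.mk (GeneralLinearGroup.map e.symm.toRingHom g), ?_⟩
    rw [ProjGenLinGroup.map_mk]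
    congr 1
    apply Units.ext
    ext i j
    show e (e.symm (g.1 i j)) = g.1 i j
    exact e.apply_symm_apply _

variable {F : Type*} [Field F]

theorem map_subtype_injective (K0 : Subfield F) :
    Function.Injective (ProjGenLinGroup.map (n := Fin 2) K0.subtype) :=
  emb_injective (F := K0) (K := F)

theorem pgls_iso (K0 : Subfield F) : Nonempty (PGLs K0 ≃* PGL(2, K0)) :=
  ⟨(MonoidHom.ofInjective (map_subtype_injective K0)).symm⟩

theorem psls_iso (K0 : Subfield F) : Nonempty (PSLs K0 ≃* PSL(2, K0)) := by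
  have e1 : PSLs K0 ≃* PSLr K0 :=
    ((PSLr K0).equivMapOfInjective _ (map_subtype_injective K0)).symm
  have e2 : PSL(2, K0) ≃* PSLr K0 :=
    (MonoidHom.ofInjective (toP_injective (F := K0))).trans (MulEquiv.subgroupCongr toP_range)
  exact ⟨e1.trans e2.symm⟩

/-- a finite field has a copy in `Type` -/
theorem exists_type_copy (k : Type*) [Field k] [Finite k] :
    ∃ (k' : Type) (_ : Field k') (_ : Fintype k'), Nonempty (k ≃+* k') ∧
      Fintype.card k' = Nat.card k := by
  classical
  have := Fintype.ofFinite k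
  obtain ⟨p, hpk⟩ := CharP.exists k
  have hp : Fact p.Prime := ⟨CharP.char_is_prime k p⟩
  obtain ⟨n, -, hn⟩ := FiniteField.card k p
  have h1 : Nat.card (GaloisField p n) = p ^ (n : ℕ) := GaloisField.card p n n.ne_zero
  have := Fintype.ofFinite (GaloisField p n)
  refine ⟨GaloisField p n, inferInstance, inferInstance, ?_, ?_⟩
  · exact ⟨FiniteField.ringEquivOfCardEq (K := k) (K' := GaloisField p n) (by
      rw [hn, ← h1, Nat.card_eq_fintype_card])⟩
  · rw [← Nat.card_eq_fintype_card, h1, Nat.card_eq_fintype_card, hn]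

theorem exists_pow_card [Finite F] (K0 : Subfield F) : ∃ m : ℕ, Nat.card K0 ^ m = Nat.card F :=
  ⟨Module.finrank K0 F, (Module.natCard_eq_pow_finrank (K := K0) (V := F)).symm⟩

end iso

end Cfsg.Agent.Dk
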