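import Mathlib
import Cfsg.Agent.Dk.Iso

/-! Dickson's list of the subgroups of `PSL₂(q)`. -/

set_option autoImplicit false

namespace Cfsg.Agent.Dk

open MulAction Matrix LinearAlgebra.Projectivization Projectivization Subgroup
open scoped MatrixGroups
open H81 (pt0 pt1 ptz ptc)

section

variable {F : Type*} [Field F]

attribute [local instance 10] pact sact


/-- the image of a subgroup of `PSL₂` in `PGL₂` -/
noncomputable def im (H : Subgroup PSL(2, F)) : Subgroup PGL(2, F) := H.map (toP F)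

noncomputable def imEquiv (H : Subgroup PSL(2, F)) : H ≃* im H :=
  H.equivMapOfInjective _ toP_injective

theorem toP_mem_im {H : Subgroup PSL(2, F)} {h : PSL(2, F)} : toP F h ∈ im H ↔ h ∈ H := by
  constructor
  · rintro ⟨k, hk, hkh⟩
    rw [← toP_injective hkh]; exact hk
  · intro hh; exact ⟨h, hh, rfl⟩

variable {p : ℕ} [hp : Fact p.Prime]

/-- Dickson's list -/
theorem dickson_psl (K : Type*) [Field K] [Algebra F K] [CharP K p] [IsAlgClosed K] [Finite F]
    (H : Subgroup PSL(2, F)) :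
    (∃ k : ℕ, (k ∣ (Nat.card F + 1) / Nat.gcd 2 (Nat.card F - 1) ∨
        k ∣ (Nat.card F - 1) / Nat.gcd 2 (Nat.card F - 1)) ∧
      ((IsCyclic H ∧ Nat.card H = k) ∨ Nonempty (H ≃* DihedralGroup k))) ∨
    (∃ P : Sylow p PSL(2, F), H ≤ normalizer ((P : Subgroup PSL(2, F)) : Set PSL(2, F))) ∨
    Nonempty (H ≃* alternatingGroup (Fin 4)) ∨ Nonempty (H ≃* Equiv.Perm (Fin 4)) ∨
    Nonempty (H ≃* alternatingGroup (Fin 5)) ∨
    (∃ (k : Type) (_ : Field k) (_ : Fintype k) (m : ℕ), Fintype.card k ^ m = Nat.card F ∧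
      (Nonempty (H ≃* PSL(2, k)) ∨ Nonempty (H ≃* PGL(2, k)))) := by
  have M := mobF (p := p) (F := F) (K := K)
  by_cases hbot : H = ⊥
  · left
    refine ⟨1, Or.inl (one_dvd _), Or.inl ⟨?_, ?_⟩⟩
    · rw [hbot]; infer_instance
    · rw [hbot, Subgroup.card_bot]
  have hnt : Nontrivial (im H) := by
    have : Nontrivial H := (Subgroup.nontrivial_iff_ne_bot H).2 hbot
    exact (imEquiv H).symm.toEquiv.nontrivial
  have hcard : Nat.card (im H) = Nat.card H := Nat.card_congr (imEquiv H).symm.toEquiv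
  rcases (M.subgroup (im H)).cases with h | h | h | h | h | h
  · -- fixed point
    obtain ⟨z, hz⟩ := h
    have hzH : ∀ h ∈ H, h • z = z := by
      intro h hh
      exact hz ⟨toP F h, toP_mem_im.2 hh⟩
    by_cases hpd : p ∣ Nat.card (im H)
    · obtain ⟨z', hz'⟩ := (M.subgroup (im H)).U_ne_bot_of_dvd hpd
      have hzz : z = z' := by
        obtain ⟨u, hu⟩ := (Subgroup.ne_bot_iff_exists_ne_one).1 hz'
        exact (M.subgroup (im H)).eq_of_mem_U u.2 (fun h' => hu (Subtype.ext h')) (hz _)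
      rw [← hzz] at hz'
      have hrat : z ∈ RatPts F K := rat_of_U (p := p) (H := im H) hz'
      rw [← orbitS_pt0] at hrat
      have MS := mobS (p := p) (F := F) (K := K)
      have hUz : MS.U z ≠ ⊥ := U_ne_bot_of_mem (M := MS) fullS.hU hrat
      obtain ⟨P, hP⟩ := MS.exists_sylow hUz
      right; left
      refine ⟨P, ?_⟩
      have h1 := MS.stab_le_normalizer_U z
      rw [← hP] at h1
      exact le_trans (fun h hh => hzH h hh) h1
    · left
      refine ⟨Nat.card H, ?_, Or.inl ⟨?_, rfl⟩⟩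
      · rw [hcard] at hpd
        exact (card_dvd_psl hzH hpd).symm
      · have hU : (M.subgroup (im H)).U z = ⊥ := by
          by_contra hne
          exact hpd ((M.subgroup (im H)).dvd_of_U_ne_bot hne)
        have h1 := (M.subgroup (im H)).stab_cyclic hU
        have h2 : stabilizer (im H) z = ⊤ := by
          rw [eq_top_iff]; intro g _; exact hz g
        rw [h2] at h1
        have h3 : IsCyclic (im H) := (MulEquiv.isCyclic Subgroup.topEquiv).1 h1
        exact (MulEquiv.isCyclic (imEquiv H)).2 h3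
  · -- dihedral
    obtain ⟨z, hU, ho⟩ := h
    left
    refine ⟨Nat.card (stabilizer (im H) z), ?_, Or.inr ?_⟩
    · have h1 : Nat.card (stabilizer (im H) z) = Nat.card (H ⊓ stabilizer PSL(2, F) z : Subgroup PSL(2, F)) := by
        symm
        refine Nat.card_eq_of_bijective (f := fun g => (⟨⟨toP F g.1, toP_mem_im.2 g.2.1⟩, ?_⟩ :
          stabilizer (im H) z)) ⟨?_, ?_⟩
        · exact g.2.2
        · intro a b hab
          have h2 : toP F a.1 = toP F b.1 := congrArg (fun s : stabilizer (im H) z => ((s : im H) : PGL(2, F))) hab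
          exact Subtype.ext (toP_injective h2)
        · rintro ⟨⟨_, ⟨g, hg, rfl⟩⟩, hs⟩
          exact ⟨⟨g, hg, hs⟩, rfl⟩
      have h2 := (M.subgroup (im H)).not_dvd_stab hU
      rw [h1] at h2 ⊢
      refine (card_dvd_psl (C := H ⊓ stabilizer PSL(2, F) z) (z := z) ?_ h2).symm
      intro c hc
      exact hc.2
    · obtain ⟨e⟩ := (M.subgroup (im H)).dihedral hU ho
      exact ⟨(imEquiv H).trans e⟩
  · obtain ⟨-, -, ⟨e⟩⟩ := h
    right; right; left
    exact ⟨(imEquiv H).trans e⟩
  · obtain ⟨-, -, ⟨e⟩⟩ := h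
    right; right; right; left
    exact ⟨(imEquiv H).trans e⟩
  · obtain ⟨-, -, ⟨e⟩⟩ := h
    right; right; right; right; left
    exact ⟨(imEquiv H).trans e⟩
  · obtain ⟨z, h3, hN⟩ := h
    have hF : (M.subgroup (im H)).Full z := ⟨by
      rw [← Subgroup.one_lt_card_iff_ne_bot]; omega, hN⟩
    obtain ⟨g, K0, -, hcase, -, -⟩ := dickson_field (im H) hF
    right; right; right; right; right
    obtain ⟨k, hk1, hk2, ⟨e⟩, hk3⟩ := exists_type_copy K0
    obtain ⟨m, hm⟩ := exists_pow_card K0
    refine ⟨k, hk1, hk2, m, by rw [hk3, hm], ?_⟩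
    have e0 := (imEquiv H).trans (cjEquiv g (im H))
    rcases hcase with h | h
    · right
      obtain ⟨e1⟩ := pgls_iso K0
      obtain ⟨e2⟩ := nonempty_pgl_iso e
      exact ⟨e0.trans ((MulEquiv.subgroupCongr h).trans (e1.trans e2))⟩
    · left
      obtain ⟨e1⟩ := psls_iso K0
      obtain ⟨e2⟩ := nonempty_psl_iso e
      exact ⟨e0.trans ((MulEquiv.subgroupCongr h).trans (e1.trans e2))⟩

end

end Cfsg.Agent.Dk
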