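import Mathlib
import Cfsg.Agent.Dk.SubPSL
import Cfsg.Agent.S0805

/-! Overgroups of subfield subgroups. -/

set_option autoImplicit false

namespace Cfsg.Agent.Dk

open MulAction Matrix LinearAlgebra.Projectivization Projectivization Subgroup
open scoped MatrixGroups
open H81 (pt0 pt1 ptz ptc)

section sub

variable {F : Type*} [Field F]

theorem XX_mem_PSLs {K0 : Subfield F} {a : F} (ha : a ∈ K0) : XX a ∈ PSLs K0 := by
  refine ⟨XX (⟨a, ha⟩ : K0), ?_, ?_⟩
  · rw [← toP_range]; exact ⟨XS _, toP_XS _⟩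
  · show (ProjGenLinGroup.mk (GeneralLinearGroup.map K0.subtype (SpecialLinearGroup.toGL
      (H81.xx (⟨a, ha⟩ : K0)))) : PGL(2, F)) = ProjGenLinGroup.mk (SpecialLinearGroup.toGL (H81.xx a))
    congr 1
    apply Units.ext
    show (H81.xx (⟨a, ha⟩ : K0)).1.map K0.subtype = (H81.xx a).1
    rw [H81.xx_val, H81.xx_val]
    ext i j
    fin_cases i <;> fin_cases j <;> simp

theorem WW_mem_PSLs (K0 : Subfield F) : WW (-1 : F) (neg_ne_zero.2 one_ne_zero) ∈ PSLs K0 := by
  refine ⟨WW (-1 : K0) (neg_ne_zero.2 one_ne_zero), ?_, ?_⟩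
  · rw [← toP_range]; exact ⟨WS _, toP_WS⟩
  · show (ProjGenLinGroup.mk (GeneralLinearGroup.map K0.subtype (wm (-1 : K0) _)) : PGL(2, F)) =
      ProjGenLinGroup.mk (wm (-1 : F) _)
    congr 1
    apply Units.ext
    show (wm (-1 : K0) _).1.map K0.subtype = (wm (-1 : F) _).1
    rw [wm_val, wm_val]
    ext i j
    fin_cases i <;> fin_cases j <;> simp

theorem PSLs_mono {K0 K1 : Subfield F} (h : K0 ≤ K1) : PSLs K0 ≤ PSLs K1 := by
  apply PSLs_le (μ := -1) (K0 := K0) (H := PSLs K1)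
  · intro a ha; exact XX_mem_PSLs (h ha)
  · exact neg_mem (one_mem K0)
  · exact WW_mem_PSLs K1

theorem PGLs_top : PGLs (⊤ : Subfield F) = ⊤ := by
  rw [eq_top_iff]
  intro g _
  obtain ⟨g0, rfl⟩ := ProjGenLinGroup.mk_surjective g
  exact mk_mem_PGLs (fun _ _ => Subfield.mem_top _)

theorem PSLs_le_PSLr (K0 : Subfield F) : PSLs K0 ≤ PSLr F := by
  apply PSLs_le (μ := -1) (K0 := K0) (H := PSLr F)
  · intro a ha; rw [← toP_range]; exact ⟨XS a, toP_XS a⟩
  · exact neg_mem (one_mem K0)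
  · rw [← toP_range]; exact ⟨WS F, toP_WS⟩

theorem PSLs_top : PSLs (⊤ : Subfield F) = PSLr F := by
  apply le_antisymm (PSLs_le_PSLr _)
  rintro _ ⟨s, rfl⟩
  have h : (PSLs (⊤ : Subfield F)).comap (ProjGenLinGroup.mk.comp
      (SpecialLinearGroup.toGL (n := Fin 2) (R := F))) = ⊤ := by
    apply sl2_top
    · intro a; exact XX_mem_PSLs (Subfield.mem_top a)
    · intro a
      exact yy_mem (H := PSLs (⊤ : Subfield F)) (μ := -1) (neg_ne_zero.2 one_ne_zero)
        (WW_mem_PSLs _) (XX_mem_PSLs (Subfield.mem_top _))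
  have h2 : s ∈ (PSLs (⊤ : Subfield F)).comap (ProjGenLinGroup.mk.comp
      (SpecialLinearGroup.toGL (n := Fin 2) (R := F))) := by rw [h]; exact mem_top s
  exact h2

theorem card_PGLs [Finite F] (K0 : Subfield F) : Nat.card (PGLs K0) =
    Nat.card K0 * ((Nat.card K0 - 1) * (Nat.card K0 + 1)) := by
  obtain ⟨e⟩ := pgls_iso K0
  rw [Nat.card_congr e.toEquiv, card_pgl]

theorem card_PSLs [Finite F] (K0 : Subfield F) : Nat.gcd 2 (Nat.card K0 - 1) * Nat.card (PSLs K0) =
    Nat.card K0 * ((Nat.card K0 - 1) * (Nat.card K0 + 1)) := by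
  obtain ⟨e⟩ := psls_iso K0
  rw [Nat.card_congr e.toEquiv, card_psl]

theorem card_PSLr [Finite F] : Nat.gcd 2 (Nat.card F - 1) * Nat.card (PSLr F) =
    Nat.card F * ((Nat.card F - 1) * (Nat.card F + 1)) := by
  rw [← card_psl, ← toP_range, ← Nat.card_congr (MonoidHom.ofInjective toP_injective).toEquiv]

theorem PSLr_normal : (PSLr F).Normal := by
  refine ⟨?_⟩
  intro x hx g
  obtain ⟨a, rfl⟩ := ProjGenLinGroup.mk_surjective x
  obtain ⟨b, rfl⟩ := ProjGenLinGroup.mk_surjective g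
  rw [← map_mul, ← map_inv, ← map_mul]
  rw [mk_mem_PSLr] at hx ⊢
  have : (b * a * b⁻¹).1.det = a.1.det := by
    have h1 := congrArg Units.val (show (b * a * b⁻¹).det = a.det by
      rw [map_mul, map_mul, map_inv, mul_comm b.det, mul_inv_cancel_right])
    exact h1
  rw [this]; exact hx

theorem im_eq_inf (L : Subgroup PGL(2, F)) : im (L.comap (toP F)) = L ⊓ PSLr F := by
  unfold im
  rw [Subgroup.map_comap_eq, toP_range, inf_comm]

theorem im_le (H : Subgroup PSL(2, F)) : im H ≤ PSLr F := by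
  rw [← toP_range]
  exact Subgroup.map_le_range _ _

theorem im_injective : Function.Injective (im (F := F)) := Subgroup.map_injective toP_injective

theorem im_mono {H L : Subgroup PSL(2, F)} : im H ≤ im L ↔ H ≤ L :=
  Subgroup.map_le_map_iff_of_injective toP_injective

theorem im_top : im (⊤ : Subgroup PSL(2, F)) = PSLr F := by
  unfold im
  rw [← toP_range, MonoidHom.range_eq_map]

theorem isCoatom_of {H : Subgroup PSL(2, F)} (h1 : im H ≠ PSLr F)
    (h2 : ∀ L : Subgroup PGL(2, F), im H ≤ L → L ≤ PSLr F → L = im H ∨ L = PSLr F) : IsCoatom H := by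
  refine ⟨fun h => h1 (by rw [h, im_top]), ?_⟩
  intro L hL
  rcases h2 (im L) (im_mono.2 hL.le) (im_le L) with h | h
  · exact absurd (im_injective h) hL.ne'
  · rw [← im_top] at h
    exact im_injective h

theorem coatom_im {H : Subgroup PSL(2, F)} (h : IsCoatom H) : im H ≠ PSLr F ∧
    ∀ L : Subgroup PGL(2, F), im H ≤ L → L ≤ PSLr F → L = im H ∨ L = PSLr F := by
  refine ⟨fun h' => h.1 (im_injective (by rw [h', im_top])), ?_⟩
  intro L h1 h2
  have h3 : im (L.comap (toP F)) = L := by rw [im_eq_inf, inf_eq_left.2 h2]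
  have h4 : H ≤ L.comap (toP F) := by rw [← im_mono, h3]; exact h1
  rcases h.le_iff.1 h4 with h5 | h5
  · right; rw [← h3, h5, im_top]
  · left; rw [← h3, h5]

end sub

section ovr

variable {F : Type*} [Field F] [Finite F]

attribute [local instance 10] pact sact

theorem over_psl {p : ℕ} [hp : Fact p.Prime] [CharP F p] {K0 : Subfield F} (h3 : 3 ≤ Nat.card K0)
    {L : Subgroup PGL(2, F)} (hL : PSLs K0 ≤ L) :
    (∃ K1 : Subfield F, K0 ≤ K1 ∧ (L = PGLs K1 ∨ L = PSLs K1)) ∨
      (p = 3 ∧ Nat.card K0 = 3 ∧ Nat.card L = 60) := by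
  let K := AlgebraicClosure F
  have : CharP K p := charP_of_injective_algebraMap (algebraMap F K).injective p
  have M := mobF (p := p) (F := F) (K := K)
  have hxx : ∀ a ∈ K0, XX a ∈ L := fun a ha => hL (XX_mem_PSLs ha)
  have hww := hL (WW_mem_PSLs K0)
  -- the three points
  have hU0 : (M.subgroup L).U (pt0 K) ≠ ⊥ := by
    intro h
    have h1 : (⟨XX 1, hxx 1 (one_mem _)⟩ : L) ∈ (M.subgroup L).U (pt0 K) := by
      rw [M.mem_U_subgroup, mem_U_pt0]; exact ⟨1, rfl⟩
    rw [h] at h1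
    have h2 : XX (1 : F) = 1 := congrArg Subtype.val h1
    exact one_ne_zero (XX_inj (h2.trans XX_zero.symm))
  have ho0 : ptz K 0 ∈ orbit L (pt0 K) := ⟨⟨_, hww⟩, WW_smul_pt0 _ _⟩
  have ho1 : ptz K 1 ∈ orbit L (pt0 K) := by
    refine ⟨⟨_, mul_mem (hxx 1 (one_mem _)) hww⟩, ?_⟩
    show (XX (1 : F) * WW (-1 : F) _) • pt0 K = ptz K 1
    rw [mul_smul, WW_smul_pt0, XX_smul_ptz, map_one, zero_add]
  have hcardU : 3 ≤ Nat.card ((M.subgroup L).U (pt0 K)) := by
    refine h3.trans ?_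
    refine Nat.card_le_card_of_injective (fun a : K0 => (⟨⟨XX (a : F), hxx _ a.2⟩, by
      rw [M.mem_U_subgroup, mem_U_pt0]; exact ⟨_, rfl⟩⟩ : (M.subgroup L).U (pt0 K))) ?_
    intro a b hab
    have h1 : XX (a : F) = XX (b : F) :=
      congrArg (fun z : (M.subgroup L).U (pt0 K) => ((z : L) : PGL(2, F))) hab
    exact Subtype.ext (XX_inj h1)
  have hpL : p ∣ Nat.card L := (M.subgroup L).dvd_of_U_ne_bot hU0
  have hUdvd : ∀ m, Nat.card L = 2 * m → ¬ p ∣ m → False := by
    intro m hm hpm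
    obtain ⟨k, hk⟩ := IsPGroup.iff_card.1 ((M.subgroup L).isPGroup_U (pt0 K))
    have h1 : p ^ k ∣ 2 * m := by
      rw [← hk, ← hm]
      exact Subgroup.card_subgroup_dvd_card _
    have h2 : p ^ k ∣ 2 := by
      apply Nat.Coprime.dvd_of_dvd_mul_right ?_ h1
      exact Nat.Coprime.pow_left _ ((Nat.Prime.coprime_iff_not_dvd hp.out).2 hpm)
    have h4 := Nat.le_of_dvd (by norm_num) h2
    rw [← hk] at h4
    omega
  have hnt : Nontrivial L := by
    rw [← Finite.one_lt_card_iff_nontrivial]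
    have h1 := Nat.card_le_card_of_injective _ ((M.subgroup L).U (pt0 K)).subtype_injective
    omega
  rcases (M.subgroup L).cases with h | h | h | h | h | h
  · exfalso
    obtain ⟨z, hz⟩ := h
    obtain ⟨u, hu⟩ := (Subgroup.ne_bot_iff_exists_ne_one).1 hU0
    have h1 : z = pt0 K := (M.subgroup L).eq_of_mem_U u.2 (fun h' => hu (Subtype.ext h')) (hz _)
    rw [h1] at hz
    obtain ⟨g, hg⟩ := ho0
    have hg : g • pt0 K = ptz K 0 := hg
    rw [hz g] at hg
    exact H81.pt0_ne_ptz _ hg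
  · exfalso
    obtain ⟨z, hz1, hz2⟩ := h
    have h1 := card_orbit_mul (Γ := L) z
    rw [hz2] at h1
    exact hUdvd _ h1.symm ((M.subgroup L).not_dvd_stab hz1)
  · exfalso
    obtain ⟨h1, h2, -⟩ := h
    rw [h2] at hpL; exact h1 hpL
  · exfalso
    obtain ⟨h1, h2, -⟩ := h
    rw [h2] at hpL; exact h1 hpL
  · obtain ⟨h1, h2, -⟩ := h
    rcases h1 with h1 | h1
    · exfalso; rw [h2] at hpL; exact h1 hpL
    · right
      refine ⟨h1, ?_, h2⟩
      have hd : Nat.card K0 ∣ 60 := by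
        have h4 : Nat.card K0 ∣ Nat.card (PGLs K0) := by
          rw [card_PGLs]; exact Dvd.intro _ rfl
        obtain ⟨k, hk⟩ : ∃ k, Nat.card K0 = 3 ^ k := by
          have : CharP K0 p := K0.subtype.charP K0.subtype_injective p
          have := Fintype.ofFinite K0
          obtain ⟨n, -, hn⟩ := FiniteField.card K0 p
          exact ⟨n, by rw [Nat.card_eq_fintype_card, hn, h1]⟩
        have h5 : Nat.card (PSLs K0) ∣ 60 := by rw [← h2]; exact Subgroup.card_dvd_of_le hL
        have h6 := card_PSLs K0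
        have h7 : Nat.card K0 ∣ Nat.gcd 2 (Nat.card K0 - 1) * Nat.card (PSLs K0) := by
          rw [h6]; exact Dvd.intro _ rfl
        have h8 : Nat.Coprime (Nat.card K0) (Nat.gcd 2 (Nat.card K0 - 1)) := by
          apply Nat.Coprime.coprime_dvd_right (Nat.gcd_dvd_left _ _)
          rw [hk]
          exact Nat.Coprime.pow_left _ (by norm_num)
        exact (h8.dvd_of_dvd_mul_left h7).trans h5
      obtain ⟨k, hk⟩ : ∃ k, Nat.card K0 = 3 ^ k := by
        have : CharP K0 p := K0.subtype.charP K0.subtype_injective p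
        have := Fintype.ofFinite K0
        obtain ⟨n, -, hn⟩ := FiniteField.card K0 p
        exact ⟨n, by rw [Nat.card_eq_fintype_card, hn, h1]⟩
      rw [hk] at hd h3 ⊢
      rcases k with _ | _ | k
      · norm_num at h3
      · norm_num
      · exfalso
        have : 9 ∣ 60 := by
          refine dvd_trans ?_ hd
          exact ⟨3 ^ k, by ring⟩
        norm_num at this
  · left
    obtain ⟨z, hz1, hz2⟩ := h
    have hzU : (M.subgroup L).U z ≠ ⊥ := by
      rw [← Subgroup.one_lt_card_iff_ne_bot]; omega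
    have hzo : z ∈ orbit L (pt0 K) := (M.subgroup L).exists_smul_eq hU0 hzU
    have hF : (M.subgroup L).Full (pt0 K) := by
      refine ⟨hU0, ?_⟩
      rw [← card_U_of_mem (M := M.subgroup L) hzo, ← hz2, MulAction.orbit_eq_iff.2 hzo]
    obtain ⟨K1, hK1, hK2⟩ := field_case L hF ho0 ho1
    exact ⟨K1, fun a ha => (hK1 a).2 (hxx a ha), hK2⟩

end ovr

end Cfsg.Agent.Dk
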