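import Mathlib
import Cfsg.Agent.Dk.Over

/-! Degrees of subfields; maximality of the subfield subgroups. -/

set_option autoImplicit false

namespace Cfsg.Agent.Dk

open Matrix Subgroup
open scoped MatrixGroups

section deg

variable {F : Type*} [Field F] [Finite F]

theorem exists_pow_card_le {K0 K1 : Subfield F} (h : K0 ≤ K1) :
    ∃ l : ℕ, Nat.card K0 ^ l = Nat.card K1 := by
  let _ : Algebra K0 K1 := (Subfield.inclusion h).toAlgebra
  exact ⟨Module.finrank K0 K1, (Module.natCard_eq_pow_finrank (K := K0) (V := K1)).symm⟩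

theorem one_lt_card_sub (K0 : Subfield F) : 1 < Nat.card K0 := Finite.one_lt_card

theorem eq_top_of_card {K1 : Subfield F} (h : Nat.card K1 = Nat.card F) : K1 = ⊤ := by
  rw [eq_top_iff]
  intro x _
  have h1 : Function.Bijective (fun a : K1 => (a : F)) :=
    (Nat.bijective_iff_injective_and_card _).2 ⟨Subtype.val_injective, h⟩
  obtain ⟨a, ha⟩ := h1.2 x
  rw [← ha]; exact a.2

theorem eq_of_le_of_card {K0 K1 : Subfield F} (h : K0 ≤ K1) (hc : Nat.card K0 = Nat.card K1) :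
    K0 = K1 := by
  apply le_antisymm h
  intro x hx
  have h1 : Function.Bijective (Subfield.inclusion h) :=
    (Nat.bijective_iff_injective_and_card _).2 ⟨(Subfield.inclusion h).injective, hc⟩
  obtain ⟨a, ha⟩ := h1.2 ⟨x, hx⟩
  have : (a : F) = x := congrArg Subtype.val ha
  rw [← this]; exact a.2

theorem sub_of_prime {K0 K1 : Subfield F} (h : K0 ≤ K1) {r : ℕ} (hr : r.Prime)
    (hF : Nat.card F = Nat.card K0 ^ r) : K1 = K0 ∨ K1 = ⊤ := by
  obtain ⟨l, hl⟩ := exists_pow_card_le h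
  obtain ⟨m, hm⟩ := exists_pow_card K1
  have h1 : Nat.card K0 ^ (l * m) = Nat.card K0 ^ r := by
    rw [pow_mul, hl, hm, hF]
  have h2 : l * m = r := Nat.pow_right_injective (one_lt_card_sub K0) h1
  rcases (Nat.prime_mul_iff.1 (h2 ▸ hr)) with ⟨-, h3⟩ | ⟨-, h3⟩
  · right
    rw [h3, pow_one] at hm
    exact eq_top_of_card hm
  · left
    rw [h3, pow_one] at hl
    exact (eq_of_le_of_card h hl).symm

theorem exists_subfield {K : Type*} [Field K] [Fintype K] [Fintype F] {r : ℕ} (hr : 1 ≤ r)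
    (h : Fintype.card K ^ r = Fintype.card F) :
    ∃ K0 : Subfield F, Nat.card K0 = Fintype.card K ∧ Nonempty (K0 ≃+* K) := by
  obtain ⟨f⟩ := H14.SubField.exists_ringHom hr h
  have e : K ≃+* f.fieldRange := RingEquiv.ofBijective f.rangeRestrictField
    ⟨fun a b hab => f.injective (congrArg Subtype.val hab), fun ⟨_, y, hy⟩ => ⟨y, Subtype.ext hy⟩⟩
  refine ⟨f.fieldRange, ?_, ⟨e.symm⟩⟩
  rw [← Nat.card_eq_fintype_card]
  exact (Nat.card_congr e.toEquiv).symm

theorem im_comap_of_le {L : Subgroup PGL(2, F)} (h : L ≤ PSLr F) : im (L.comap (toP F)) = L := by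
  rw [im_eq_inf, inf_eq_left.2 h]

theorem psl_equiv_of_im {H : Subgroup PSL(2, F)} {K0 : Subfield F} {k : Type*} [Field k]
    (h : im H = PSLs K0) (e : K0 ≃+* k) : Nonempty (H ≃* PSL(2, k)) := by
  obtain ⟨e1⟩ := psls_iso K0
  obtain ⟨e2⟩ := nonempty_psl_iso e
  exact ⟨(imEquiv H).trans ((MulEquiv.subgroupCongr h).trans (e1.trans e2))⟩

theorem pgl_equiv_of_im {H : Subgroup PSL(2, F)} {K0 : Subfield F} {k : Type*} [Field k]
    (h : im H = PGLs K0) (e : K0 ≃+* k) : Nonempty (H ≃* PGL(2, k)) := by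
  obtain ⟨e1⟩ := pgls_iso K0
  obtain ⟨e2⟩ := nonempty_pgl_iso e
  exact ⟨(imEquiv H).trans ((MulEquiv.subgroupCongr h).trans (e1.trans e2))⟩

/-- `PGL₂(K0) ≤ PSL₂(F)` forces an even degree (odd characteristic) -/
theorem even_of_PGLs_le {K0 : Subfield F} (hodd : Odd (Nat.card F)) {m : ℕ}
    (hm : Nat.card K0 ^ m = Nat.card F) (h : PGLs K0 ≤ PSLr F) : Even m := by
  have := Fintype.ofFinite F
  obtain ⟨k, _, _, ⟨e⟩, hk⟩ := exists_type_copy K0
  have hm1 : 1 ≤ m := by
    rcases Nat.eq_zero_or_pos m with h0 | h0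
    · rw [h0, pow_zero] at hm
      have := Finite.one_lt_card (α := F)
      omega
    · exact h0
  rw [Nat.card_eq_fintype_card (α := F)] at hodd hm
  obtain ⟨-, h2⟩ := Cfsg.Agent.S0805.result (F := F) (K := k) rfl hodd m hm1 (by rw [hk, hm])
  apply h2.1
  refine ⟨(PGLs K0).comap (toP F), ?_⟩
  exact pgl_equiv_of_im (im_comap_of_le h) e

/-- squares in even degree extensions -/
theorem isSquare_of_even {K0 : Subfield F} {m : ℕ} (hm : Nat.card K0 ^ m = Nat.card F)
    (he : Even m) {x : F} (hx : x ∈ K0) : IsSquare x := by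
  classical
  have := Fintype.ofFinite F
  by_cases h2 : ringChar F = 2
  · exact FiniteField.isSquare_of_char_two h2 x
  by_cases hx0 : x = 0
  · rw [hx0]; exact ⟨0, by simp⟩
  rw [FiniteField.isSquare_iff h2 hx0]
  obtain ⟨l, hl⟩ := he
  have hc : Fintype.card F = (Nat.card K0 ^ l) ^ 2 := by
    rw [← Nat.card_eq_fintype_card, ← hm, hl, ← pow_mul, mul_two]
  have h1 : x ^ (Nat.card K0 ^ l) = x := by
    have h3 : ∀ l : ℕ, x ^ (Nat.card K0 ^ l) = x := by
      intro l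
      induction l with
      | zero => simp
      | succ n ih =>
        rw [pow_succ, pow_mul, ih]
        have := Fintype.ofFinite K0
        have h4 := FiniteField.pow_card (⟨x, hx⟩ : K0)
        rw [← Nat.card_eq_fintype_card] at h4
        exact congrArg Subtype.val h4
    exact h3 l
  set Q := Nat.card K0 ^ l with hQ
  have hQodd : Odd Q := by
    have h3 : Fintype.card F % 2 = 1 := FiniteField.odd_card_of_char_ne_two h2
    rw [hc] at h3
    rw [Nat.odd_iff]
    by_contra h4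
    have h5 : Q % 2 = 0 := by omega
    have h6 : 2 ∣ Q ^ 2 := dvd_pow (Nat.dvd_of_mod_eq_zero h5) (by norm_num)
    omega
  obtain ⟨a, ha⟩ := hQodd
  have hx1 : x ^ (2 * a) = 1 := by
    have h5 : x * x ^ (2 * a) = x * 1 := by
      rw [mul_one, ← pow_succ', ← ha]; exact h1
    exact mul_left_cancel₀ hx0 h5
  have hdiv : Fintype.card F / 2 = (2 * a) * (a + 1) := by
    rw [hc, ha]
    have : (2 * a + 1) ^ 2 = 2 * ((2 * a) * (a + 1)) + 1 := by ring
    omega
  rw [hdiv, pow_mul, hx1, one_pow]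

theorem PGLs_le_of_even {K0 : Subfield F} {m : ℕ} (hm : Nat.card K0 ^ m = Nat.card F)
    (he : Even m) : PGLs K0 ≤ PSLr F := by
  rintro _ ⟨g, rfl⟩
  obtain ⟨g0, rfl⟩ := ProjGenLinGroup.mk_surjective g
  rw [ProjGenLinGroup.map_mk, mk_mem_PSLr]
  have h1 : (GeneralLinearGroup.map K0.subtype g0).1.det = K0.subtype g0.1.det := by
    show (g0.1.map K0.subtype).det = _
    rw [← RingHom.mapMatrix_apply, ← RingHom.map_det]
  rw [h1]
  exact isSquare_of_even hm he g0.1.det.2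

theorem card_ne_top_of {K0 : Subfield F} {r : ℕ} (hr : 2 ≤ r)
    (hF : Nat.card F = Nat.card K0 ^ r) : K0 ≠ ⊤ := by
  rintro rfl
  have h1 : Nat.card (⊤ : Subfield F) = Nat.card F := Nat.card_congr (Equiv.subtypeUnivEquiv fun x => Subfield.mem_top x)
  rw [h1] at hF
  have h2 := Finite.one_lt_card (α := F)
  have h3 : Nat.card F ^ 1 < Nat.card F ^ r := Nat.pow_lt_pow_right h2 (by omega)
  rw [← hF, pow_one] at h3
  omega

theorem card_PSLs_lt {K0 : Subfield F} {r : ℕ} (hr : 2 ≤ r) (hF : Nat.card F = Nat.card K0 ^ r) :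
    Nat.card (PGLs K0) < Nat.card (PSLr F) := by
  have h1 := card_PGLs K0
  have h2 := card_PSLr (F := F)
  have h3 := one_lt_card_sub K0
  have h4 : Nat.card K0 ^ 2 ≤ Nat.card F := by
    rw [hF]; exact Nat.pow_le_pow_right (by omega) hr
  have h5 : Nat.gcd 2 (Nat.card F - 1) ≤ 2 := Nat.le_of_dvd (by norm_num) (Nat.gcd_dvd_left _ _)
  set q0 := Nat.card K0 with hq0
  set q := Nat.card F with hq
  set d := Nat.gcd 2 (q - 1) with hd
  by_contra hcon
  push Not at hcon
  obtain ⟨a, ha⟩ : ∃ a, q0 = a + 2 := ⟨q0 - 2, by omega⟩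
  obtain ⟨b, hb⟩ : ∃ b, q = b + (a + 2) ^ 2 := ⟨q - (a + 2) ^ 2, by rw [ha] at h4; omega⟩
  have h6 : q * ((q - 1) * (q + 1)) ≤ 2 * (q0 * ((q0 - 1) * (q0 + 1))) := by
    rw [← h2, ← h1]
    calc d * Nat.card (PSLr F) ≤ 2 * Nat.card (PSLr F) := Nat.mul_le_mul_right _ h5
      _ ≤ 2 * Nat.card (PGLs K0) := Nat.mul_le_mul_left _ hcon
  have e1 : q0 - 1 = a + 1 := by omega
  have e2 : q - 1 = b + (a + 2) ^ 2 - 1 := by omega
  have h7 : q0 * ((q0 - 1) * (q0 + 1)) < q0 * (q0 * (q0 * 1)) + 1 := by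
    rw [e1, ha]
    have : (a + 2) * ((a + 1) * (a + 2 + 1)) < (a + 2) * ((a + 2) * ((a + 2) * 1)) + 1 := by
      nlinarith
    exact this
  have h8 : q0 * q0 * 3 ≤ q * (q - 1) := by
    have h9 : q0 * q0 ≤ q := by rw [← sq]; exact h4
    have h10 : 3 ≤ q - 1 := by
      have : 4 ≤ q0 * q0 := by rw [ha]; nlinarith
      omega
    exact Nat.mul_le_mul h9 h10
  have h9 : q0 * q0 + 1 ≤ q + 1 := by
    have : q0 * q0 ≤ q := by rw [← sq]; exact h4
    omega
  have h11 : (q0 * q0 * 3) * (q0 * q0 + 1) ≤ q * (q - 1) * (q + 1) := Nat.mul_le_mul h8 h9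
  have h12 : q * (q - 1) * (q + 1) = q * ((q - 1) * (q + 1)) := by ring
  rw [h12] at h11
  have h13 : q0 * (q0 * (q0 * 1)) = q0 * q0 * q0 := by ring
  rw [h13] at h7
  have h14 : q0 * q0 * q0 ≤ q0 * q0 * (q0 * q0) := by
    apply Nat.mul_le_mul_left
    nlinarith
  nlinarith

end deg

end Cfsg.Agent.Dk
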