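import Mathlib
import Cfsg.Agent.Dk.Deg

/-! Maximality of the subfield subgroups of `PSL₂(q)`. -/

set_option autoImplicit false

namespace Cfsg.Agent.Dk

open Matrix Subgroup
open scoped MatrixGroups

variable {F : Type*} [Field F] [Finite F]

theorem exists_char : ∃ p : ℕ, p.Prime ∧ CharP F p := by
  obtain ⟨p, hp⟩ := CharP.exists F
  exact ⟨p, CharP.char_is_prime F p, hp⟩

theorem card_top : Nat.card (⊤ : Subfield F) = Nat.card F :=
  Nat.card_congr (Equiv.subtypeUnivEquiv fun x => Subfield.mem_top x)

/-- `PGL₂(q0)` in `PSL₂(q0²)` -/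
theorem max_pgl {K0 : Subfield F} (hF : Nat.card F = Nat.card K0 ^ 2) (hodd : Odd (Nat.card K0)) :
    IsCoatom ((PGLs K0).comap (toP F)) := by
  obtain ⟨p, hp, hc⟩ := exists_char (F := F)
  have : Fact p.Prime := ⟨hp⟩
  have hle : PGLs K0 ≤ PSLr F := PGLs_le_of_even hF.symm (by norm_num)
  have him := im_comap_of_le hle
  have h3 : 3 ≤ Nat.card K0 := by
    have := one_lt_card_sub K0
    obtain ⟨k, hk⟩ := hodd
    omega
  apply isCoatom_of
  · rw [him]
    intro h
    have := card_PSLs_lt (le_refl 2) hF
    rw [h] at this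
    exact lt_irrefl _ this
  · rw [him]
    intro L hL1 hL2
    rcases over_psl (p := p) h3 ((PSLs_le_PGLs K0).trans hL1) with ⟨K1, hK, hK1⟩ | ⟨hp3, hq3, h60⟩
    · rcases sub_of_prime hK Nat.prime_two hF with rfl | rfl
      · left
        rcases hK1 with h | h
        · exact h
        · apply le_antisymm _ hL1
          rw [h]; exact PSLs_le_PGLs _
      · right
        apply le_antisymm hL2
        rcases hK1 with h | h
        · rw [h, PGLs_top]; exact le_top
        · rw [h, PSLs_top]
    · exfalso
      have h1 := Subgroup.card_dvd_of_le hL1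
      rw [h60, card_PGLs, hq3] at h1
      norm_num at h1

theorem max_psl_odd {K0 : Subfield F} {r : ℕ} (hr : r.Prime) (hr2 : r ≠ 2)
    (hF : Nat.card F = Nat.card K0 ^ r) (hodd : Odd (Nat.card K0)) :
    IsCoatom ((PSLs K0).comap (toP F)) := by
  obtain ⟨p, hp, hc⟩ := exists_char (F := F)
  have : Fact p.Prime := ⟨hp⟩
  have hle : PSLs K0 ≤ PSLr F := PSLs_le_PSLr K0
  have him := im_comap_of_le hle
  have h3 : 3 ≤ Nat.card K0 := by
    have := one_lt_card_sub K0
    obtain ⟨k, hk⟩ := hodd
    omega
  have hFodd : Odd (Nat.card F) := by rw [hF]; exact hodd.pow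
  have hrodd : Odd r := hr.odd_of_ne_two hr2
  apply isCoatom_of
  · rw [him]
    intro h
    have h1 := card_PSLs_lt hr.two_le hF
    rw [← h] at h1
    have h2 : Nat.card (PSLs K0) ≤ Nat.card (PGLs K0) :=
      Nat.card_le_card_of_injective _ (Subgroup.inclusion_injective (PSLs_le_PGLs K0))
    omega
  · rw [him]
    intro L hL1 hL2
    rcases over_psl (p := p) h3 hL1 with ⟨K1, hK, hK1⟩ | ⟨hp3, hq3, h60⟩
    · rcases sub_of_prime hK hr hF with rfl | rfl
      · left
        rcases hK1 with h | h
        · exfalso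
          rw [h] at hL2
          have := even_of_PGLs_le hFodd hF.symm hL2
          exact (Nat.not_even_iff_odd.2 hrodd) this
        · exact h
      · right
        apply le_antisymm hL2
        rcases hK1 with h | h
        · rw [h, PGLs_top]; exact le_top
        · rw [h, PSLs_top]
    · exfalso
      have h1 := Subgroup.card_dvd_of_le hL2
      have h2 := card_PSLr (F := F)
      have h4 : 60 ∣ Nat.card F * ((Nat.card F - 1) * (Nat.card F + 1)) := by
        rw [← h2, ← h60]
        exact Dvd.dvd.mul_left h1 _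
      rw [hF, hq3] at h4
      obtain ⟨s, hs⟩ := hrodd
      have h5 : 3 ^ r % 5 = 3 ∨ 3 ^ r % 5 = 2 := by
        rw [hs, pow_succ, pow_mul]
        have h6 : (3 ^ 2) ^ s % 5 = 1 ∨ (3 ^ 2) ^ s % 5 = 4 := by
          induction s with
          | zero => left; norm_num
          | succ n ih =>
            rw [pow_succ]
            have ih' : (3 ^ 2) ^ n % 5 = 1 ∨ (3 ^ 2) ^ n % 5 = 4 := by
              clear * -
              induction n with
              | zero => left; norm_num
              | succ n ih => rw [pow_succ]; omega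
            omega
        omega
      have h7 : 5 ∣ 3 ^ r * ((3 ^ r - 1) * (3 ^ r + 1)) := dvd_trans (by norm_num) h4
      have h8 : Nat.Prime 5 := Nat.prime_five
      clear h4
      generalize 3 ^ r = x at h5 h7
      rcases (h8.dvd_mul).1 h7 with h9 | h9
      · omega
      · rcases (h8.dvd_mul).1 h9 with h10 | h10 <;> omega

theorem PSLs_eq_PGLs_of_even {K0 : Subfield F} (he : Even (Nat.card K0)) : PSLs K0 = PGLs K0 := by
  apply Subgroup.eq_of_le_of_card_ge (PSLs_le_PGLs K0)
  have h1 := card_PSLs K0
  have h2 := card_PGLs K0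
  have h3 : Nat.gcd 2 (Nat.card K0 - 1) = 1 := by
    rw [← Nat.coprime_iff_gcd_eq_one, Nat.coprime_two_left]
    obtain ⟨k, hk⟩ := he
    have := one_lt_card_sub K0
    exact ⟨k - 1, by omega⟩
  rw [h3, one_mul] at h1
  rw [h1, h2]

theorem PSLr_eq_top_of_even (he : Even (Nat.card F)) : PSLr F = ⊤ := by
  rw [← PSLs_top, ← PGLs_top]
  exact PSLs_eq_PGLs_of_even (by rw [card_top]; exact he)

theorem max_psl_even {K0 : Subfield F} {r : ℕ} (hr : r.Prime)
    (hF : Nat.card F = Nat.card K0 ^ r) (heven : Even (Nat.card K0)) (h2 : Nat.card K0 ≠ 2) :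
    IsCoatom ((PSLs K0).comap (toP F)) := by
  obtain ⟨p, hp, hc⟩ := exists_char (F := F)
  have : Fact p.Prime := ⟨hp⟩
  have hle : PSLs K0 ≤ PSLr F := PSLs_le_PSLr K0
  have him := im_comap_of_le hle
  have h3 : 3 ≤ Nat.card K0 := by
    have := one_lt_card_sub K0
    omega
  apply isCoatom_of
  · rw [him]
    intro h
    have h1 := card_PSLs_lt hr.two_le hF
    rw [← h] at h1
    have h2 : Nat.card (PSLs K0) ≤ Nat.card (PGLs K0) :=
      Nat.card_le_card_of_injective _ (Subgroup.inclusion_injective (PSLs_le_PGLs K0))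
    omega
  · rw [him]
    intro L hL1 hL2
    rcases over_psl (p := p) h3 hL1 with ⟨K1, hK, hK1⟩ | ⟨hp3, hq3, h60⟩
    · rcases sub_of_prime hK hr hF with rfl | rfl
      · left
        rcases hK1 with h | h
        · rw [h, PSLs_eq_PGLs_of_even heven]
        · exact h
      · right
        apply le_antisymm hL2
        rcases hK1 with h | h
        · rw [h, PGLs_top]; exact le_top
        · rw [h, PSLs_top]
    · exfalso
      rw [hq3] at heven
      exact absurd heven (by decide)

end Cfsg.Agent.Dk
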