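import Mathlib
import Cfsg.Agent.Dk.MaxSub

/-! A common treatment of `PSL₂(F)` and `PGL₂(F)`. -/

set_option autoImplicit false

namespace Cfsg.Agent.Dk

open MulAction Matrix LinearAlgebra.Projectivization Projectivization Subgroup
open scoped MatrixGroups
open H81 (pt0 pt1 ptz ptc)

section

variable {F K : Type*} [Field F] [Field K] [Algebra F K]

attribute [local instance 10] pact sact

/-- a group between `PSL₂(F)` and `PGL₂(F)` -/
structure Amb {Γ : Type*} [Group Γ] [MulAction Γ (ℙ K (Fin 2 → K))] (φ : Γ →* PGL(2, F)) :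
    Prop where
  inj : Function.Injective φ
  act : ∀ (g : Γ) (x : ℙ K (Fin 2 → K)), g • x = φ g • x
  big : PSLr F ≤ φ.range

theorem ambS : Amb (K := K) (toP F) := ⟨toP_injective, fun _ _ => rfl, toP_range.ge⟩

theorem ambP : Amb (K := K) (MonoidHom.id PGL(2, F)) :=
  ⟨fun _ _ h => h, fun _ _ => rfl, fun x _ => ⟨x, rfl⟩⟩

variable {Γ : Type*} [Group Γ] [MulAction Γ (ℙ K (Fin 2 → K))] {φ : Γ →* PGL(2, F)}
  (A : Amb (K := K) φ)
include A

theorem Amb.finite [Finite F] : Finite Γ := Finite.of_injective _ A.inj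

variable {p : ℕ} [CharP K p] [IsAlgClosed K]

theorem Amb.mob : Mob p Γ (ℙ K (Fin 2 → K)) K :=
  (mobF (p := p) (F := F) (K := K)).comap φ A.inj A.act

theorem Amb.mem_U {g : Γ} {z : ℙ K (Fin 2 → K)} :
    g ∈ (A.mob (p := p)).U z ↔ φ g ∈ (mobF (p := p) (F := F) (K := K)).U z := by
  rw [Mob.mem_U, Mob.mem_U]
  have h1 : fixedBy (ℙ K (Fin 2 → K)) g = fixedBy (ℙ K (Fin 2 → K)) (φ g) := by
    ext x; rw [mem_fixedBy, mem_fixedBy, A.act]
  rw [h1]
  have h2 : φ g = 1 ↔ g = 1 := by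
    rw [← map_one φ, A.inj.eq_iff]
  rw [h2]

omit [CharP K p] [IsAlgClosed K] in
theorem Amb.exists_XX (a : F) : ∃ g : Γ, φ g = XX a :=
  A.big (by rw [← toP_range]; exact ⟨XS a, toP_XS a⟩)

omit [CharP K p] [IsAlgClosed K] in
theorem Amb.exists_WW : ∃ g : Γ, φ g = WW (-1 : F) (neg_ne_zero.2 one_ne_zero) :=
  A.big (by rw [← toP_range]; exact ⟨WS F, toP_WS⟩)

theorem Amb.card_U : Nat.card ((A.mob (p := p)).U (pt0 K)) = Nat.card F := by
  symm
  choose X hX using A.exists_XX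
  refine Nat.card_eq_of_bijective (f := fun a : F => ⟨X a, A.mem_U.2 (mem_U_pt0.2 ⟨a, hX a⟩)⟩)
    ⟨?_, ?_⟩
  · intro a b hab
    have h : X a = X b := congrArg Subtype.val hab
    apply XX_inj
    rw [← hX, ← hX, h]
  · rintro ⟨g, hg⟩
    obtain ⟨a, ha⟩ := mem_U_pt0.1 (A.mem_U.1 hg)
    refine ⟨a, Subtype.ext (A.inj ?_)⟩
    rw [hX, ha]

omit [CharP K p] [IsAlgClosed K] in
theorem Amb.orbit_pt0 : orbit Γ (pt0 K) = RatPts F K := by
  ext x
  constructor
  · rintro ⟨g, rfl⟩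
    rw [← Dk.orbit_pt0]
    exact ⟨φ g, (A.act g _).symm⟩
  · rintro (rfl | ⟨a, rfl⟩)
    · exact mem_orbit_self _
    · obtain ⟨g, hg⟩ := A.exists_XX a
      obtain ⟨w, hw⟩ := A.exists_WW
      refine ⟨g * w, ?_⟩
      show (g * w) • pt0 K = _
      rw [A.act, map_mul, hg, hw, mul_smul, WW_smul_pt0, XX_smul_ptz, zero_add]

theorem Amb.full [Finite F] : (A.mob (p := p)).Full (pt0 K) := by
  have := A.finite
  refine ⟨?_, ?_⟩
  · rw [← Subgroup.one_lt_card_iff_ne_bot, A.card_U]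
    exact Finite.one_lt_card
  · rw [A.orbit_pt0, card_Rat, A.card_U]

/-- the map to the image is equivariant -/
theorem Amb.orbit_map (L : Subgroup Γ) (z : ℙ K (Fin 2 → K)) :
    orbit (L.map φ) z = orbit L z := by
  ext y
  constructor
  · rintro ⟨⟨_, ⟨g, hg, rfl⟩⟩, h⟩
    have h : φ g • z = y := h
    refine ⟨⟨g, hg⟩, ?_⟩
    show g • z = y
    rw [A.act, h]
  · rintro ⟨⟨g, hg⟩, h⟩
    have h : g • z = y := h
    refine ⟨⟨φ g, ⟨g, hg, rfl⟩⟩, ?_⟩
    show φ g • z = y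
    rw [← A.act, h]

theorem Amb.card_U_map (L : Subgroup Γ) (z : ℙ K (Fin 2 → K)) :
    Nat.card (((mobF (p := p) (F := F) (K := K)).subgroup (L.map φ)).U z) =
      Nat.card (((A.mob (p := p)).subgroup L).U z) := by
  symm
  refine Nat.card_eq_of_bijective (f := fun u : ((A.mob (p := p)).subgroup L).U z =>
    (⟨⟨φ (u.1 : Γ), ⟨_, u.1.2, rfl⟩⟩, ?_⟩ :
      ((mobF (p := p) (F := F) (K := K)).subgroup (L.map φ)).U z)) ⟨?_, ?_⟩
  · rw [(mobF (p := p) (F := F) (K := K)).mem_U_subgroup]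
    exact A.mem_U.1 ((A.mob (p := p)).mem_U_subgroup.1 u.2)
  · intro a b hab
    have h : φ (a.1 : Γ) = φ (b.1 : Γ) := congrArg (fun z : ((mobF (p := p) (F := F)
      (K := K)).subgroup (L.map φ)).U z => ((z : L.map φ) : PGL(2, F))) hab
    exact Subtype.ext (Subtype.ext (A.inj h))
  · rintro ⟨⟨_, ⟨g, hg, rfl⟩⟩, hv⟩
    rw [(mobF (p := p) (F := F) (K := K)).mem_U_subgroup] at hv
    refine ⟨⟨⟨g, hg⟩, ?_⟩, rfl⟩
    rw [(A.mob (p := p)).mem_U_subgroup]
    exact A.mem_U.2 hv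

/-- the list of subgroups, with details -/
theorem Amb.list [Finite F] [Fact p.Prime] {L : Subgroup Γ} (hL : L ≠ ⊥) :
    (∃ z : ℙ K (Fin 2 → K), ∀ l ∈ L, l • z = z) ∨
    (∃ z : ℙ K (Fin 2 → K), ((A.mob (p := p)).subgroup L).U z = ⊥ ∧ Nat.card (orbit L z) = 2) ∨
    (¬ p ∣ 12 ∧ Nat.card L = 12 ∧ Nonempty (L ≃* alternatingGroup (Fin 4))) ∨
    (¬ p ∣ 24 ∧ Nat.card L = 24 ∧ Nonempty (L ≃* Equiv.Perm (Fin 4))) ∨
    ((¬ p ∣ 60 ∨ p = 3) ∧ Nat.card L = 60 ∧ Nonempty (L ≃* alternatingGroup (Fin 5))) ∨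
    (∃ z : ℙ K (Fin 2 → K), ((A.mob (p := p)).subgroup L).Full z ∧
      3 ≤ Nat.card (((A.mob (p := p)).subgroup L).U z) ∧
      ∃ (g : PGL(2, F)) (K1 : Subfield F), (∀ a, a ∈ K1 ↔ XX a ∈ cj g (L.map φ)) ∧
        (cj g (L.map φ) = PGLs K1 ∨ cj g (L.map φ) = PSLs K1) ∧ g • z = pt0 K ∧
        Nat.card K1 = Nat.card (((A.mob (p := p)).subgroup L).U z)) := by
  have := A.finite
  have : Nontrivial L := (Subgroup.nontrivial_iff_ne_bot L).2 hL
  rcases ((A.mob (p := p)).subgroup L).cases with h | h | h | h | h | h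
  · left
    obtain ⟨z, hz⟩ := h
    exact ⟨z, fun l hl => hz ⟨l, hl⟩⟩
  · right; left; exact h
  · right; right; left; exact h
  · right; right; right; left; exact h
  · right; right; right; right; left; exact h
  · right; right; right; right; right
    obtain ⟨z, h3, hN⟩ := h
    have hF1 : ((A.mob (p := p)).subgroup L).Full z := ⟨by
      rw [← Subgroup.one_lt_card_iff_ne_bot]; omega, hN⟩
    have hF2 : ((mobF (p := p) (F := F) (K := K)).subgroup (L.map φ)).Full z := by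
      refine ⟨?_, ?_⟩
      · rw [← Subgroup.one_lt_card_iff_ne_bot, A.card_U_map]; omega
      · rw [A.orbit_map, A.card_U_map, hN]
    obtain ⟨g, K0, h4, h5, h6, h7⟩ := dickson_field (L.map φ) hF2
    exact ⟨z, hF1, h3, g, K0, h4, h5, h6, by rw [h7, A.card_U_map]⟩

end

end Cfsg.Agent.Dk
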