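import Mathlib
import Cfsg.Agent.Dk.Dick

/-! Binary actions: generalities. -/

set_option autoImplicit false

namespace Cfsg.Agent.Dk

open MulAction Subgroup

/-- binary actions -/
def Bin (G X : Type*) [Group G] [MulAction G X] : Prop :=
  ∀ (n : ℕ) (I J : Fin n → X), 2 ≤ n →
    (∀ i j : Fin n, i ≠ j → ∃ g : G, g • I i = J i ∧ g • I j = J j) → ∃ g : G, ∀ i, g • I i = J i

section gen

variable {G : Type*} [Group G]

theorem smul_mk_eq {H : Subgroup G} {g a b : G} :
    g • (QuotientGroup.mk a : G ⧸ H) = QuotientGroup.mk b ↔ b⁻¹ * g * a ∈ H := by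
  show (QuotientGroup.mk (g * a) : G ⧸ H) = QuotientGroup.mk b ↔ _
  rw [eq_comm, QuotientGroup.eq, mul_assoc]

theorem smul_mk_self {H : Subgroup G} {g a : G} :
    g • (QuotientGroup.mk a : G ⧸ H) = QuotientGroup.mk a ↔ g ∈ cj a H := by
  rw [smul_mk_eq, mem_cj]

theorem Bin.tri {H : Subgroup G} (hB : Bin G (G ⧸ H)) {a b c h g k : G} (hh : h ∈ cj a H)
    (hg : g ∈ cj b H) (hk : k ∈ cj c H) (he : h = g * k) :
    ∃ x ∈ cj a H ⊓ cj b H, ∃ y ∈ cj a H ⊓ cj c H, h = x * y := by
  let I : Fin 3 → G ⧸ H := ![QuotientGroup.mk a, QuotientGroup.mk b, QuotientGroup.mk c]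
  let J : Fin 3 → G ⧸ H := ![QuotientGroup.mk a, QuotientGroup.mk b, h • QuotientGroup.mk c]
  have hc : g • (QuotientGroup.mk c : G ⧸ H) = h • QuotientGroup.mk c := by
    rw [he, mul_smul, smul_mk_self.2 hk]
  obtain ⟨x, hx⟩ := hB 3 I J (by norm_num) (by
    intro i j hij
    fin_cases i <;> fin_cases j
    · exact absurd rfl hij
    · exact ⟨1, one_smul _ _, one_smul _ _⟩
    · exact ⟨h, smul_mk_self.2 hh, rfl⟩
    · exact ⟨1, one_smul _ _, one_smul _ _⟩
    · exact absurd rfl hij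
    · exact ⟨g, smul_mk_self.2 hg, hc⟩
    · exact ⟨h, rfl, smul_mk_self.2 hh⟩
    · exact ⟨g, hc, smul_mk_self.2 hg⟩
    · exact absurd rfl hij)
  have h0 : x ∈ cj a H := smul_mk_self.1 (hx 0)
  have h1 : x ∈ cj b H := smul_mk_self.1 (hx 1)
  have h2 : x • (QuotientGroup.mk c : G ⧸ H) = h • QuotientGroup.mk c := hx 2
  refine ⟨x, ⟨h0, h1⟩, x⁻¹ * h, ⟨(cj a H).mul_mem ((cj a H).inv_mem h0) hh, ?_⟩, by group⟩
  apply smul_mk_self.1
  rw [mul_smul, ← h2, inv_smul_smul]

theorem Bin.tri_one {H : Subgroup G} (hB : Bin G (G ⧸ H)) {a b c h g k : G} (hh : h ∈ cj a H)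
    (hg : g ∈ cj b H) (hk : k ∈ cj c H) (he : h = g * k) (h1 : cj a H ⊓ cj b H = ⊥)
    (h2 : cj a H ⊓ cj c H = ⊥) : h = 1 := by
  obtain ⟨x, hx, y, hy, hxy⟩ := hB.tri hh hg hk he
  rw [h1, Subgroup.mem_bot] at hx
  rw [h2, Subgroup.mem_bot] at hy
  rw [hxy, hx, hy, mul_one]

theorem Bin.transport {X Y : Type*} [MulAction G X] [MulAction G Y] (f : X ≃ Y)
    (hf : ∀ (g : G) (x : X), f (g • x) = g • f x) (hB : Bin G X) : Bin G Y := by
  intro n I J hn hp
  obtain ⟨g, hg⟩ := hB n (fun i => f.symm (I i)) (fun i => f.symm (J i)) hn (by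
    intro i j hij
    obtain ⟨g, h1, h2⟩ := hp i j hij
    refine ⟨g, ?_, ?_⟩
    · apply f.injective; rw [hf, f.apply_symm_apply, f.apply_symm_apply, h1]
    · apply f.injective; rw [hf, f.apply_symm_apply, f.apply_symm_apply, h2])
  refine ⟨g, fun i => ?_⟩
  have := congrArg f (hg i)
  rwa [hf, f.apply_symm_apply, f.apply_symm_apply] at this

/-- conjugate subgroups give the same action -/
theorem Bin.cj {H : Subgroup G} (hB : Bin G (G ⧸ H)) (c : G) : Bin G (G ⧸ cj c H) := by
  have key : ∀ a b : G, a⁻¹ * b ∈ H ↔ (a * c⁻¹)⁻¹ * (b * c⁻¹) ∈ Dk.cj c H := by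
    intro a b
    rw [mem_cj]
    have : c⁻¹ * ((a * c⁻¹)⁻¹ * (b * c⁻¹)) * c = a⁻¹ * b := by group
    rw [this]
  let f : (G ⧸ H) → (G ⧸ Dk.cj c H) := Quotient.map' (fun a => a * c⁻¹) (by
    intro a b hab
    rw [QuotientGroup.leftRel_apply] at hab ⊢
    exact (key a b).1 hab)
  have hinj : Function.Injective f := by
    intro x y
    induction x using QuotientGroup.induction_on with
    | H a =>
      induction y using QuotientGroup.induction_on with
      | H b =>
        intro h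
        have h' : (QuotientGroup.mk (a * c⁻¹) : G ⧸ Dk.cj c H) = QuotientGroup.mk (b * c⁻¹) := h
        rw [QuotientGroup.eq] at h' ⊢
        exact (key a b).2 h'
  have hsurj : Function.Surjective f := by
    intro y
    induction y using QuotientGroup.induction_on with
    | H b => exact ⟨QuotientGroup.mk (b * c), by
        show (QuotientGroup.mk (b * c * c⁻¹) : G ⧸ Dk.cj c H) = _
        rw [mul_inv_cancel_right]⟩
  refine Bin.transport (Equiv.ofBijective f ⟨hinj, hsurj⟩) ?_ hB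
  intro g x
  induction x using QuotientGroup.induction_on with
  | H a =>
    show (QuotientGroup.mk (g * a * c⁻¹) : G ⧸ Dk.cj c H) = QuotientGroup.mk (g * (a * c⁻¹))
    rw [mul_assoc]

theorem bin_bot : Bin G (G ⧸ (⊥ : Subgroup G)) := by
  intro n I J hn hp
  have key : ∀ (g g' : G) (x : G ⧸ (⊥ : Subgroup G)), g • x = g' • x → g = g' := by
    intro g g' x
    induction x using QuotientGroup.induction_on with
    | H a =>
      intro h
      have h' : (QuotientGroup.mk (g * a) : G ⧸ (⊥ : Subgroup G)) = QuotientGroup.mk (g' * a) := h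
      rw [QuotientGroup.eq, Subgroup.mem_bot, inv_mul_eq_one] at h'
      exact mul_right_cancel h'
  let i0 : Fin n := ⟨0, by omega⟩
  let i1 : Fin n := ⟨1, by omega⟩
  obtain ⟨g, hg, -⟩ := hp i0 i1 (by simp [i0, i1])
  refine ⟨g, fun i => ?_⟩
  by_cases hi : i = i0
  · rw [hi]; exact hg
  · obtain ⟨g', h1, h2⟩ := hp i0 i (Ne.symm hi)
    have : g = g' := key _ _ _ (hg.trans h1.symm)
    rw [this]; exact h2

end gen

section fix

variable {G X : Type*} [Group G] [MulAction G X] [Finite G] [Finite X]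

/-- the fixity lemma: commuting involutions have the same fixed points -/
theorem Bin.fix (hB : Bin G X) {f : ℕ} (hf : ∀ y : G, y ≠ 1 → y * y = 1 →
    (fixedBy X y).ncard = f) {g h : G} (hg1 : g ≠ 1) (hg : g * g = 1) (hh1 : h ≠ 1)
    (hh : h * h = 1) (hgh : g ≠ h) (hc : g * h = h * g) : fixedBy X g ⊆ fixedBy X h := by
  classical
  intro α hα
  by_contra hα'
  have hgh1 : g * h ≠ 1 := by
    intro h1
    apply hgh
    calc g = g * (h * h) := by rw [hh, mul_one]
      _ = (g * h) * h := by group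
      _ = h := by rw [h1, one_mul]
  have hgh2 : (g * h) * (g * h) = 1 := by
    calc (g * h) * (g * h) = g * (h * g) * h := by group
      _ = (g * g) * (h * h) := by rw [← hc]; group
      _ = 1 := by rw [hg, hh, mul_one]
  let σ : X → X := fun s => if g • s = s ∧ h • s ≠ s then h • s else s
  have hσP : ∀ s : X, g • s = s ∧ h • s ≠ s → σ s = h • s := fun s hs => if_pos hs
  have hσN : ∀ s : X, ¬ (g • s = s ∧ h • s ≠ s) → σ s = s := fun s hs => if_neg hs
  let S : Set X := fixedBy X g ∪ fixedBy X h ∪ fixedBy X (g * h)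
  have hghs : ∀ s : X, (g * h) • s = s → g • s = s → h • s = s := by
    intro s h1 h2
    rw [hc, mul_smul, h2] at h1
    exact h1
  have hcase : ∀ s ∈ S, (h • s = σ s ∧ (g * h) • s = σ s) ∨ ((1 : G) • s = σ s ∧ h • s = σ s) ∨
      ((1 : G) • s = σ s ∧ (g * h) • s = σ s) := by
    intro s hs
    by_cases hP : g • s = s ∧ h • s ≠ s
    · left
      rw [hσP s hP]
      exact ⟨rfl, by rw [hc, mul_smul, hP.1]⟩
    · right
      rw [hσN s hP]
      rcases hs with (hs | hs) | hs
      · left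
        refine ⟨one_smul _ _, ?_⟩
        by_contra h1
        exact hP ⟨hs, h1⟩
      · left
        exact ⟨one_smul _ _, hs⟩
      · right
        exact ⟨one_smul _ _, hs⟩
  have hSf : S.Finite := Set.toFinite _
  obtain ⟨n, ⟨e⟩⟩ := Finite.exists_equiv_fin S
  have hσα : h • α ∈ S := by
    left; left
    show g • h • α = h • α
    rw [← mul_smul, hc, mul_smul, show g • α = α from hα]
  have hαS : α ∈ S := Or.inl (Or.inl hα)
  have hn2 : 2 ≤ n := by
    have h1 : Fintype.card (Fin n) = n := Fintype.card_fin n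
    rw [← h1]
    have h2 : e ⟨α, hαS⟩ ≠ e ⟨h • α, hσα⟩ := by
      intro h3
      apply hα'
      exact (congrArg Subtype.val (e.injective h3)).symm
    exact Fintype.one_lt_card_iff.2 ⟨_, _, h2⟩
  obtain ⟨x, hx⟩ := hB n (fun i => (e.symm i : X)) (fun i => σ (e.symm i : X)) hn2 (by
    intro i j _
    rcases hcase _ (e.symm i).2 with hi | hi | hi <;> rcases hcase _ (e.symm j).2 with hj | hj | hj
    · exact ⟨h, hi.1, hj.1⟩
    · exact ⟨h, hi.1, hj.2⟩
    · exact ⟨g * h, hi.2, hj.2⟩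
    · exact ⟨h, hi.2, hj.1⟩
    · exact ⟨1, hi.1, hj.1⟩
    · exact ⟨1, hi.1, hj.1⟩
    · exact ⟨g * h, hi.2, hj.2⟩
    · exact ⟨1, hi.1, hj.1⟩
    · exact ⟨1, hi.1, hj.1⟩)
  have hxs : ∀ s ∈ S, x • s = σ s := by
    intro s hs
    have := hx (e ⟨s, hs⟩)
    simpa using this
  have hα1 : x • α = h • α := by rw [hxs α hαS, hσP α ⟨hα, hα'⟩]
  have hα2 : x • h • α = α := by
    rw [hxs _ hσα, hσP, ← mul_smul, hh, one_smul]
    refine ⟨?_, ?_⟩
    · rw [← mul_smul, hc, mul_smul, show g • α = α from hα]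
    · rw [← mul_smul, hh, one_smul]
      intro h1; exact hα' h1.symm
  -- the order of `x` is even
  have hx2 : (x ^ 2) • α = α := by rw [sq, mul_smul, hα1, hα2]
  have hxα : x • α ≠ α := by rw [hα1]; exact hα'
  have heven : Even (orderOf x) := by
    by_contra hodd
    rw [Nat.not_even_iff_odd] at hodd
    obtain ⟨k, hk⟩ := hodd
    apply hxα
    have h1 : x = (x ^ 2) ^ (k + 1) := by
      rw [← pow_mul, show 2 * (k + 1) = orderOf x + 1 by omega, pow_succ, pow_orderOf_eq_one,
        one_mul]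
    rw [h1]
    exact (stabilizer G α).pow_mem (show x ^ 2 ∈ stabilizer G α from hx2) (k + 1)
  obtain ⟨k, hk⟩ := heven
  have hord : 0 < orderOf x := orderOf_pos x
  have hy1 : x ^ k ≠ 1 := by
    intro h1
    have := orderOf_dvd_of_pow_eq_one h1
    have := Nat.le_of_dvd (by omega) this
    omega
  have hy2 : x ^ k * x ^ k = 1 := by rw [← pow_add, ← hk, pow_orderOf_eq_one]
  have hfy := hf _ hy1 hy2
  have hsub : fixedBy X h ∪ fixedBy X (g * h) ⊆ fixedBy X (x ^ k) := by
    intro s hs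
    have h1 : x • s = s := by
      have hsS : s ∈ S := by
        rcases hs with hs | hs
        · exact Or.inl (Or.inr hs)
        · exact Or.inr hs
      rw [hxs s hsS, hσN]
      rintro ⟨h2, h3⟩
      rcases hs with hs | hs
      · exact h3 hs
      · exact h3 (hghs s hs h2)
    exact (stabilizer G s).pow_mem (show x ∈ stabilizer G s from h1) k
  have hle := Set.ncard_le_ncard hsub (Set.toFinite _)
  rw [hfy] at hle
  have hun := Set.ncard_union_add_ncard_inter (fixedBy X h) (fixedBy X (g * h))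
  rw [hf h hh1 hh, hf (g * h) hgh1 hgh2] at hun
  have hint : fixedBy X h ∩ fixedBy X (g * h) ⊆ fixedBy X g := by
    rintro s ⟨h1, h2⟩
    have h1 : h • s = s := h1
    have h2 : (g * h) • s = s := h2
    rw [mul_smul, h1] at h2
    exact h2
  have heq : fixedBy X h ∩ fixedBy X (g * h) = fixedBy X g := by
    apply Set.eq_of_subset_of_ncard_le hint _ (Set.toFinite _)
    rw [hf g hg1 hg]
    omega
  have : α ∈ fixedBy X h ∩ fixedBy X (g * h) := by rw [heq]; exact hα
  exact hα' this.1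

end fix

end Cfsg.Agent.Dk
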