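import Mathlib
import Cfsg.Agent.Dk.Amb

/-! Overgroups of the dihedral subgroups. -/

set_option autoImplicit false

namespace Cfsg.Agent.Dk

open MulAction Matrix LinearAlgebra.Projectivization Projectivization Subgroup
open scoped MatrixGroups
open H81 (pt0 pt1 ptz ptc)

section orders

theorem perm4_orders (σ : Equiv.Perm (Fin 4)) : σ ^ 3 = 1 ∨ σ ^ 4 = 1 := by
  revert σ; decide +kernel

theorem alt5_orders (σ : alternatingGroup (Fin 5)) : σ ^ 2 = 1 ∨ σ ^ 3 = 1 ∨ σ ^ 5 = 1 := by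
  revert σ; decide +kernel

theorem alt4_orders (σ : alternatingGroup (Fin 4)) : σ ^ 2 = 1 ∨ σ ^ 3 = 1 := by
  revert σ; decide +kernel

theorem order_S4 {G : Type*} [Group G] (e : G ≃* Equiv.Perm (Fin 4)) {g : G} {n : ℕ}
    (hg : orderOf g = n) (hn : 3 ≤ n) : n = 3 ∨ n = 4 := by
  have h : orderOf (e g) = n := by rw [← hg]; exact MulEquiv.orderOf_eq e g
  rcases perm4_orders (e g) with h1 | h1
  · left
    have h2 := orderOf_dvd_of_pow_eq_one h1
    rw [h] at h2
    have h3 := Nat.le_of_dvd (by norm_num) h2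
    omega
  · have h2 := orderOf_dvd_of_pow_eq_one h1
    rw [h] at h2
    have h3 := Nat.le_of_dvd (by norm_num) h2
    omega

theorem order_A5 {G : Type*} [Group G] (e : G ≃* alternatingGroup (Fin 5)) {g : G} {n : ℕ}
    (hg : orderOf g = n) (hn : 3 ≤ n) : n = 3 ∨ n = 5 := by
  have h : orderOf (e g) = n := by rw [← hg]; exact MulEquiv.orderOf_eq e g
  rcases alt5_orders (e g) with h1 | h1 | h1
  · have h2 := orderOf_dvd_of_pow_eq_one h1
    rw [h] at h2
    have h3 := Nat.le_of_dvd (by norm_num) h2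
    omega
  · have h2 := orderOf_dvd_of_pow_eq_one h1
    rw [h] at h2
    have h3 := Nat.le_of_dvd (by norm_num) h2
    omega
  · have h2 := orderOf_dvd_of_pow_eq_one h1
    rw [h] at h2
    have h3 := Nat.le_of_dvd (by norm_num) h2
    interval_cases n <;> revert h2 <;> decide

/-- `A4` has no subgroup of index two -/
theorem A4_no_index_two {G : Type*} [Group G] (e : G ≃* alternatingGroup (Fin 4)) (H : Subgroup G) :
    H.index ≠ 2 := by
  intro h
  have h1 : ∀ σ : alternatingGroup (Fin 4), σ ^ 3 = 1 → σ ∈ H.map e.toMonoidHom := by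
    intro σ hσ
    refine ⟨e.symm σ, ?_, e.apply_symm_apply σ⟩
    have h2 : (e.symm σ) = ((e.symm σ) ^ 2) ^ 2 := by
      rw [← pow_mul]
      calc e.symm σ = e.symm σ * (e.symm σ) ^ 3 := by rw [← map_pow, hσ, map_one, mul_one]
        _ = _ := by rw [← pow_succ']
    have h3 : ∀ x : G, x ^ 2 ∈ H := fun x => Subgroup.sq_mem_of_index_two h x
    show e.symm σ ∈ H
    rw [h2]; exact h3 _
  have h2 : (H.map e.toMonoidHom).index = 2 := by
    rw [← h]
    exact Subgroup.index_map_equiv H e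
  have h3 : Nat.card (H.map e.toMonoidHom) = 6 := by
    have h4 := Subgroup.card_mul_index (H.map e.toMonoidHom)
    rw [h2] at h4
    have h5 : Nat.card (alternatingGroup (Fin 4)) = 12 := by
      rw [Nat.card_eq_fintype_card]; decide +kernel
    omega
  have h4 : Nat.card {σ : alternatingGroup (Fin 4) // σ ^ 3 = 1} ≤ 6 := by
    rw [← h3]
    exact Nat.card_le_card_of_injective (fun σ => (⟨σ.1, h1 _ σ.2⟩ : H.map e.toMonoidHom))
      (fun a b hab => Subtype.ext (congrArg (fun z : H.map e.toMonoidHom =>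
        (z : alternatingGroup (Fin 4))) hab))
  have h5 : Nat.card {σ : alternatingGroup (Fin 4) // σ ^ 3 = 1} = 9 := by
    rw [Nat.card_eq_fintype_card]; decide +kernel
  omega

end orders

section mobs

variable {p : ℕ} {Γ X K : Type*} [Group Γ] [MulAction Γ X] [Field K] (M : Mob p Γ X K)
  [Finite Γ]
include M

theorem Mob.not_dvd_TS [Fact p.Prime] [CharP K p] {x y : X} (hxy : x ≠ y) :
    ¬ p ∣ Nat.card (TS Γ x y) := by
  have hU : (M.subgroup (TS Γ x y)).U x = ⊥ := by
    rw [Subgroup.eq_bot_iff_forall]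
    intro g hg
    rw [M.mem_U_subgroup] at hg
    exact Subtype.ext (M.TS_inf_U hxy g.2 hg)
  have h1 := (M.subgroup (TS Γ x y)).not_dvd_stab hU
  have h2 : stabilizer (TS Γ x y) x = ⊤ := by
    rw [eq_top_iff]
    intro g _
    exact g.2.1
  rw [h2, Subgroup.card_top] at h1
  exact h1

theorem Mob.exists_gen {x y : X} (hxy : x ≠ y) : ∃ c ∈ TS Γ x y, orderOf c = Nat.card (TS Γ x y) := by
  obtain ⟨c, hc⟩ := (M.cyclic_TS hxy).exists_generator
  refine ⟨c, c.2, ?_⟩
  rw [Subgroup.orderOf_coe]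
  exact orderOf_eq_card_of_forall_mem_zpowers hc

omit [Finite Γ] in
theorem Mob.mem_pair {x y z : X} (hxy : x ≠ y) {t : Γ} (ht : t ∈ TS Γ x y) (ht1 : t ≠ 1)
    (hz : t • z = z) : z = x ∨ z = y := by
  by_contra hcon
  push Not at hcon
  exact ht1 (M.eq_one_of_three hcon.1 hcon.2 hxy hz ht.1 ht.2)

end mobs

section

variable {F K : Type*} [Field F] [Field K] [Algebra F K]
variable {Γ : Type*} [Group Γ] [MulAction Γ (ℙ K (Fin 2 → K))] {φ : Γ →* PGL(2, F)}
  (A : Amb (K := K) φ)
include A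
variable {p : ℕ} [CharP K p] [IsAlgClosed K] [Finite F] [Fact p.Prime]

theorem Amb.over_dih {z w : ℙ K (Fin 2 → K)} (hzw : z ≠ w) (hn : 3 ≤ Nat.card (TS Γ z w))
    {s : Γ} (hs1 : s • z = w) (hs2 : s • w = z) {L : Subgroup Γ} (hL : DS Γ z w ≤ L)
    (hne : L ≠ DS Γ z w) :
    ((Nat.card (TS Γ z w) = 3 ∨ Nat.card (TS Γ z w) = 4) ∧ ¬ p ∣ 24 ∧ Nat.card L = 24) ∨
    ((Nat.card (TS Γ z w) = 3 ∨ Nat.card (TS Γ z w) = 5) ∧ (¬ p ∣ 60 ∨ p = 3) ∧ Nat.card L = 60) ∨
    (∃ (g : PGL(2, F)) (K1 : Subfield F), 3 ≤ Nat.card K1 ∧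
      Nat.card (TS Γ z w) ≤ Nat.card K1 + 1 ∧
      (cj g (L.map φ) = PGLs K1 ∨ cj g (L.map φ) = PSLs K1)) := by
  have := A.finite
  have M := A.mob (p := p)
  have hTL : TS Γ z w ≤ L := (TS_le_DS z w).trans hL
  have hsL : s ∈ L := hL (Or.inr ⟨hs1, hs2⟩)
  obtain ⟨c, hcT, hc⟩ := M.exists_gen hzw
  have hc1 : c ≠ 1 := by
    intro h; rw [h, orderOf_one] at hc; omega
  have hc2 : c ^ 2 ≠ 1 := by
    intro h
    have h1 := orderOf_dvd_of_pow_eq_one h
    rw [hc] at h1
    have := Nat.le_of_dvd (by norm_num) h1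
    omega
  have hcardD : Nat.card (DS Γ z w) = 2 * Nat.card (TS Γ z w) := (M.DS_dihedral hzw hs1 hs2).2
  have hdvd : 2 * Nat.card (TS Γ z w) ∣ Nat.card L := by
    rw [← hcardD]; exact Subgroup.card_dvd_of_le hL
  have hLbot : L ≠ ⊥ := by
    rintro rfl
    exact hc1 (hTL hcT)
  rcases A.list (p := p) hLbot with h | h | h | h | h | h
  · exfalso
    obtain ⟨y, hy⟩ := h
    rcases M.mem_pair hzw hcT hc1 (hy c (hTL hcT)) with rfl | rfl
    · have := hy s hsL; rw [hs1] at this; exact hzw this.symm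
    · have := hy s hsL; rw [hs2] at this; exact hzw this
  · exfalso
    obtain ⟨y, -, ho⟩ := h
    obtain ⟨y', hy'y, horb, s', hs', hs''⟩ := orbit_pair ho
    have hmv : ∀ l ∈ L, (l • y = y ∨ l • y = y') ∧ (l • y' = y ∨ l • y' = y') := by
      intro l hl
      constructor
      · have : l • y ∈ orbit L y := ⟨⟨l, hl⟩, rfl⟩
        rw [horb] at this; exact this
      · have h1 : y' ∈ orbit L y := by rw [horb]; simp
        obtain ⟨k, hk⟩ := h1
        have hk : (k : Γ) • y = y' := hk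
        have : l • y' ∈ orbit L y := ⟨⟨l, hl⟩ * k, by
          show (l * (k : Γ)) • y = _
          rw [mul_smul, hk]⟩
        rw [horb] at this; exact this
    have hsq : ∀ l ∈ L, l ^ 2 • y = y ∧ l ^ 2 • y' = y' := by
      intro l hl
      obtain ⟨h1, h2⟩ := hmv l hl
      rw [sq, mul_smul, mul_smul]
      have hinj : l • y ≠ l • y' := fun h => hy'y (smul_left_cancel l h).symm
      rcases h1 with h1 | h1
      · rcases h2 with h2 | h2
        · exact absurd (h1.trans h2.symm) hinj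
        · exact ⟨by rw [h1, h1], by rw [h2, h2]⟩
      · rcases h2 with h2 | h2
        · exact ⟨by rw [h1, h2], by rw [h2, h1]⟩
        · exact absurd (h1.trans h2.symm) hinj
    obtain ⟨h1, h2⟩ := hsq c (hTL hcT)
    have hcT2 : c ^ 2 ∈ TS Γ z w := pow_mem hcT 2
    have h3 := M.mem_pair hzw hcT2 hc2 h1
    have h4 := M.mem_pair hzw hcT2 hc2 h2
    apply hne
    apply le_antisymm _ hL
    intro l hl
    obtain ⟨h5, h6⟩ := hmv l hl
    have hinj : l • y ≠ l • y' := fun h => hy'y (smul_left_cancel l h).symm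
    rw [mem_DS]
    rcases h3 with rfl | rfl <;> rcases h4 with rfl | rfl
    · exact absurd rfl hy'y
    · rcases h5 with h5 | h5 <;> rcases h6 with h6 | h6
      · exact absurd (h5.trans h6.symm) hinj
      · exact Or.inl ⟨h5, h6⟩
      · exact Or.inr ⟨h5, h6⟩
      · exact absurd (h5.trans h6.symm) hinj
    · rcases h5 with h5 | h5 <;> rcases h6 with h6 | h6
      · exact absurd (h5.trans h6.symm) hinj
      · exact Or.inl ⟨h6, h5⟩
      · exact Or.inr ⟨h6, h5⟩
      · exact absurd (h5.trans h6.symm) hinj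
    · exact absurd rfl hy'y
  · exfalso
    obtain ⟨-, h12, ⟨e⟩⟩ := h
    rw [h12] at hdvd
    have h1 : 2 * Nat.card (TS Γ z w) = 6 ∨ 2 * Nat.card (TS Γ z w) = 12 := by
      obtain ⟨k, hk⟩ := hdvd
      have hk1 : k ≤ 2 := by
        by_contra h
        push Not at h
        have : 2 * Nat.card (TS Γ z w) * 3 ≤ 2 * Nat.card (TS Γ z w) * k := Nat.mul_le_mul_left _ h
        omega
      interval_cases k <;> omega
    rcases h1 with h1 | h1
    · refine A4_no_index_two e ((DS Γ z w).subgroupOf L) ?_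
      have h2 := Subgroup.card_mul_index ((DS Γ z w).subgroupOf L)
      rw [Nat.card_congr (Subgroup.subgroupOfEquivOfLe hL).toEquiv, hcardD, h1, h12] at h2
      omega
    · apply hne
      symm
      apply Subgroup.eq_of_le_of_card_ge hL
      rw [h12, hcardD, h1]
  · left
    obtain ⟨h1, h2, ⟨e⟩⟩ := h
    refine ⟨?_, h1, h2⟩
    have h3 : orderOf (⟨c, hTL hcT⟩ : L) = Nat.card (TS Γ z w) := by
      rw [← hc, Subgroup.orderOf_mk]
    exact order_S4 e h3 hn
  · right; left
    obtain ⟨h1, h2, ⟨e⟩⟩ := h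
    refine ⟨?_, h1, h2⟩
    have h3 : orderOf (⟨c, hTL hcT⟩ : L) = Nat.card (TS Γ z w) := by
      rw [← hc, Subgroup.orderOf_mk]
    exact order_A5 e h3 hn
  · right; right
    obtain ⟨z0, hF, h3, g, K1, -, hcj, -, hK1⟩ := h
    refine ⟨g, K1, by rw [hK1]; exact h3, ?_, hcj⟩
    have hcT : Nat.card ((TS Γ z w).subgroupOf L) = Nat.card (TS Γ z w) :=
      Nat.card_congr (Subgroup.subgroupOfEquivOfLe hTL).toEquiv
    have hp : ¬ p ∣ Nat.card ((TS Γ z w).subgroupOf L) := by
      rw [hcT]; exact M.not_dvd_TS hzw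
    have ht := (M.subgroup L).t_lt hF.hU
    have hpos : 0 < Nat.card (TS Γ z w) := by omega
    rcases hF.card_dvd (C := (TS Γ z w).subgroupOf L) (z := z) (fun c hc => hc.1) hp with h | ⟨m, h1, h2⟩
    · rw [hcT] at h
      have ht0 : 0 < (M.subgroup L).t z0 := by
        have := (M.subgroup L).finite_range z0
        exact Nat.card_pos
      have := Nat.le_of_dvd ht0 h
      rw [hK1]; omega
    · rw [hcT] at h1
      have ht0 : 0 < (M.subgroup L).t z0 := by
        have := (M.subgroup L).finite_range z0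
        exact Nat.card_pos
      rw [hK1]
      set q1 := Nat.card ((M.subgroup L).U z0) with hq1
      have hm : m ≤ q1 + 1 := by
        have h4 : m * (q1 - 1) ≤ (q1 + 1) * (q1 - 1) := by
          rw [h2]; exact Nat.mul_le_mul_left _ ht
        exact Nat.le_of_mul_le_mul_right h4 (by omega)
      have hm0 : 0 < m := by
        rcases Nat.eq_zero_or_pos m with h | h
        · rw [h, zero_mul] at h2
          have : 0 < (q1 + 1) * (M.subgroup L).t z0 := by positivity
          omega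
        · exact h
      exact (Nat.le_of_dvd hm0 h1).trans hm

end

end Cfsg.Agent.Dk
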