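import Mathlib
import Cfsg.Agent.Dk.DihOver

/-! Maximality of the dihedral subgroups of `PSL₂(q)`. -/

set_option autoImplicit false

namespace Cfsg.Agent.Dk

open MulAction Matrix LinearAlgebra.Projectivization Projectivization Subgroup
open scoped MatrixGroups
open H81 (pt0 pt1 ptz ptc)

section

variable {F : Type*} [Field F] [Finite F]

theorem top_or_sq (K1 : Subfield F) : K1 = ⊤ ∨ Nat.card K1 ^ 2 ≤ Nat.card F := by
  obtain ⟨m, hm⟩ := exists_pow_card K1
  have h1 := one_lt_card_sub K1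
  have h2 := Finite.one_lt_card (α := F)
  rcases m with _ | _ | m
  · rw [pow_zero] at hm; omega
  · left
    rw [zero_add, pow_one] at hm
    exact eq_top_of_card hm
  · right
    rw [← hm]
    exact Nat.pow_le_pow_right (by omega) (by omega)

theorem PSLr_le_of_cj {g : PGL(2, F)} {H : Subgroup PGL(2, F)}
    (h : cj g H = PGLs ⊤ ∨ cj g H = PSLs ⊤) : PSLr F ≤ H := by
  have h1 : PSLr F ≤ cj g H := by
    rcases h with h | h
    · rw [h, PGLs_top]; exact le_top
    · rw [h, PSLs_top]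
  have hn := PSLr_normal (F := F)
  intro x hx
  have h2 : g * x * g⁻¹ ∈ cj g H := h1 (hn.conj_mem x hx g)
  exact conj_mem_cj.1 h2

theorem eq_top_of_im {L : Subgroup PSL(2, F)} (h : PSLr F ≤ L.map (toP F)) : L = ⊤ := by
  rw [eq_top_iff, ← im_mono, im_top]
  exact h

theorem gcd_even (he : Even (Nat.card F)) : Nat.gcd 2 (Nat.card F - 1) = 1 := by
  rw [← Nat.coprime_iff_gcd_eq_one, Nat.coprime_two_left]
  obtain ⟨k, hk⟩ := he
  have := Finite.one_lt_card (α := F)
  exact ⟨k - 1, by omega⟩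

theorem gcd_odd (ho : Odd (Nat.card F)) : Nat.gcd 2 (Nat.card F - 1) = 2 := by
  apply Nat.gcd_eq_left
  obtain ⟨k, hk⟩ := ho
  exact ⟨k, by omega⟩

theorem char_two_of_even {p : ℕ} (hp : p.Prime) [CharP F p] (he : Even (Nat.card F)) : p = 2 := by
  have := Fintype.ofFinite F
  obtain ⟨n, -, hn⟩ := FiniteField.card F p
  rw [Nat.card_eq_fintype_card, hn] at he
  have h2 : 2 ∣ p ^ (n : ℕ) := even_iff_two_dvd.1 he
  exact ((Nat.prime_dvd_prime_iff_eq Nat.prime_two hp).1 (Nat.prime_two.dvd_of_dvd_pow h2)).symm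

theorem char_dvd_card {p : ℕ} (hp : p.Prime) [CharP F p] : p ∣ Nat.card F := by
  have := Fintype.ofFinite F
  obtain ⟨n, -, hn⟩ := FiniteField.card F p
  rw [Nat.card_eq_fintype_card, hn]
  exact dvd_pow_self _ n.ne_zero

theorem eq_char_of_prime {p r : ℕ} (hp : p.Prime) [CharP F p] (hr : r.Prime)
    (h : r ∣ Nat.card F) : r = p := by
  have := Fintype.ofFinite F
  obtain ⟨n, -, hn⟩ := FiniteField.card F p
  rw [Nat.card_eq_fintype_card, hn] at h
  exact (Nat.prime_dvd_prime_iff_eq hr hp).1 (hr.dvd_of_dvd_pow h)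

end

section dih

variable {F : Type*} [Field F] [Finite F]

attribute [local instance 10] sact

/-- irrational points for `PSL₂` -/
theorem exists_irr_psl (K : Type*) [Field K] [Algebra F K] {p : ℕ} [CharP K p] [IsAlgClosed K]
    [Fact p.Prime] : ∃ (z w : ℙ K (Fin 2 → K)), z ≠ w ∧
      Nat.gcd 2 (Nat.card F - 1) * Nat.card (TS PSL(2, F) z w) = Nat.card F + 1 ∧
      ∃ s : PSL(2, F), s • z = w ∧ s • w = z := by
  have hF := fullS (p := p) (F := F) (K := K)
  obtain ⟨x, h1, h2, h3, h4, h5, h6⟩ := hF.exists_irr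
  obtain ⟨y, k1, k2, k3, k4, k5, s, hs1, hs2⟩ := hF.irr_mate h1 h4
  refine ⟨x, y, k3.symm, ?_, s, hs1, hs2⟩
  rw [← k4]
  have ht := t_psl (F := F) (K := K) (p := p)
  rw [card_US_pt0] at h6
  have hpos : 0 < Nat.card F - 1 := by
    have := Finite.one_lt_card (α := F); omega
  apply Nat.eq_of_mul_eq_mul_right hpos
  calc Nat.gcd 2 (Nat.card F - 1) * Nat.card (stabilizer PSL(2, F) x) * (Nat.card F - 1)
      = Nat.gcd 2 (Nat.card F - 1) * (Nat.card (stabilizer PSL(2, F) x) * (Nat.card F - 1)) := by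
        ring
    _ = (Nat.card F + 1) * (Nat.gcd 2 (Nat.card F - 1) *
        (mobS (p := p) (F := F) (K := K)).t (pt0 K)) := by rw [h6]; ring
    _ = _ := by rw [ht]

/-- rational points for `PSL₂` -/
theorem exists_rat_psl (K : Type*) [Field K] [Algebra F K] {p : ℕ} [CharP K p] [IsAlgClosed K]
    [Fact p.Prime] : ∃ (z w : ℙ K (Fin 2 → K)), z ≠ w ∧
      Nat.gcd 2 (Nat.card F - 1) * Nat.card (TS PSL(2, F) z w) = Nat.card F - 1 ∧
      ∃ s : PSL(2, F), s • z = w ∧ s • w = z := by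
  have hF := fullS (p := p) (F := F) (K := K)
  have h0 : ptz K 0 ∈ orbit PSL(2, F) (pt0 K) := by
    rw [orbitS_pt0]; exact Or.inr ⟨0, by rw [map_zero]⟩
  refine ⟨pt0 K, ptz K 0, H81.pt0_ne_ptz _, ?_, hF.swap (mem_orbit_self _) h0 (H81.pt0_ne_ptz _)⟩
  rw [hF.card_TS (mem_orbit_self _) h0 (H81.pt0_ne_ptz _), t_psl]

theorem coatom_of_prime_index {G : Type*} [Group G] [Finite G] {H : Subgroup G}
    (h : H.index.Prime) : IsCoatom H := by
  refine ⟨fun h' => ?_, fun L hL => ?_⟩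
  · rw [h', Subgroup.index_top] at h; exact Nat.not_prime_one h
  · have h1 : L.index ∣ H.index := Subgroup.index_dvd_of_le hL.le
    rcases (Nat.dvd_prime h).1 h1 with h2 | h2
    · exact Subgroup.index_eq_one.1 h2
    · exfalso
      have h3 : Nat.card L = Nat.card H := by
        have e1 := Subgroup.card_mul_index L
        have e2 := Subgroup.card_mul_index H
        rw [h2] at e1
        have : 0 < H.index := h.pos
        exact Nat.eq_of_mul_eq_mul_right this (e1.trans e2.symm)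
      exact hL.ne (Subgroup.eq_of_le_of_card_ge hL.le h3.le)

/-- maximality criterion for the dihedral groups in `PSL₂` -/
theorem dih_coatom (K : Type*) [Field K] [Algebra F K] {p : ℕ} [CharP F p] [CharP K p]
    [IsAlgClosed K] [Fact p.Prime] {z w : ℙ K (Fin 2 → K)} (hzw : z ≠ w) {n : ℕ}
    (hn : Nat.card (TS PSL(2, F) z w) = n) (hn3 : 3 ≤ n) {s : PSL(2, F)} (hs1 : s • z = w)
    (hs2 : s • w = z) (hlt : 2 * n < Nat.card PSL(2, F))
    (h24 : n = 3 ∨ n = 4 → ¬ p ∣ 24 → ¬ 24 ∣ Nat.card PSL(2, F))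
    (h60 : n = 3 ∨ n = 5 → (¬ p ∣ 60 ∨ p = 3) → 60 ∣ Nat.card PSL(2, F) → Nat.card PSL(2, F) = 60)
    (hsub : ∀ q1, 3 ≤ q1 → q1 ^ 2 ≤ Nat.card F → q1 + 1 < n) :
    IsCoatom (DS PSL(2, F) z w) := by
  have hfin : Finite PSL(2, F) := finite_psl
  have hD := (mobS (p := p) (F := F) (K := K)).DS_dihedral hzw hs1 hs2
  rw [hn] at hD
  refine ⟨?_, ?_⟩
  · intro h
    have h1 := hD.2
    rw [h, Subgroup.card_top] at h1
    omega
  · intro L hL
    have hdvd : Nat.card L ∣ Nat.card PSL(2, F) := Subgroup.card_subgroup_dvd_card L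
    rcases (ambS (F := F) (K := K)).over_dih (p := p) hzw (by rw [hn]; exact hn3) hs1 hs2 hL.le hL.ne' with
      ⟨h1, h2, h3⟩ | ⟨h1, h2, h3⟩ | ⟨g, K1, h1, h2, h3⟩
    · exfalso
      rw [hn] at h1
      rw [h3] at hdvd
      exact h24 h1 h2 hdvd
    · rw [hn] at h1
      rw [h3] at hdvd
      have h4 := h60 h1 h2 hdvd
      exact Subgroup.eq_top_of_card_eq L (by rw [h3, h4])
    · rcases top_or_sq K1 with h4 | h4
      · rw [h4] at h3
        exact eq_top_of_im (PSLr_le_of_cj h3)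
      · exfalso
        rw [hn] at h2
        have := hsub _ h1 h4
        omega

end dih

end Cfsg.Agent.Dk
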