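import Mathlib
import Cfsg.Agent.Dk.DihMax

/-! Maximal dihedral subgroups of `PSL₂(q)`: the two rows. -/

set_option autoImplicit false

namespace Cfsg.Agent.Dk

open MulAction Matrix LinearAlgebra.Projectivization Projectivization Subgroup
open scoped MatrixGroups

variable {F : Type*} [Field F] [Finite F]

attribute [local instance 10] sact

theorem dih_plus (h2 : Nat.card F ≠ 2) (h7 : Nat.card F ≠ 7) (h9 : Nat.card F ≠ 9) :
    ∃ H : Subgroup PSL(2, F), IsCoatom H ∧
      Nonempty (H ≃* DihedralGroup ((Nat.card F + 1) / Nat.gcd 2 (Nat.card F - 1))) := by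
  obtain ⟨p, hp, hc⟩ := exists_char (F := F)
  have : Fact p.Prime := ⟨hp⟩
  have : CharP (AlgebraicClosure F) p :=
    charP_of_injective_algebraMap (algebraMap F (AlgebraicClosure F)).injective p
  obtain ⟨z, w, hzw, hT, s, hs1, hs2⟩ := exists_irr_psl (F := F) (AlgebraicClosure F) (p := p)
  have hfin : Finite PSL(2, F) := finite_psl
  have hD := (mobS (p := p) (F := F) (K := AlgebraicClosure F)).DS_dihedral hzw hs1 hs2
  have hcard := card_psl (F := F)
  have hq := Finite.one_lt_card (α := F)
  have hd : 0 < Nat.gcd 2 (Nat.card F - 1) := Nat.gcd_pos_of_pos_left _ (by norm_num)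
  have hn : (Nat.card F + 1) / Nat.gcd 2 (Nat.card F - 1) =
      Nat.card (TS PSL(2, F) z w) := Nat.div_eq_of_eq_mul_right hd hT.symm
  rw [hn]
  refine ⟨DS PSL(2, F) z w, ?_, hD.1⟩
  rcases Nat.even_or_odd (Nat.card F) with he | ho
  · have hp2 : p = 2 := char_two_of_even hp he
    rw [gcd_even he, one_mul] at hT hcard
    have hq4 : 4 ≤ Nat.card F := by
      obtain ⟨k, hk⟩ := he; omega
    refine dih_coatom (AlgebraicClosure F) (p := p) hzw hT (by omega) hs1 hs2 ?_ ?_ ?_ ?_
    · rw [hcard]
      have h3 : 3 ≤ Nat.card F - 1 := by omega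
      have : Nat.card F * (3 * (Nat.card F + 1)) ≤
          Nat.card F * ((Nat.card F - 1) * (Nat.card F + 1)) :=
        Nat.mul_le_mul_left _ (Nat.mul_le_mul_right _ h3)
      nlinarith
    · rintro (h | h) <;> omega
    · intro _ h; rw [hp2] at h; rcases h with h | h
      · exact absurd (by norm_num) h
      · omega
    · intro q1 h1 h3
      have : q1 * 3 ≤ q1 ^ 2 := by rw [sq]; exact Nat.mul_le_mul_left _ h1
      omega
  · rw [gcd_odd ho] at hT hcard
    by_cases hq3 : Nat.card F = 3
    · rw [hq3] at hT hcard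
      apply coatom_of_prime_index
      have h1 := Subgroup.card_mul_index (DS PSL(2, F) z w)
      rw [hD.2] at h1
      have h3 : Nat.card (TS PSL(2, F) z w) = 2 := by omega
      have h4 : Nat.card PSL(2, F) = 12 := by omega
      rw [h3, h4] at h1
      have : (DS PSL(2, F) z w).index = 3 := by omega
      rw [this]; norm_num
    · have hq5 : 5 ≤ Nat.card F := by
        obtain ⟨k, hk⟩ := ho; omega
      have hodd' : Nat.card F % 2 = 1 := Nat.odd_iff.1 ho
      have hT' : Nat.card (TS PSL(2, F) z w) = (Nat.card F + 1) / 2 := by omega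
      refine dih_coatom (AlgebraicClosure F) (p := p) hzw hT' (by omega) hs1 hs2 ?_ ?_ ?_ ?_
      · have h3 : 4 ≤ Nat.card F - 1 := by omega
        have : Nat.card F * (4 * (Nat.card F + 1)) ≤
            Nat.card F * ((Nat.card F - 1) * (Nat.card F + 1)) :=
          Nat.mul_le_mul_left _ (Nat.mul_le_mul_right _ h3)
        have h5 : 2 * ((Nat.card F + 1) / 2) ≤ Nat.card F + 1 := Nat.mul_div_le _ _
        nlinarith
      · rintro (h | h) _ hd
        · have h5 : Nat.card F = 5 := by omega
          rw [h5] at hcard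
          omega
        · omega
      · rintro (h | h) _ hd
        · have h5 : Nat.card F = 5 := by omega
          rw [h5] at hcard
          omega
        · omega
      · intro q1 h1 h3
        have : q1 * 3 ≤ q1 ^ 2 := by rw [sq]; exact Nat.mul_le_mul_left _ h1
        omega

theorem dih_minus (h2 : Nat.card F ≠ 2) (h3 : Nat.card F ≠ 3) (h5 : Nat.card F ≠ 5)
    (h7 : Nat.card F ≠ 7) (h9 : Nat.card F ≠ 9) (h11 : Nat.card F ≠ 11) :
    ∃ H : Subgroup PSL(2, F), IsCoatom H ∧
      Nonempty (H ≃* DihedralGroup ((Nat.card F - 1) / Nat.gcd 2 (Nat.card F - 1))) := by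
  obtain ⟨p, hp, hc⟩ := exists_char (F := F)
  have : Fact p.Prime := ⟨hp⟩
  have : CharP (AlgebraicClosure F) p :=
    charP_of_injective_algebraMap (algebraMap F (AlgebraicClosure F)).injective p
  obtain ⟨z, w, hzw, hT, s, hs1, hs2⟩ := exists_rat_psl (F := F) (AlgebraicClosure F) (p := p)
  have hfin : Finite PSL(2, F) := finite_psl
  have hD := (mobS (p := p) (F := F) (K := AlgebraicClosure F)).DS_dihedral hzw hs1 hs2
  have hcard := card_psl (F := F)
  have hq := Finite.one_lt_card (α := F)
  have hd : 0 < Nat.gcd 2 (Nat.card F - 1) := Nat.gcd_pos_of_pos_left _ (by norm_num)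
  have hn : (Nat.card F - 1) / Nat.gcd 2 (Nat.card F - 1) =
      Nat.card (TS PSL(2, F) z w) := Nat.div_eq_of_eq_mul_right hd hT.symm
  rw [hn]
  refine ⟨DS PSL(2, F) z w, ?_, hD.1⟩
  rcases Nat.even_or_odd (Nat.card F) with he | ho
  · have hp2 : p = 2 := char_two_of_even hp he
    rw [gcd_even he, one_mul] at hT hcard
    have hq4 : 4 ≤ Nat.card F := by
      obtain ⟨k, hk⟩ := he; omega
    refine dih_coatom (AlgebraicClosure F) (p := p) hzw hT (by omega) hs1 hs2 ?_ ?_ ?_ ?_
    · rw [hcard]
      have h3 : 3 ≤ Nat.card F - 1 := by omega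
      have : Nat.card F * (3 * (Nat.card F + 1)) ≤
          Nat.card F * ((Nat.card F - 1) * (Nat.card F + 1)) :=
        Nat.mul_le_mul_left _ (Nat.mul_le_mul_right _ h3)
      have : Nat.card F - 1 ≤ Nat.card F := Nat.sub_le _ _
      nlinarith
    · intro _ h; rw [hp2] at h; exact absurd (by norm_num) h
    · intro _ h; rw [hp2] at h; rcases h with h | h
      · exact absurd (by norm_num) h
      · omega
    · intro q1 h1 h3
      have : q1 * 3 ≤ q1 ^ 2 := by rw [sq]; exact Nat.mul_le_mul_left _ h1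
      omega
  · rw [gcd_odd ho] at hT hcard
    have hq13 : 13 ≤ Nat.card F := by
      obtain ⟨k, hk⟩ := ho; omega
    have hodd' : Nat.card F % 2 = 1 := Nat.odd_iff.1 ho
    have hT' : Nat.card (TS PSL(2, F) z w) = (Nat.card F - 1) / 2 := by omega
    refine dih_coatom (AlgebraicClosure F) (p := p) hzw hT' (by omega) hs1 hs2 ?_ ?_ ?_ ?_
    · have h3 : 4 ≤ Nat.card F - 1 := by omega
      have : Nat.card F * (4 * (Nat.card F + 1)) ≤
          Nat.card F * ((Nat.card F - 1) * (Nat.card F + 1)) :=
        Nat.mul_le_mul_left _ (Nat.mul_le_mul_right _ h3)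
      have h5 : 2 * ((Nat.card F - 1) / 2) ≤ Nat.card F - 1 := Nat.mul_div_le _ _
      have : Nat.card F - 1 ≤ Nat.card F := Nat.sub_le _ _
      nlinarith
    · rintro (h | h) _ hd <;> omega
    · rintro (h | h) _ hd <;> omega
    · intro q1 h1 h3
      by_cases h4 : q1 = 3
      · omega
      · have : q1 * 4 ≤ q1 ^ 2 := by rw [sq]; exact Nat.mul_le_mul_left _ (by omega)
        omega

end Cfsg.Agent.Dk
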