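import Mathlib
import Cfsg.Agent.Dk.DihRows
import Cfsg.Agent.S0144
import Cfsg.Agent.S0804

/-! Minimal simple groups `PSL₂(q)`. -/

set_option autoImplicit false

namespace Cfsg.Agent.Dk

open MulAction Matrix LinearAlgebra.Projectivization Projectivization Subgroup
open scoped MatrixGroups
open H81 (pt0 pt1 ptz ptc)

section solv

theorem solvable_of_index_two {G : Type*} [Group G] (N : Subgroup G) (h : N.index = 2)
    (hN : Group.IsSolvable N) : Group.IsSolvable G := by
  have hn : N.Normal := Subgroup.normal_of_index_eq_two h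
  have h2 : Nat.card (G ⧸ N) = 2 := h
  have : Fact (Nat.Prime 2) := ⟨Nat.prime_two⟩
  have hc : IsCyclic (G ⧸ N) := isCyclic_of_prime_card h2
  have hcomm : IsMulCommutative (G ⧸ N) := hc.isMulCommutative
  have hs : Group.IsSolvable (G ⧸ N) := isSolvable_of_comm (fun a b => hcomm.is_comm.comm a b)
  exact solvable_of_ker_le_range N.subtype (QuotientGroup.mk' N) (by
    rw [QuotientGroup.ker_mk', Subgroup.range_subtype])

variable {p : ℕ} {Γ X K : Type*} [Group Γ] [MulAction Γ X] [Field K] (M : Mob p Γ X K)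
  [Finite Γ]
include M

theorem Mob.solvable_stab [Fact p.Prime] (x : X) : Group.IsSolvable (stabilizer Γ x) := by
  have hpg : IsPGroup p (M.chi x).choose.ker := by
    rintro ⟨g, hg⟩
    refine ⟨1, Subtype.ext (Subtype.ext ?_)⟩
    rw [pow_one]
    exact M.pow_of_mem_U ((M.chi_spec x g).1 hg)
  have hnil : Group.IsNilpotent (M.chi x).choose.ker := hpg.isNilpotent
  have h1 : Group.IsSolvable (M.chi x).choose.ker := inferInstance
  have h2 : Group.IsSolvable Kˣ := inferInstance
  exact solvable_of_ker_le_range ((M.chi x).choose.ker.subtype) (M.chi x).choose (by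
    rw [Subgroup.range_subtype])

theorem Mob.solvable_fixed [Fact p.Prime] {L : Subgroup Γ} {x : X} (hx : ∀ l ∈ L, l • x = x) :
    Group.IsSolvable L := by
  have h := (M.subgroup L).solvable_stab x
  have h2 : stabilizer L x = ⊤ := by
    rw [eq_top_iff]
    intro g _
    exact hx g g.2
  rw [h2] at h
  exact solvable_of_surjective (f := (Subgroup.topEquiv (G := L)).toMonoidHom)
    (Subgroup.topEquiv (G := L)).surjective

theorem Mob.solvable_dih [Fact p.Prime] {L : Subgroup Γ} {x : X}
    (h : Nat.card (orbit L x) = 2) : Group.IsSolvable L := by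
  apply solvable_of_index_two (stabilizer L x)
  · have h1 := card_orbit_mul (Γ := L) x
    have h2 := Subgroup.card_mul_index (stabilizer L x)
    rw [← h1, h, mul_comm] at h2
    exact Nat.eq_of_mul_eq_mul_right Nat.card_pos h2
  · exact (M.subgroup L).solvable_stab x

end solv

section facts

theorem psl_not_comm {k : Type*} [Field k] : ¬ ∀ a b : PSL(2, k), a * b = b * a := by
  intro h
  have h1 := h (XS 1) (WS k)
  have h2 := congrArg (toP k) h1
  rw [map_mul, map_mul, toP_XS, toP_WS] at h2
  let K := AlgebraicClosure k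
  letI := pact k K
  have h3 : (XX (1 : k) * WW (-1) (neg_ne_zero.2 one_ne_zero)) • pt0 K =
      (WW (-1) (neg_ne_zero.2 one_ne_zero) * XX (1 : k)) • pt0 K := by rw [h2]
  rw [mul_smul, mul_smul, WW_smul_pt0, XX_smul_pt0, WW_smul_pt0, XX_smul_ptz, ptz_eq_iff, map_one,
    zero_add] at h3
  exact one_ne_zero h3

theorem psl_not_solvable {k : Type*} [Field k] (h : 4 ≤ Nat.card k) :
    ¬ Group.IsSolvable PSL(2, k) := by
  intro hs
  have := Matrix.ProjectiveSpecialLinearGroup.rank_two_simple h
  exact psl_not_comm ((IsSimpleGroup.comm_iff_isSolvable).2 hs)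

theorem not_solvable_equiv {G H : Type*} [Group G] [Group H] (e : G ≃* H)
    (h : ¬ Group.IsSolvable H) : ¬ Group.IsSolvable G := fun hs =>
  h (solvable_of_surjective (f := e.toMonoidHom) e.surjective)

theorem alt5_not_solvable : ¬ Group.IsSolvable (alternatingGroup (Fin 5)) := by
  intro hs
  have hsimp : IsSimpleGroup (alternatingGroup (Fin 5)) := alternatingGroup.isSimpleGroup_five
  have h := (IsSimpleGroup.comm_iff_isSolvable).2 hs
  revert h; decide +kernel

theorem solvable_card {G : Type*} [Group G] [Finite G] (h : Nat.card G = 6 ∨ Nat.card G = 12 ∨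
    Nat.card G = 24) : Group.IsSolvable G := by
  rcases h with h | h | h
  · exact Cfsg.Agent.S0144.result 2 3 1 1 Nat.prime_two Nat.prime_three (by rw [h]; norm_num)
  · exact Cfsg.Agent.S0144.result 2 3 2 1 Nat.prime_two Nat.prime_three (by rw [h]; norm_num)
  · exact Cfsg.Agent.S0144.result 2 3 3 1 Nat.prime_two Nat.prime_three (by rw [h]; norm_num)

end facts

section main

variable {F : Type*} [Field F] [Finite F]

attribute [local instance 10] sact

/-- proper subfields of a minimal simple `PSL₂` -/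
theorem sub_le_three (hmin : ∀ H : Subgroup PSL(2, F), H ≠ ⊤ → Group.IsSolvable H)
    {K0 : Subfield F} (h : K0 ≠ ⊤) : Nat.card K0 ≤ 3 := by
  by_contra hcon
  push Not at hcon
  have h4 : 4 ≤ Nat.card K0 := hcon
  have hle := PSLs_le_PSLr K0
  have him := im_comap_of_le hle
  obtain ⟨m, hm⟩ := exists_pow_card K0
  have hm2 : 2 ≤ m := by
    rcases m with _ | _ | m
    · rw [pow_zero] at hm
      have := Finite.one_lt_card (α := F); omega
    · rw [zero_add, pow_one] at hm
      exact absurd (eq_top_of_card hm) h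
    · omega
  have hlt := card_PSLs_lt hm2 hm.symm
  have hne : (PSLs K0).comap (toP F) ≠ ⊤ := by
    intro h'
    have h1 : im ((PSLs K0).comap (toP F)) = PSLr F := by rw [h', im_top]
    rw [him] at h1
    have h2 : Nat.card (PSLs K0) ≤ Nat.card (PGLs K0) :=
      Nat.card_le_card_of_injective _ (Subgroup.inclusion_injective (PSLs_le_PGLs K0))
    rw [h1] at h2
    omega
  obtain ⟨e⟩ := psl_equiv_of_im him (RingEquiv.refl K0)
  exact not_solvable_equiv e (psl_not_solvable h4) (hmin _ hne)

theorem minsimple_only {p n : ℕ} (hp : p.Prime) [CharP F p] (hF : Nat.card F = p ^ n)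
    (hs : IsSimpleGroup PSL(2, F))
    (hmin : ∀ H : Subgroup PSL(2, F), H ≠ ⊤ → Group.IsSolvable H) :
    (∃ r : ℕ, r.Prime ∧ Nat.card F = 2 ^ r) ∨ (∃ r : ℕ, r.Prime ∧ r ≠ 2 ∧ Nat.card F = 3 ^ r) ∨
      ((Nat.card F).Prime ∧ 5 < Nat.card F ∧ (Nat.card F % 5 = 2 ∨ Nat.card F % 5 = 3)) ∨
      Nat.card F = 5 := by
  have := Fintype.ofFinite F
  have hcard := card_psl (F := F)
  have hfin : Finite PSL(2, F) := finite_psl
  have hq := Finite.one_lt_card (α := F)
  have h23 : Nat.card F ≠ 2 ∧ Nat.card F ≠ 3 := by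
    constructor <;> intro h <;> rw [h] at hcard
    · have h6 : Nat.card PSL(2, F) = 6 := by norm_num at hcard; omega
      exact psl_not_comm ((IsSimpleGroup.comm_iff_isSolvable).2 (solvable_card (Or.inl h6)))
    · have h6 : Nat.card PSL(2, F) = 12 := by norm_num at hcard; omega
      exact psl_not_comm ((IsSimpleGroup.comm_iff_isSolvable).2 (solvable_card (Or.inr (Or.inl h6))))
  -- subfields
  have hsub : ∀ a b : ℕ, n = a * b → 2 ≤ b → 1 ≤ a → p ^ a ≤ 3 := by
    intro a b hab hb ha
    have : Fact p.Prime := ⟨hp⟩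
    have := Fintype.ofFinite (GaloisField p a)
    have hc1 : Fintype.card (GaloisField p a) = p ^ a := by
      rw [← Nat.card_eq_fintype_card]; exact GaloisField.card p a (by omega)
    obtain ⟨K0, hK0, -⟩ := exists_subfield (F := F) (K := GaloisField p a) (r := b) (by omega) (by
      rw [hc1, ← pow_mul, ← hab, ← hF, Nat.card_eq_fintype_card])
    rw [hc1] at hK0
    rw [← hK0]
    apply sub_le_three hmin
    apply card_ne_top_of hb
    rw [hK0, ← pow_mul, ← hab, hF]
  have hn0 : n ≠ 0 := by
    rintro rfl; rw [pow_zero] at hF; omega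
  have hn1 : n ≠ 1 ∨ n = 1 := ne_or_eq n 1
  -- A5 exclusion
  have hA5 : 5 ∣ Nat.card F * (Nat.card F ^ 2 - 1) → Nat.card PSL(2, F) = 60 := by
    intro h
    obtain ⟨H, ⟨e⟩⟩ := (Cfsg.Agent.S0804.result (F := F) (q := Nat.card F)
      (Nat.card_eq_fintype_card).symm).2 h
    by_contra hne
    refine not_solvable_equiv e alt5_not_solvable (hmin H ?_)
    rintro rfl
    apply hne
    rw [← Subgroup.card_top (G := PSL(2, F)), Nat.card_congr e.toEquiv, Nat.card_eq_fintype_card]
    decide +kernel
  by_cases hp2 : p = 2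
  · left
    subst hp2
    refine ⟨n, ?_, hF⟩
    have hn2 : n ≠ 1 := by rintro rfl; exact h23.1 (by rw [hF]; norm_num)
    by_contra hnp
    obtain ⟨a, had, ha1, han⟩ := (Nat.not_prime_iff_exists_dvd_ne (by omega)).1 hnp
    obtain ⟨b, hb⟩ := had
    have ha0 : a ≠ 0 := by rintro rfl; rw [zero_mul] at hb; exact hn0 hb
    have hb2 : 2 ≤ b := by
      rcases b with _ | _ | b
      · rw [mul_zero] at hb; exact absurd hb hn0
      · rw [zero_add, mul_one] at hb; exact absurd hb.symm han
      · omega
    have h1 := hsub a b hb hb2 (by omega)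
    have h2 : 2 ^ 2 ≤ 2 ^ a := Nat.pow_le_pow_right (by norm_num) (by omega)
    omega
  by_cases hp3 : p = 3
  · right; left
    subst hp3
    have hn2 : n ≠ 1 := by rintro rfl; exact h23.2 (by rw [hF]; norm_num)
    have hnp : n.Prime := by
      by_contra hnp
      obtain ⟨a, had, ha1, han⟩ := (Nat.not_prime_iff_exists_dvd_ne (by omega)).1 hnp
      obtain ⟨b, hb⟩ := had
      have ha0 : a ≠ 0 := by rintro rfl; rw [zero_mul] at hb; exact hn0 hb
      have hb2 : 2 ≤ b := by
        rcases b with _ | _ | b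
        · rw [mul_zero] at hb; exact absurd hb hn0
        · rw [zero_add, mul_one] at hb; exact absurd hb.symm han
        · omega
      have h1 := hsub a b hb hb2 (by omega)
      have h2 : 3 ^ 2 ≤ 3 ^ a := Nat.pow_le_pow_right (by norm_num) (by omega)
      omega
    refine ⟨n, hnp, ?_, hF⟩
    rintro rfl
    have h1 : Nat.card F = 9 := by rw [hF]; norm_num
    rw [h1] at hcard hA5
    have := hA5 (by norm_num)
    rw [this] at hcard
    norm_num at hcard
  have hp5 : 5 ≤ p := by
    have := hp.two_le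
    by_contra h
    have h4 : p = 4 := by omega
    rw [h4] at hp; norm_num at hp
  have hn : n = 1 := by
    by_contra hn1
    have := hsub 1 n (by omega) (by omega) le_rfl
    rw [pow_one] at this
    omega
  rw [hn, pow_one] at hF
  rw [hF] at hcard hA5 ⊢
  by_cases hp55 : p = 5
  · right; right; right; exact hp55
  right; right; left
  refine ⟨hp, by omega, ?_⟩
  have hp7 : 7 ≤ p := by
    by_contra h
    have h4 : p = 6 := by omega
    rw [h4] at hp; norm_num at hp
  have hodd : p % 2 = 1 := hp.eq_two_or_odd.resolve_left hp2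
  have hg : Nat.gcd 2 (p - 1) = 2 := Nat.gcd_eq_left ⟨(p - 1) / 2, by omega⟩
  have h5 : p % 5 ≠ 0 := by
    intro h
    have := (Nat.prime_dvd_prime_iff_eq Nat.prime_five hp).1 (Nat.dvd_of_mod_eq_zero h)
    omega
  have h14 : p % 5 ≠ 1 ∧ p % 5 ≠ 4 := by
    have hbig : Nat.card PSL(2, F) ≠ 60 := by
      intro h60
      rw [hg, h60] at hcard
      have : 7 * (6 * 8) ≤ p * ((p - 1) * (p + 1)) :=
        Nat.mul_le_mul hp7 (Nat.mul_le_mul (by omega) (by omega))
      omega
    have hkey : 5 ∣ (p - 1) * (p + 1) → False := by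
      intro h
      apply hbig
      apply hA5
      have : p ^ 2 - 1 = (p - 1) * (p + 1) := by
        obtain ⟨a, ha⟩ : ∃ a, p = a + 1 := ⟨p - 1, by omega⟩
        rw [ha]
        have : (a + 1) ^ 2 = a * (a + 1 + 1) + 1 := by ring
        simp only [Nat.add_sub_cancel]
        omega
      rw [this]
      exact Dvd.dvd.mul_left h _
    constructor
    · intro h
      exact hkey (Dvd.dvd.mul_right (by omega) _)
    · intro h
      exact hkey (Dvd.dvd.mul_left (by omega) _)
  omega

theorem minsimple_of {p n : ℕ} (hp : p.Prime) [CharP F p] (hF : Nat.card F = p ^ n)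
    (hq4 : 4 ≤ Nat.card F)
    (hsub : ∀ q1 m, 3 ≤ q1 → q1 ^ m = p ^ n → 2 ≤ m → q1 = 3)
    (h60 : (¬ p ∣ 60 ∨ p = 3) → ¬ 60 ∣ Nat.card PSL(2, F)) :
    IsSimpleGroup PSL(2, F) ∧ (¬ IsMulCommutative PSL(2, F)) ∧
      ∀ H : Subgroup PSL(2, F), H ≠ ⊤ → Group.IsSolvable H := by
  have : Fact p.Prime := ⟨hp⟩
  have : CharP (AlgebraicClosure F) p :=
    charP_of_injective_algebraMap (algebraMap F (AlgebraicClosure F)).injective p
  have hfin : Finite PSL(2, F) := finite_psl
  refine ⟨Matrix.ProjectiveSpecialLinearGroup.rank_two_simple hq4,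
    fun h => psl_not_comm (fun a b => h.is_comm.comm a b), ?_⟩
  intro H hH
  by_cases hbot : H = ⊥
  · rw [hbot]; infer_instance
  have M := (ambS (F := F) (K := AlgebraicClosure F)).mob (p := p)
  rcases (ambS (F := F) (K := AlgebraicClosure F)).list (p := p) hbot with
      ⟨z, hz⟩ | ⟨z, hz1, hz2⟩ | ⟨h1, h2, -⟩ | ⟨h1, h2, -⟩ | ⟨h1, h2, -⟩ |
      ⟨z, hz, hz3, g, K1, -, hcj, -, hK1⟩
  · exact M.solvable_fixed hz
  · exact M.solvable_dih hz2
  · exact solvable_card (Or.inr (Or.inl h2))
  · exact solvable_card (Or.inr (Or.inr h2))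
  · exfalso
    apply h60 h1
    rw [← h2]; exact Subgroup.card_subgroup_dvd_card H
  · by_cases ht : K1 = ⊤
    · exfalso
      rw [ht] at hcj
      exact hH (eq_top_of_im (PSLr_le_of_cj hcj))
    · rw [← hK1] at hz3
      obtain ⟨m, hm⟩ := exists_pow_card K1
      have hm2 : 2 ≤ m := by
        rcases m with _ | _ | m
        · rw [pow_zero] at hm
          omega
        · rw [zero_add, pow_one] at hm
          exact absurd (eq_top_of_card hm) ht
        · omega
      have hq3 := hsub _ m hz3 (by rw [hm, hF]) hm2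
      have e1 : Nat.card H = Nat.card (cj g (H.map (toP F))) := by
        rw [card_cj]
        exact Nat.card_congr (imEquiv H).toEquiv
      rcases hcj with h | h
      · apply solvable_card
        right; right
        rw [e1, h, card_PGLs, hq3]
      · apply solvable_card
        right; left
        have h3 := card_PSLs K1
        rw [hq3] at h3
        rw [e1, h]
        norm_num at h3
        omega

end main

end Cfsg.Agent.Dk
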