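import Mathlib
import Cfsg.Agent.Dk.MinSimple
import Cfsg.Agent.S0802
import Cfsg.Agent.S0803

/-! Maximality of the exceptional subgroups `A4`, `S4`, `A5` of `PSL₂(q)`. -/

set_option autoImplicit false

namespace Cfsg.Agent.Dk

open MulAction Matrix LinearAlgebra.Projectivization Projectivization Subgroup
open scoped MatrixGroups
open H81 (pt0 pt1 ptz ptc)

section grp

theorem card_A4 {G : Type*} [Group G] (e : G ≃* alternatingGroup (Fin 4)) : Nat.card G = 12 := by
  rw [Nat.card_congr e.toEquiv, Nat.card_eq_fintype_card]; decide +kernel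

theorem card_S4 {G : Type*} [Group G] (e : G ≃* Equiv.Perm (Fin 4)) : Nat.card G = 24 := by
  rw [Nat.card_congr e.toEquiv, Nat.card_eq_fintype_card, Fintype.card_perm, Fintype.card_fin]; rfl

theorem card_A5 {G : Type*} [Group G] (e : G ≃* alternatingGroup (Fin 5)) : Nat.card G = 60 := by
  rw [Nat.card_congr e.toEquiv, Nat.card_eq_fintype_card]; decide +kernel

theorem A4_not_comm {G : Type*} [Group G] (e : G ≃* alternatingGroup (Fin 4)) :
    ¬ ∀ a b : G, a * b = b * a := by
  intro h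
  have h2 : ∀ a b : alternatingGroup (Fin 4), a * b = b * a := by
    intro a b
    apply e.symm.injective
    rw [map_mul, map_mul, h]
  revert h2; decide +kernel

theorem cyclic_comm {G : Type*} [Group G] (h : IsCyclic G) (a b : G) : a * b = b * a :=
  h.isMulCommutative.is_comm.comm a b

/-- a group with a copy of `A4` has no cyclic subgroup of index two -/
theorem no_cyclic_index_two {L : Type*} [Group L] {H : Subgroup L} (e : H ≃* alternatingGroup (Fin 4))
    {N : Subgroup L} (hN : N.index = 2) (hc : IsCyclic N) : False := by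
  have hn : N.Normal := Subgroup.normal_of_index_eq_two hN
  have h1 : (N.subgroupOf H).index ∣ 2 := by
    rw [← hN]
    exact Subgroup.relIndex_dvd_index_of_normal N H
  rcases (Nat.dvd_prime Nat.prime_two).1 h1 with h2 | h2
  · have hle : H ≤ N := by
      have h3 := Subgroup.index_eq_one.1 h2
      exact Subgroup.subgroupOf_eq_top.1 h3
    apply A4_not_comm e
    intro a b
    apply Subtype.ext
    have := cyclic_comm hc ⟨a, hle a.2⟩ ⟨b, hle b.2⟩
    exact congrArg (fun z : N => (z : L)) this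
  · exact A4_no_index_two e _ h2

/-- `S4` contains `A4` -/
theorem exists_A4_in_S4 {G : Type*} [Group G] {H : Subgroup G} (e : H ≃* Equiv.Perm (Fin 4)) :
    ∃ H0 : Subgroup G, H0 ≤ H ∧ Nonempty (H0 ≃* alternatingGroup (Fin 4)) := by
  refine ⟨((alternatingGroup (Fin 4)).map e.symm.toMonoidHom).map H.subtype, ?_, ?_⟩
  · rintro _ ⟨x, -, rfl⟩
    exact x.2
  · have e1 := (alternatingGroup (Fin 4)).equivMapOfInjective e.symm.toMonoidHom e.symm.injective
    have e2 := ((alternatingGroup (Fin 4)).map e.symm.toMonoidHom).equivMapOfInjective H.subtype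
      H.subtype_injective
    exact ⟨(e1.trans e2).symm⟩

end grp

section main

variable {F : Type*} [Field F] [Finite F]

attribute [local instance 10] sact

/-- overgroups of `A4` in good characteristic -/
theorem over_A4 {p : ℕ} [hp : Fact p.Prime] [CharP F p] (hp3 : ¬ p ∣ 12) {H L : Subgroup PSL(2, F)}
    (e : H ≃* alternatingGroup (Fin 4)) (hL : H ≤ L) (hne : L ≠ ⊤) :
    Nat.card L = 12 ∨ Nat.card L = 24 ∨ (¬ p ∣ 60 ∧ Nat.card L = 60) ∨
      ∃ (g : PGL(2, F)) (K1 : Subfield F), 3 ≤ Nat.card K1 ∧ K1 ≠ ⊤ ∧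
        (cj g (im L) = PGLs K1 ∨ cj g (im L) = PSLs K1) := by
  have : CharP (AlgebraicClosure F) p :=
    charP_of_injective_algebraMap (algebraMap F (AlgebraicClosure F)).injective p
  have hfin : Finite PSL(2, F) := finite_psl
  have M := (ambS (F := F) (K := AlgebraicClosure F)).mob (p := p)
  have hcard := card_A4 e
  have hbot : L ≠ ⊥ := by
    rintro rfl
    have h1 := Subgroup.card_dvd_of_le hL
    rw [hcard, Subgroup.card_bot] at h1
    norm_num at h1
  rcases (ambS (F := F) (K := AlgebraicClosure F)).list (p := p) hbot with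
      ⟨z, hz⟩ | ⟨z, hz1, hz2⟩ | ⟨h1, h2, -⟩ | ⟨h1, h2, -⟩ | ⟨h1, h2, -⟩ |
      ⟨z, hz, hz3, g, K1, -, hcj, -, hK1⟩
  · exfalso
    -- `H` is cyclic
    have hUH : (M.subgroup H).U z = ⊥ := by
      by_contra hne
      have := (M.subgroup H).dvd_of_U_ne_bot hne
      rw [hcard] at this
      exact hp3 this
    have h1 := (M.subgroup H).stab_cyclic hUH
    have h2 : stabilizer H z = ⊤ := by
      rw [eq_top_iff]; intro g _; exact hz g (hL g.2)
    rw [h2] at h1
    have h3 : IsCyclic H := (MulEquiv.isCyclic Subgroup.topEquiv).1 h1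
    exact A4_not_comm e (cyclic_comm h3)
  · exfalso
    have h1 := (M.subgroup L).stab_cyclic hz1
    have h2 := card_orbit_mul (Γ := L) z
    have h3 := Subgroup.card_mul_index (stabilizer L z)
    rw [← h2, hz2, mul_comm] at h3
    have h4 : (stabilizer L z).index = 2 := Nat.eq_of_mul_eq_mul_right Nat.card_pos h3
    exact no_cyclic_index_two (H := H.subgroupOf L)
      ((Subgroup.subgroupOfEquivOfLe hL).trans e) h4 h1
  · exact Or.inl h2
  · exact Or.inr (Or.inl h2)
  · refine Or.inr (Or.inr (Or.inl ⟨?_, h2⟩))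
    rcases h1 with h1 | h1
    · exact h1
    · exfalso; rw [h1] at hp3; exact hp3 (by norm_num)
  · refine Or.inr (Or.inr (Or.inr ⟨g, K1, by rw [hK1]; exact hz3, ?_, hcj⟩))
    rintro rfl
    exact hne (eq_top_of_im (PSLr_le_of_cj hcj))

/-- overgroups of `A5` -/
theorem over_A5 {p : ℕ} [hp : Fact p.Prime] [CharP F p] {H L : Subgroup PSL(2, F)}
    (e : H ≃* alternatingGroup (Fin 5)) (hL : H ≤ L) (hne : L ≠ ⊤) :
    L = H ∨ ∃ (g : PGL(2, F)) (K1 : Subfield F), 3 ≤ Nat.card K1 ∧ K1 ≠ ⊤ ∧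
        (cj g (im L) = PGLs K1 ∨ cj g (im L) = PSLs K1) := by
  have : CharP (AlgebraicClosure F) p :=
    charP_of_injective_algebraMap (algebraMap F (AlgebraicClosure F)).injective p
  have hfin : Finite PSL(2, F) := finite_psl
  have M := (ambS (F := F) (K := AlgebraicClosure F)).mob (p := p)
  have hcard := card_A5 e
  have hdvd := Subgroup.card_dvd_of_le hL
  rw [hcard] at hdvd
  have hns : ¬ Group.IsSolvable L := by
    intro hs
    apply not_solvable_equiv e alt5_not_solvable
    exact solvable_of_solvable_injective (f := Subgroup.inclusion hL) (Subgroup.inclusion_injective hL)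
  have hbot : L ≠ ⊥ := by
    rintro rfl
    rw [Subgroup.card_bot] at hdvd
    norm_num at hdvd
  rcases (ambS (F := F) (K := AlgebraicClosure F)).list (p := p) hbot with
      ⟨z, hz⟩ | ⟨z, hz1, hz2⟩ | ⟨h1, h2, -⟩ | ⟨h1, h2, -⟩ | ⟨h1, h2, -⟩ |
      ⟨z, hz, hz3, g, K1, -, hcj, -, hK1⟩
  · exact absurd (M.solvable_fixed hz) hns
  · exact absurd (M.solvable_dih hz2) hns
  · rw [h2] at hdvd; norm_num at hdvd
  · rw [h2] at hdvd; norm_num at hdvd
  · left
    symm
    exact Subgroup.eq_of_le_of_card_ge hL (by rw [h2, hcard])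
  · right
    refine ⟨g, K1, by rw [hK1]; exact hz3, ?_, hcj⟩
    rintro rfl
    exact hne (eq_top_of_im (PSLr_le_of_cj hcj))

theorem sub_eq_top_of_prime {p : ℕ} (hp : p.Prime) (hF : Nat.card F = p) (K1 : Subfield F) :
    K1 = ⊤ := by
  obtain ⟨m, hm⟩ := exists_pow_card K1
  have h1 := one_lt_card_sub K1
  rcases m with _ | m
  · rw [pow_zero, hF] at hm
    exact absurd hm.symm hp.one_lt.ne'
  · have h2 : Nat.card K1 ∣ p := by rw [← hF, ← hm]; exact dvd_pow_self _ (by omega)
    rcases (Nat.dvd_prime hp).1 h2 with h | h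
    · omega
    · exact eq_top_of_card (by rw [h, hF])

theorem max_S4 {p : ℕ} (hp : p.Prime) (hF : Nat.card F = p) (h8 : p % 8 = 1 ∨ p % 8 = 7) :
    ∃ H : Subgroup PSL(2, F), IsCoatom H ∧ Nonempty (H ≃* Equiv.Perm (Fin 4)) := by
  have := Fintype.ofFinite F
  have : Fact p.Prime := ⟨hp⟩
  have hfin : Finite PSL(2, F) := finite_psl
  obtain ⟨l, hl, hc⟩ := exists_char (F := F)
  have hpl : p = l := eq_char_of_prime (F := F) hl hp (by rw [hF])
  subst hpl
  have hp7 : 7 ≤ p := by
    have := hp.two_le; omega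
  obtain ⟨H, ⟨e⟩⟩ := (Cfsg.Agent.S0803.result (F := F) (q := p)
    (by rw [← Nat.card_eq_fintype_card, hF])).2 (by
      rw [Nat.pow_mod]
      have : p % 16 = 1 ∨ p % 16 = 7 ∨ p % 16 = 9 ∨ p % 16 = 15 := by omega
      rcases this with h | h | h | h <;> rw [h])
  refine ⟨H, ⟨?_, ?_⟩, ⟨e⟩⟩
  · rintro rfl
    have h1 := card_S4 e
    rw [Subgroup.card_top] at h1
    have h2 := card_psl (F := F)
    rw [h1, hF] at h2
    have hodd : p % 2 = 1 := by omega
    have hg : Nat.gcd 2 (p - 1) = 2 := Nat.gcd_eq_left ⟨(p - 1) / 2, by omega⟩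
    rw [hg] at h2
    have : 7 * (6 * 8) ≤ p * ((p - 1) * (p + 1)) :=
        Nat.mul_le_mul hp7 (Nat.mul_le_mul (by omega) (by omega))
    omega
  · intro L hL
    by_contra hne
    obtain ⟨H0, hH0, ⟨e0⟩⟩ := exists_A4_in_S4 e
    have hdvd := Subgroup.card_dvd_of_le hL.le
    rw [card_S4 e] at hdvd
    have hp3 : ¬ p ∣ 12 := by
      intro h
      have h1 := Nat.le_of_dvd (by norm_num) h
      have h2 : p = 7 ∨ p = 9 := by omega
      rcases h2 with rfl | rfl <;> norm_num at h
    rcases over_A4 hp3 e0 (hH0.trans hL.le) hne with h | h | ⟨-, h⟩ | ⟨g, K1, h3, h4, -⟩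
    · rw [h] at hdvd; norm_num at hdvd
    · exact hL.ne (Subgroup.eq_of_le_of_card_ge hL.le (by rw [h, card_S4 e]))
    · rw [h] at hdvd; norm_num at hdvd
    · exact h4 (sub_eq_top_of_prime hp hF K1)

theorem max_A4 {p : ℕ} (hp : p.Prime) (hF : Nat.card F = p) (h5 : 5 ≤ p)
    (h8 : p % 8 = 3 ∨ p % 8 = 5) (h10 : p % 10 ≠ 1 ∧ p % 10 ≠ 9) :
    ∃ H : Subgroup PSL(2, F), IsCoatom H ∧ Nonempty (H ≃* alternatingGroup (Fin 4)) := by
  have := Fintype.ofFinite F
  have : Fact p.Prime := ⟨hp⟩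
  have hfin : Finite PSL(2, F) := finite_psl
  obtain ⟨l, hl, hc⟩ := exists_char (F := F)
  have hpl : p = l := eq_char_of_prime (F := F) hl hp (by rw [hF])
  subst hpl
  obtain ⟨H, ⟨e⟩⟩ := (Cfsg.Agent.S0802.result (F := F) p 1
    (by rw [← Nat.card_eq_fintype_card, hF, pow_one])).2 (by omega)
  have hodd : p % 2 = 1 := by omega
  have hg : Nat.gcd 2 (p - 1) = 2 := Nat.gcd_eq_left ⟨(p - 1) / 2, by omega⟩
  have h2 := card_psl (F := F)
  rw [hF, hg] at h2
  have hbig : 5 * (4 * 6) ≤ p * ((p - 1) * (p + 1)) :=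
        Nat.mul_le_mul h5 (Nat.mul_le_mul (by omega) (by omega))
  refine ⟨H, ⟨?_, ?_⟩, ⟨e⟩⟩
  · rintro rfl
    have h1 := card_A4 e
    rw [Subgroup.card_top] at h1
    omega
  · intro L hL
    by_contra hne
    have hdvd := Subgroup.card_subgroup_dvd_card L
    have hp3 : ¬ p ∣ 12 := by
      intro h
      have h1 := Nat.le_of_dvd (by norm_num) h
      interval_cases p <;> simp_all
    rcases over_A4 hp3 e hL.le hne with h | h | ⟨h5', h⟩ | ⟨g, K1, h3, h4, -⟩
    · exact hL.ne (Subgroup.eq_of_le_of_card_ge hL.le (by rw [h, card_A4 e]))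
    · -- 24 divides
      rw [h] at hdvd
      obtain ⟨k, hk⟩ := hdvd
      rw [hk] at h2
      -- 48 ∣ p (p-1)(p+1), 16 ∣ ...
      have h16 : 16 ∣ p * ((p - 1) * (p + 1)) := ⟨3 * k, by rw [← h2]; ring⟩
      have hcop : Nat.Coprime 16 p := by
        have : Nat.Coprime 2 p := (Nat.coprime_two_left).2 (Nat.odd_iff.2 hodd)
        exact Nat.Coprime.pow_left 4 this
      have h17 := hcop.dvd_of_dvd_mul_left h16
      rcases h8 with h8 | h8
      · obtain ⟨s, hs⟩ : ∃ s, p = 8 * s + 3 := ⟨p / 8, by omega⟩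
        have e1 : (p - 1) * (p + 1) = 8 * ((4 * s + 1) * (2 * s + 1)) := by
          rw [hs, show 8 * s + 3 - 1 = 8 * s + 2 by omega]; ring
        rw [e1] at h17
        have h18 : 2 ∣ (4 * s + 1) * (2 * s + 1) := by
          obtain ⟨c, hc⟩ := h17
          exact ⟨c, by omega⟩
        rcases (Nat.prime_two.dvd_mul).1 h18 with h | h <;> omega
      · obtain ⟨s, hs⟩ : ∃ s, p = 8 * s + 5 := ⟨p / 8, by omega⟩
        have e1 : (p - 1) * (p + 1) = 8 * ((2 * s + 1) * (4 * s + 3)) := by
          rw [hs, show 8 * s + 5 - 1 = 8 * s + 4 by omega]; ring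
        rw [e1] at h17
        have h18 : 2 ∣ (2 * s + 1) * (4 * s + 3) := by
          obtain ⟨c, hc⟩ := h17
          exact ⟨c, by omega⟩
        rcases (Nat.prime_two.dvd_mul).1 h18 with h | h <;> omega
    · rw [h] at hdvd
      obtain ⟨k, hk⟩ := hdvd
      rw [hk] at h2
      have h16 : 5 ∣ p * ((p - 1) * (p + 1)) := ⟨24 * k, by rw [← h2]; ring⟩
      rcases (Nat.prime_five.dvd_mul).1 h16 with h9 | h9
      · have := (Nat.prime_dvd_prime_iff_eq Nat.prime_five hp).1 h9
        rw [← this] at h5'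
        exact h5' (by norm_num)
      · rcases (Nat.prime_five.dvd_mul).1 h9 with h9 | h9 <;> omega
    · exact h4 (sub_eq_top_of_prime hp hF K1)

theorem max_A5 {p : ℕ} (hp : p.Prime) [CharP F p]
    (h : (Nat.card F = p ∧ (p % 10 = 1 ∨ p % 10 = 9)) ∨
      (Nat.card F = p ^ 2 ∧ (p % 10 = 3 ∨ p % 10 = 7))) :
    ∃ H : Subgroup PSL(2, F), IsCoatom H ∧ Nonempty (H ≃* alternatingGroup (Fin 5)) := by
  have := Fintype.ofFinite F
  have : Fact p.Prime := ⟨hp⟩
  have hfin : Finite PSL(2, F) := finite_psl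
  have hp2 := hp.two_le
  have h10 : Nat.card F % 10 = 1 ∨ Nat.card F % 10 = 9 := by
    rcases h with ⟨h1, h2⟩ | ⟨h1, h2⟩
    · rw [h1]; exact h2
    · rw [h1, Nat.pow_mod]
      rcases h2 with h2 | h2 <;> rw [h2] <;> norm_num
  have hq9 : 9 ≤ Nat.card F := by
    rcases h with ⟨h1, h2⟩ | ⟨h1, h2⟩
    · omega
    · have h3 : 3 ≤ p := by omega
      rw [h1]
      calc 9 = 3 ^ 2 := by norm_num
        _ ≤ p ^ 2 := Nat.pow_le_pow_left h3 2
  obtain ⟨H, ⟨e⟩⟩ := (Cfsg.Agent.S0804.result (F := F) (q := Nat.card F)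
    (Nat.card_eq_fintype_card).symm).2 (by
      apply Dvd.dvd.mul_left
      rcases h10 with h3 | h3
      · have h4 : Nat.card F ^ 2 % 5 = 1 := by
          rw [Nat.pow_mod]
          have : Nat.card F % 5 = 1 := by omega
          rw [this]
        omega
      · have h4 : Nat.card F ^ 2 % 5 = 1 := by
          rw [Nat.pow_mod]
          have : Nat.card F % 5 = 4 := by omega
          rw [this]
        omega)
  have hodd : Odd (Nat.card F) := Nat.odd_iff.2 (by omega)
  have h2 := card_psl (F := F)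
  rw [gcd_odd hodd] at h2
  have hbig : 9 * (8 * 10) ≤ Nat.card F * ((Nat.card F - 1) * (Nat.card F + 1)) :=
        Nat.mul_le_mul hq9 (Nat.mul_le_mul (by omega) (by omega))
  refine ⟨H, ⟨?_, ?_⟩, ⟨e⟩⟩
  · rintro rfl
    have h1 := card_A5 e
    rw [Subgroup.card_top] at h1
    omega
  · intro L hL
    by_contra hne
    rcases over_A5 e hL.le hne with h4 | ⟨g, K1, h3, h4, hcj⟩
    · exact hL.ne' h4
    · rcases h with ⟨h1, -⟩ | ⟨h1, h5⟩
      · exact h4 (sub_eq_top_of_prime hp h1 K1)
      · obtain ⟨m, hm⟩ := exists_pow_card K1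
        rw [h1] at hm
        have h6 : Nat.card K1 ∣ p ^ 2 := by
          rw [← hm]
          apply dvd_pow_self
          rintro rfl
          rw [pow_zero] at hm
          have : p ^ 2 ≠ 1 := by
            have : 2 ^ 2 ≤ p ^ 2 := Nat.pow_le_pow_left hp2 2
            omega
          exact this hm.symm
        obtain ⟨k, hk, hk'⟩ := (Nat.dvd_prime_pow hp).1 h6
        have hk1 : k = 1 := by
          interval_cases k
          · rw [pow_zero] at hk'; omega
          · rfl
          · exfalso; exact h4 (eq_top_of_card (by rw [hk', h1]))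
        rw [hk1, pow_one] at hk'
        have h7 : Nat.card L ∣ p * ((p - 1) * (p + 1)) := by
          have e1 : Nat.card L = Nat.card (cj g (im L)) := by
            rw [card_cj]
            exact Nat.card_congr (imEquiv L).toEquiv
          rw [e1, ← hk', ← card_PGLs]
          rcases hcj with h | h
          · rw [h]
          · rw [h]; exact Subgroup.card_dvd_of_le (PSLs_le_PGLs K1)
        have h8 : 5 ∣ p * ((p - 1) * (p + 1)) := by
          refine dvd_trans ?_ h7
          refine dvd_trans ?_ (Subgroup.card_dvd_of_le hL.le)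
          rw [card_A5 e]; norm_num
        rcases (Nat.prime_five.dvd_mul).1 h8 with h9 | h9
        · omega
        · rcases (Nat.prime_five.dvd_mul).1 h9 with h9 | h9 <;> omega

end main

end Cfsg.Agent.Dk
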