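import Mathlib
import Cfsg.Agent.Dk.ExcMax

/-! The maximal subgroups of `PSL₂(q)` and `PGL₂(q)`: the general list. -/

set_option autoImplicit false

namespace Cfsg.Agent.Dk

open MulAction Matrix LinearAlgebra.Projectivization Projectivization Subgroup
open scoped MatrixGroups
open H81 (pt0 pt1 ptz ptc)

section

variable {F K : Type*} [Field F] [Field K] [Algebra F K]

attribute [local instance 10] pact sact

variable {Γ : Type*} [Group Γ] [MulAction Γ (ℙ K (Fin 2 → K))] {φ : Γ →* PGL(2, F)}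
  (A : Amb (K := K) φ)
include A

theorem Amb.not_solvable (h4 : 4 ≤ Nat.card F) : ¬ Group.IsSolvable Γ := by
  intro hs
  have h1 : Group.IsSolvable φ.range :=
    solvable_of_surjective (f := φ.rangeRestrict) φ.rangeRestrict_surjective
  have h2 : Group.IsSolvable (PSLr F) :=
    solvable_of_solvable_injective (f := Subgroup.inclusion A.big)
      (Subgroup.inclusion_injective A.big)
  have h3 : Group.IsSolvable (toP F).range := by rw [toP_range]; exact h2
  exact psl_not_solvable h4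
    (solvable_of_solvable_injective (f := (toP F).rangeRestrict)
      (fun a b hab => toP_injective (congrArg Subtype.val hab)))

variable {p : ℕ} [hc : CharP K p] [IsAlgClosed K] [Finite F] [hp : Fact p.Prime]

theorem Amb.coatom_ne_bot (h4 : 4 ≤ Nat.card F) {M : Subgroup Γ} (hM : IsCoatom M) : M ≠ ⊥ := by
  rintro rfl
  have := A.finite
  apply A.not_solvable h4
  -- a group in which `⊥` is a coatom is cyclic
  by_cases hn : Nontrivial Γ
  · obtain ⟨g, hg⟩ := exists_ne (1 : Γ)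
    have h1 : (⊥ : Subgroup Γ) < Subgroup.zpowers g := by
      rw [bot_lt_iff_ne_bot]
      intro h; exact hg (Subgroup.zpowers_eq_bot.1 h)
    have h2 := hM.2 _ h1
    have h3 : IsCyclic Γ := ⟨g, fun x => by
      have : x ∈ (⊤ : Subgroup Γ) := mem_top x
      rwa [← h2] at this⟩
    have hcomm : IsMulCommutative Γ := h3.isMulCommutative
    exact isSolvable_of_comm (fun a b => hcomm.is_comm.comm a b)
  · rw [not_nontrivial_iff_subsingleton] at hn
    exact isSolvable_of_comm (fun a b => Subsingleton.elim _ _)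

include hc hp

theorem Amb.stab_ne_top (h4 : 4 ≤ Nat.card F) (z : ℙ K (Fin 2 → K)) : stabilizer Γ z ≠ ⊤ := by
  intro h
  have := A.finite
  have h1 := (A.mob (p := p)).solvable_stab z
  rw [h] at h1
  exact A.not_solvable h4 (solvable_of_surjective (f := (Subgroup.topEquiv (G := Γ)).toMonoidHom)
    (Subgroup.topEquiv (G := Γ)).surjective)

theorem Amb.DS_ne_top (h4 : 4 ≤ Nat.card F) {z w : ℙ K (Fin 2 → K)} (hzw : z ≠ w) {s : Γ}
    (h1 : s • z = w) (h2 : s • w = z) : DS Γ z w ≠ ⊤ := by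
  intro h
  have := A.finite
  have hs : s ∈ DS Γ z w := Or.inr ⟨h1, h2⟩
  have h3 : Nat.card (orbit (DS Γ z w) z) = 2 := by
    have e : orbit (DS Γ z w) z = {z, w} := by
      ext y
      constructor
      · rintro ⟨⟨g, hg⟩, rfl⟩
        rcases hg with hg | hg
        · exact Or.inl hg.1
        · exact Or.inr hg.1
      · rintro (rfl | rfl)
        · exact mem_orbit_self _
        · exact ⟨⟨s, hs⟩, h1⟩
    rw [e, Nat.card_coe_set_eq, Set.ncard_pair hzw]
  have h4' := (A.mob (p := p)).solvable_dih h3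
  rw [h] at h4'
  exact A.not_solvable h4 (solvable_of_surjective (f := (Subgroup.topEquiv (G := Γ)).toMonoidHom)
    (Subgroup.topEquiv (G := Γ)).surjective)

theorem Amb.coatom_fixed (h4 : 4 ≤ Nat.card F) {M : Subgroup Γ} (hM : IsCoatom M)
    {z : ℙ K (Fin 2 → K)} (hz : ∀ l ∈ M, l • z = z) :
    z ∈ orbit Γ (pt0 K) ∧ M = stabilizer Γ z := by
  have := A.finite
  have hbot := A.coatom_ne_bot h4 hM
  have hle : M ≤ stabilizer Γ z := fun l hl => hz l hl
  have heq : M = stabilizer Γ z := by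
    by_contra hne
    exact A.stab_ne_top (p := p) h4 z (hM.2 _ (lt_of_le_of_ne hle hne))
  refine ⟨?_, heq⟩
  by_contra hirr
  have hOm : z ∈ Om Γ (ℙ K (Fin 2 → K)) := by
    intro h; exact hbot (heq.trans h)
  obtain ⟨y, -, -, hy, hst, -, s, hs1, hs2⟩ := (A.full (p := p)).irr_mate hOm hirr
  apply A.DS_ne_top (p := p) h4 hy.symm hs1 hs2
  apply hM.2
  refine lt_of_le_of_ne ?_ ?_
  · rw [heq, hst]; exact TS_le_DS z y
  · intro h
    have hs : s ∈ M := by rw [h]; exact Or.inr ⟨hs1, hs2⟩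
    exact hy (hs1.symm.trans (hz s hs))

theorem Amb.card_stab_rat {z : ℙ K (Fin 2 → K)} (hz : z ∈ orbit Γ (pt0 K)) :
    Nat.card (stabilizer Γ z) = Nat.card F * (A.mob (p := p)).t (pt0 K) := by
  rw [card_stab_of_mem hz, (A.mob (p := p)).card_stab, A.card_U]

theorem Amb.card_TS_rat {z w : ℙ K (Fin 2 → K)} (hz : z ∈ orbit Γ (pt0 K))
    (hw : w ∈ orbit Γ (pt0 K)) (hzw : z ≠ w) :
    Nat.card (TS Γ z w) = (A.mob (p := p)).t (pt0 K) := by
  have := A.finite
  exact (A.full (p := p)).card_TS hz hw hzw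

theorem Amb.card_TS_irr {z w : ℙ K (Fin 2 → K)} (hz : z ∉ orbit Γ (pt0 K)) (hzw : z ≠ w)
    (h : TS Γ z w ≠ ⊥) :
    Nat.card (TS Γ z w) * (Nat.card F - 1) =
      (Nat.card F + 1) * (A.mob (p := p)).t (pt0 K) ∧ TS Γ z w = stabilizer Γ z ∧
      ∃ s : Γ, s • z = w ∧ s • w = z := by
  have := A.finite
  have hOm : z ∈ Om Γ (ℙ K (Fin 2 → K)) := by
    intro h1
    apply h
    rw [eq_bot_iff, ← h1]
    exact inf_le_left
  obtain ⟨y, -, -, hy, hst, -, s, hs1, hs2⟩ := (A.full (p := p)).irr_mate hOm hz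
  have hwy : w = y := by
    by_contra hne
    obtain ⟨g, hg⟩ := (TS Γ z w).ne_bot_iff_exists_ne_one.1 h
    apply hg
    apply Subtype.ext
    have hgz : (g : Γ) ∈ TS Γ z y := by rw [← hst]; exact g.2.1
    exact (A.mob (p := p)).eq_one_of_three hzw hy.symm hne g.2.1 g.2.2 hgz.2
  subst hwy
  obtain ⟨x, h1, h2, h3, -, -, h6⟩ := (A.full (p := p)).exists_irr
  have hzx := (h3 z hOm).resolve_left hz
  rw [A.card_U, ← card_stab_of_mem hzx, hst] at h6
  exact ⟨h6, hst.symm, s, hs1, hs2⟩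

theorem Amb.coatom_dih (h4 : 4 ≤ Nat.card F) {M : Subgroup Γ} (hM : IsCoatom M)
    {z : ℙ K (Fin 2 → K)} (hz : Nat.card (orbit M z) = 2) :
    ∃ w, z ≠ w ∧ M = DS Γ z w ∧ (∃ s : Γ, s • z = w ∧ s • w = z) ∧
      ((z ∈ orbit Γ (pt0 K) ∧ w ∈ orbit Γ (pt0 K) ∧
        Nat.card (TS Γ z w) = (A.mob (p := p)).t (pt0 K)) ∨
       (z ∉ orbit Γ (pt0 K) ∧ Nat.card (TS Γ z w) * (Nat.card F - 1) =
        (Nat.card F + 1) * (A.mob (p := p)).t (pt0 K))) := by
  have := A.finite
  rw [Nat.card_coe_set_eq, Set.ncard_eq_two] at hz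
  obtain ⟨a, b, hab, horb⟩ := hz
  obtain ⟨w, hzw, horb⟩ : ∃ w, z ≠ w ∧ orbit M z = {z, w} := by
    have h1 : z ∈ orbit M z := mem_orbit_self _
    rw [horb] at h1
    rcases h1 with h1 | h1
    · exact ⟨b, by rw [h1]; exact hab, by rw [horb, h1]⟩
    · have h1 : z = b := h1
      exact ⟨a, by rw [h1]; exact hab.symm, by rw [horb, h1, Set.pair_comm]⟩
  have hmem : ∀ l ∈ M, l • z = z ∨ l • z = w := by
    intro l hl
    have h1 : l • z ∈ orbit M z := ⟨⟨l, hl⟩, rfl⟩
    rw [horb] at h1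
    exact h1
  obtain ⟨s, hsM, hs1⟩ : ∃ s ∈ M, s • z = w := by
    have h1 : w ∈ orbit M z := by rw [horb]; exact Or.inr rfl
    obtain ⟨⟨s, hs⟩, h2⟩ := h1
    exact ⟨s, hs, h2⟩
  have hs2 : s • w = z := by
    rw [← hs1, ← mul_smul]
    rcases hmem _ (M.mul_mem hsM hsM) with h | h
    · exact h
    · exfalso
      rw [mul_smul, hs1] at h
      have : s • w = s • z := h.trans hs1.symm
      exact hzw (smul_left_cancel s this).symm
  have hle : M ≤ DS Γ z w := by
    intro l hl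
    rcases hmem l hl with h | h
    · left
      refine ⟨h, ?_⟩
      have h3 : (s⁻¹ * l * s) • z = z ∨ (s⁻¹ * l * s) • z = w :=
        hmem _ (M.mul_mem (M.mul_mem (M.inv_mem hsM) hl) hsM)
      rcases h3 with h3 | h3
      · rw [mul_smul, mul_smul, hs1, inv_smul_eq_iff, hs1] at h3
        exact h3
      · rw [mul_smul, mul_smul, hs1, inv_smul_eq_iff, hs2] at h3
        exfalso
        have : l • w = l • z := h3.trans h.symm
        exact hzw (smul_left_cancel l this).symm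
    · right
      refine ⟨h, ?_⟩
      have h3 : (l * l) • z = z ∨ (l * l) • z = w := hmem _ (M.mul_mem hl hl)
      rcases h3 with h3 | h3
      · rw [mul_smul, h] at h3; exact h3
      · rw [mul_smul, h] at h3
        exfalso
        have : l • w = l • z := h3.trans h.symm
        exact hzw (smul_left_cancel l this).symm
  have heq : M = DS Γ z w := by
    by_contra hne
    exact A.DS_ne_top (p := p) h4 hzw hs1 hs2 (hM.2 _ (lt_of_le_of_ne hle hne))
  have hne : TS Γ z w ≠ ⊥ := by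
    intro h
    have hcard := ((A.mob (p := p)).DS_dihedral hzw hs1 hs2).2
    rw [h, Subgroup.card_bot, ← heq] at hcard
    -- `M = {1, s}` fixes a point
    have hs1' : s ≠ 1 := by
      rintro rfl; rw [one_smul] at hs1; exact hzw hs1
    obtain ⟨x, hx⟩ := (A.mob (p := p)).exists_fix hs1'
    have hM2 : ∀ l ∈ M, l • x = x := by
      have : Fact (Nat.Prime 2) := ⟨Nat.prime_two⟩
      have hz1 : Subgroup.zpowers s ≤ M := by rw [Subgroup.zpowers_le]; exact hsM
      have hss : s * s = 1 := ((A.mob (p := p)).swap s z w hzw hs1 hs2).1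
      have ho : orderOf s = 2 := orderOf_eq_prime (by rw [sq]; exact hss) hs1'
      have hz2 : Subgroup.zpowers s = M := by
        apply Subgroup.eq_of_le_of_card_ge hz1
        rw [Nat.card_zpowers, ho, hcard]
      intro l hl
      rw [← hz2] at hl
      obtain ⟨k, rfl⟩ := hl
      exact (stabilizer Γ x).zpow_mem (show s ∈ stabilizer Γ x from hx) k
    obtain ⟨h5, h6⟩ := A.coatom_fixed (p := p) h4 hM hM2
    rw [h6, A.card_stab_rat (p := p) h5] at hcard
    have h7 : 4 * 1 ≤ Nat.card F * (A.mob (p := p)).t (pt0 K) := by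
      apply Nat.mul_le_mul h4
      rcases Nat.eq_zero_or_pos ((A.mob (p := p)).t (pt0 K)) with h8 | h8
      · rw [h8] at hcard; omega
      · exact h8
    omega
  refine ⟨w, hzw, heq, ⟨s, hs1, hs2⟩, ?_⟩
  by_cases hz : z ∈ orbit Γ (pt0 K)
  · left
    have hw : w ∈ orbit Γ (pt0 K) := by
      rw [← hs1]
      obtain ⟨g, rfl⟩ := hz
      exact ⟨s * g, by simp [mul_smul]⟩
    exact ⟨hz, hw, A.card_TS_rat hz hw hzw⟩
  · right
    exact ⟨hz, (A.card_TS_irr hz hzw hne).1⟩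

/-- the list of maximal subgroups -/
theorem Amb.coatoms (h4 : 4 ≤ Nat.card F) {M : Subgroup Γ} (hM : IsCoatom M) :
    (∃ z ∈ orbit Γ (pt0 K), M = stabilizer Γ z ∧
      Nat.card M = Nat.card F * (A.mob (p := p)).t (pt0 K)) ∨
    (∃ z w : ℙ K (Fin 2 → K), z ≠ w ∧ M = DS Γ z w ∧ (∃ s : Γ, s • z = w ∧ s • w = z) ∧
      ((z ∈ orbit Γ (pt0 K) ∧ w ∈ orbit Γ (pt0 K) ∧
        Nat.card (TS Γ z w) = (A.mob (p := p)).t (pt0 K)) ∨
       (z ∉ orbit Γ (pt0 K) ∧ Nat.card (TS Γ z w) * (Nat.card F - 1) =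
        (Nat.card F + 1) * (A.mob (p := p)).t (pt0 K)))) ∨
    (¬ p ∣ 12 ∧ Nat.card M = 12 ∧ Nonempty (M ≃* alternatingGroup (Fin 4))) ∨
    (¬ p ∣ 24 ∧ Nat.card M = 24 ∧ Nonempty (M ≃* Equiv.Perm (Fin 4))) ∨
    ((¬ p ∣ 60 ∨ p = 3) ∧ Nat.card M = 60 ∧ Nonempty (M ≃* alternatingGroup (Fin 5))) ∨
    (∃ (g : PGL(2, F)) (K1 : Subfield F), 3 ≤ Nat.card K1 ∧
        (cj g (M.map φ) = PGLs K1 ∨ cj g (M.map φ) = PSLs K1)) := by
  have := A.finite
  rcases A.list (p := p) (A.coatom_ne_bot h4 hM) with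
      ⟨z, hz⟩ | ⟨z, -, hz2⟩ | h | h | h | ⟨z, -, hz3, g, K1, -, hcj, -, hK1⟩
  · left
    obtain ⟨h1, h2⟩ := A.coatom_fixed (p := p) h4 hM hz
    refine ⟨z, h1, h2, ?_⟩
    rw [h2, A.card_stab_rat h1]
  · right; left
    obtain ⟨w, h1, h2, h3, h5⟩ := A.coatom_dih (p := p) h4 hM hz2
    exact ⟨z, w, h1, h2, h3, h5⟩
  · exact Or.inr (Or.inr (Or.inl h))
  · exact Or.inr (Or.inr (Or.inr (Or.inl h)))
  · exact Or.inr (Or.inr (Or.inr (Or.inr (Or.inl h))))
  · exact Or.inr (Or.inr (Or.inr (Or.inr (Or.inr ⟨g, K1, by rw [hK1]; exact hz3, hcj⟩))))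

end

end Cfsg.Agent.Dk
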