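import Mathlib
import Cfsg.Agent.Dk.Coat

/-! Intermediate subfields; maximal subgroups of subfield type. -/

set_option autoImplicit false

namespace Cfsg.Agent.Dk

open Matrix Subgroup
open scoped MatrixGroups

section

variable {F : Type*} [Field F] [Finite F]

theorem pow_card_pow {K0 : Subfield F} {x : F} (hx : x ∈ K0) (s : ℕ) : x ^ (Nat.card K0 ^ s) = x := by
  induction s with
  | zero => simp
  | succ n ih =>
    rw [pow_succ, pow_mul, ih]
    have := Fintype.ofFinite K0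
    have h4 := FiniteField.pow_card (⟨x, hx⟩ : K0)
    rw [← Nat.card_eq_fintype_card] at h4
    exact congrArg Subtype.val h4

theorem mem_of_pow_card {K2 : Subfield F} {x : F} (h : x ^ Nat.card K2 = x) : x ∈ K2 := by
  classical
  have := Fintype.ofFinite F
  have h1 : 1 < Nat.card K2 := one_lt_card_sub K2
  set n := Nat.card K2 with hn
  have hP0 : (Polynomial.X ^ n - Polynomial.X : Polynomial F) ≠ 0 :=
    FiniteField.X_pow_card_sub_X_ne_zero F h1
  have hdeg : (Polynomial.X ^ n - Polynomial.X : Polynomial F).natDegree = n :=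
    FiniteField.X_pow_card_sub_X_natDegree_eq F h1
  have hroot : ∀ y : F, y ^ n = y → y ∈ (Polynomial.X ^ n - Polynomial.X : Polynomial F).roots.toFinset := by
    intro y hy
    rw [Multiset.mem_toFinset, Polynomial.mem_roots hP0, Polynomial.IsRoot.def]
    simp [hy]
  let S : Finset F := Set.toFinset (K2 : Set F)
  have hS : S ⊆ (Polynomial.X ^ n - Polynomial.X : Polynomial F).roots.toFinset := by
    intro y hy
    apply hroot
    have hy' : y ∈ K2 := by simpa [S] using hy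
    have := pow_card_pow hy' 1
    rwa [pow_one] at this
  have hScard : S.card = n := by
    rw [hn, Nat.card_eq_fintype_card]
    exact Set.toFinset_card _
  have hle : (Polynomial.X ^ n - Polynomial.X : Polynomial F).roots.toFinset.card ≤ S.card := by
    rw [hScard]
    calc _ ≤ Multiset.card (Polynomial.X ^ n - Polynomial.X : Polynomial F).roots :=
          Multiset.toFinset_card_le _
      _ ≤ _ := (Polynomial.card_roots' _).trans hdeg.le
  have heq := Finset.eq_of_subset_of_card_le hS hle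
  have hx := hroot x h
  rw [← heq] at hx
  simpa [S] using hx

theorem sub_le_of_pow {K0 K2 : Subfield F} {s : ℕ} (h : Nat.card K0 ^ s = Nat.card K2) :
    K0 ≤ K2 := by
  intro x hx
  apply mem_of_pow_card
  rw [← h]
  exact pow_card_pow hx s

theorem exists_between {K0 : Subfield F} {m r : ℕ} (hm : Nat.card K0 ^ m = Nat.card F)
    (hr : r ∣ m) : ∃ K2 : Subfield F, K0 ≤ K2 ∧ Nat.card K2 ^ r = Nat.card F := by
  obtain ⟨s, rfl⟩ := hr
  have hF := Finite.one_lt_card (α := F)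
  have hr0 : r ≠ 0 := by
    rintro rfl; rw [zero_mul, pow_zero] at hm; omega
  have hs0 : s ≠ 0 := by
    rintro rfl; rw [mul_zero, pow_zero] at hm; omega
  have := Fintype.ofFinite F
  have := Fintype.ofFinite K0
  obtain ⟨p, hp, hc⟩ := exists_char (F := K0)
  have : Fact p.Prime := ⟨hp⟩
  obtain ⟨k, -, hk⟩ := FiniteField.card K0 p
  have hk0 : (k : ℕ) * s ≠ 0 := mul_ne_zero k.ne_zero hs0
  have := Fintype.ofFinite (GaloisField p (k * s))
  have hcard : Fintype.card (GaloisField p (k * s)) = Nat.card K0 ^ s := by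
    rw [← Nat.card_eq_fintype_card, GaloisField.card p _ hk0, Nat.card_eq_fintype_card, hk, pow_mul]
  obtain ⟨K2, h1, -⟩ := exists_subfield (F := F) (K := GaloisField p (k * s)) (r := r)
    (Nat.one_le_iff_ne_zero.2 hr0) (by
      rw [hcard, ← pow_mul, ← Nat.card_eq_fintype_card, ← hm, mul_comm])
  refine ⟨K2, sub_le_of_pow (s := s) (by rw [h1, hcard]), ?_⟩
  rw [h1, hcard, ← pow_mul, ← hm, mul_comm]

theorem cj_PSLr (g : PGL(2, F)) : cj g (PSLr F) = PSLr F := by
  have hn := PSLr_normal (F := F)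
  ext x
  rw [mem_cj]
  constructor
  · intro h
    have := hn.conj_mem _ h g
    simpa [mul_assoc] using this
  · intro h
    have := hn.conj_mem _ h g⁻¹
    simpa [mul_assoc] using this

/-- a maximal subgroup of `PSL₂(F)` that is conjugate to a subgroup below `L < PSL₂` equals it -/
theorem coatom_cj {M : Subgroup PSL(2, F)} (hM : IsCoatom M) {g : PGL(2, F)}
    {L : Subgroup PGL(2, F)} (h1 : cj g (im M) ≤ L) (h2 : L ≤ PSLr F) (h3 : L ≠ PSLr F) :
    cj g (im M) = L := by
  obtain ⟨-, hc⟩ := coatom_im hM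
  have h4 : im M ≤ cj g⁻¹ L := by
    have := (cj_mono (g := g⁻¹)).2 h1
    rwa [cj_inv_cj] at this
  have h5 : cj g⁻¹ L ≤ PSLr F := by
    have := (cj_mono (g := g⁻¹)).2 h2
    rwa [cj_PSLr] at this
  rcases hc _ h4 h5 with h6 | h6
  · rw [← h6, cj_cj_inv]
  · exfalso
    apply h3
    have : cj g (cj g⁻¹ L) = cj g (PSLr F) := by rw [h6]
    rwa [cj_cj_inv, cj_PSLr] at this

theorem cj_im_ne {M : Subgroup PSL(2, F)} (hM : IsCoatom M) (g : PGL(2, F)) :
    cj g (im M) ≠ PSLr F := by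
  intro h
  apply (coatom_im hM).1
  rw [← cj_inv_cj g (im M), h, cj_PSLr]

theorem coatom_cj_pgl {M : Subgroup PGL(2, F)} (hM : IsCoatom M) {g : PGL(2, F)}
    {L : Subgroup PGL(2, F)} (h1 : cj g M ≤ L) (h3 : L ≠ ⊤) : cj g M = L := by
  have h4 : M ≤ cj g⁻¹ L := by
    have := (cj_mono (g := g⁻¹)).2 h1
    rwa [cj_inv_cj] at this
  rcases hM.le_iff.1 h4 with h6 | h6
  · exfalso
    apply h3
    rw [← cj_cj_inv g L, h6]
    rw [eq_top_iff]
    intro x _
    rw [mem_cj]; exact mem_top _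
  · rw [← h6, cj_cj_inv]

theorem PGLs_mono {K0 K1 : Subfield F} (h : K0 ≤ K1) : PGLs K0 ≤ PGLs K1 := by
  rintro _ ⟨g, rfl⟩
  obtain ⟨g0, rfl⟩ := ProjGenLinGroup.mk_surjective g
  refine ⟨ProjGenLinGroup.mk (GeneralLinearGroup.map (Subfield.inclusion h) g0), ?_⟩
  rw [ProjGenLinGroup.map_mk, ProjGenLinGroup.map_mk]
  congr 1

theorem card_top_gt {K1 : Subfield F} (h : K1 ≠ ⊤) : Nat.card (PGLs K1) < Nat.card (PSLr F) := by
  obtain ⟨m, hm⟩ := exists_pow_card K1
  have hF := Finite.one_lt_card (α := F)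
  rcases m with _ | _ | m
  · rw [pow_zero] at hm; omega
  · exfalso; apply h; apply eq_top_of_card; rw [zero_add, pow_one] at hm; exact hm
  · exact card_PSLs_lt (by omega) hm.symm

theorem PGLs_ne_PSLr {K1 : Subfield F} (h : K1 ≠ ⊤) : PGLs K1 ≠ PSLr F := by
  intro h1
  have := card_top_gt h
  rw [h1] at this
  exact lt_irrefl _ this

theorem card_PSLs_le (K1 : Subfield F) : Nat.card (PSLs K1) ≤ Nat.card (PGLs K1) :=
  Nat.card_le_card_of_injective _ (Subgroup.inclusion_injective (PSLs_le_PGLs K1))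

theorem PSLs_ne_PSLr {K1 : Subfield F} (h : K1 ≠ ⊤) : PSLs K1 ≠ PSLr F := by
  intro h1
  have h2 := card_top_gt h
  have h3 := card_PSLs_le K1
  rw [h1] at h3
  omega

theorem card_PSLs_two (K1 : Subfield F) (ho : Odd (Nat.card K1)) :
    2 * Nat.card (PSLs K1) = Nat.card (PGLs K1) := by
  have h := card_PSLs K1
  rw [gcd_odd ho] at h
  rw [h, card_PGLs]

theorem card_PGLs_inj {K0 K1 : Subfield F} (h : Nat.card (PGLs K0) = Nat.card (PGLs K1)) :
    Nat.card K0 = Nat.card K1 := by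
  rw [card_PGLs, card_PGLs] at h
  have key : ∀ a b : ℕ, 1 < a → a < b → a * ((a - 1) * (a + 1)) < b * ((b - 1) * (b + 1)) := by
    intro a b ha hab
    apply Nat.mul_lt_mul_of_lt_of_le hab
    · exact Nat.mul_le_mul (by omega) (by omega)
    · exact Nat.mul_pos (by omega) (by omega)
  rcases lt_trichotomy (Nat.card K0) (Nat.card K1) with h1 | h1 | h1
  · exact absurd h (key _ _ (one_lt_card_sub K0) h1).ne
  · exact h1
  · exact absurd h (key _ _ (one_lt_card_sub K1) h1).ne'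

theorem ne_top_of_pow {K1 : Subfield F} {m : ℕ} (hm : Nat.card K1 ^ m = Nat.card F) (h2 : 2 ≤ m) :
    K1 ≠ ⊤ := card_ne_top_of h2 hm.symm

theorem odd_sub (ho : Odd (Nat.card F)) (K1 : Subfield F) : Odd (Nat.card K1) := by
  obtain ⟨m, hm⟩ := exists_pow_card K1
  have hF := Finite.one_lt_card (α := F)
  rw [← hm] at ho
  by_contra h
  rw [Nat.not_odd_iff_even] at h
  have hm0 : m ≠ 0 := by rintro rfl; rw [pow_zero] at hm; omega
  exact (Nat.not_even_iff_odd.2 ho) (h.pow_of_ne_zero hm0)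

theorem even_sub (he : Even (Nat.card F)) (K1 : Subfield F) : Even (Nat.card K1) := by
  obtain ⟨m, hm⟩ := exists_pow_card K1
  rw [← hm] at he
  by_contra h
  rw [Nat.not_even_iff_odd] at h
  exact (Nat.not_even_iff_odd.2 h.pow) he

theorem deg_ge_two {K1 : Subfield F} {m : ℕ} (hm : Nat.card K1 ^ m = Nat.card F) (h : K1 ≠ ⊤) :
    2 ≤ m := by
  have hF := Finite.one_lt_card (α := F)
  rcases m with _ | _ | m
  · rw [pow_zero] at hm; omega
  · exfalso; apply h; apply eq_top_of_card; rw [zero_add, pow_one] at hm; exact hm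
  · omega

/-- maximal subgroups of subfield type, `q` odd -/
theorem coatom_sub_odd (ho : Odd (Nat.card F)) {M : Subgroup PSL(2, F)} (hM : IsCoatom M)
    {g : PGL(2, F)} {K1 : Subfield F}
    (h : cj g (im M) = PGLs K1 ∨ cj g (im M) = PSLs K1) :
    (cj g (im M) = PGLs K1 ∧ Nat.card K1 ^ 2 = Nat.card F) ∨
    (cj g (im M) = PSLs K1 ∧ ∃ r : ℕ, r.Prime ∧ Odd r ∧ Nat.card K1 ^ r = Nat.card F) := by
  have hne : K1 ≠ ⊤ := by
    rintro rfl
    exact hM.1 (eq_top_of_im (PSLr_le_of_cj h))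
  have hle : cj g (im M) ≤ PSLr F := by
    rw [← cj_PSLr g]; exact cj_mono.2 (im_le M)
  obtain ⟨m, hm⟩ := exists_pow_card K1
  have hm2 := deg_ge_two hm hne
  rcases h with h | h
  · left
    refine ⟨h, ?_⟩
    have hev : Even m := even_of_PGLs_le ho hm (by rw [← h]; exact hle)
    obtain ⟨K2, h12, hK2⟩ := exists_between hm (even_iff_two_dvd.1 hev)
    have h1 : PGLs K2 ≤ PSLr F := PGLs_le_of_even hK2 (by norm_num)
    have h2 := coatom_cj hM (L := PGLs K2) (by rw [h]; exact PGLs_mono h12) h1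
      (PGLs_ne_PSLr (ne_top_of_pow hK2 le_rfl))
    rw [h] at h2
    rw [card_PGLs_inj (K0 := K1) (K1 := K2) (by rw [h2]), hK2]
  · right
    refine ⟨h, ?_⟩
    have hodd : Odd m := by
      by_contra hev
      rw [Nat.not_odd_iff_even] at hev
      have h1 : PGLs K1 ≤ PSLr F := PGLs_le_of_even hm hev
      have h2 := coatom_cj hM (L := PGLs K1) (by rw [h]; exact PSLs_le_PGLs K1) h1
        (PGLs_ne_PSLr hne)
      rw [h] at h2
      have h3 := card_PSLs_two K1 (odd_sub ho K1)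
      rw [h2] at h3
      have : 0 < Nat.card (PGLs K1) := Nat.card_pos
      omega
    obtain ⟨r, hr, hrm⟩ := Nat.exists_prime_and_dvd (show m ≠ 1 by omega)
    obtain ⟨K2, h12, hK2⟩ := exists_between hm hrm
    have h2 := coatom_cj hM (L := PSLs K2) (by rw [h]; exact PSLs_mono h12) (PSLs_le_PSLr K2)
      (PSLs_ne_PSLr (ne_top_of_pow hK2 hr.two_le))
    rw [h] at h2
    have h3 := card_PSLs_two K1 (odd_sub ho K1)
    have h4 := card_PSLs_two K2 (odd_sub ho K2)
    refine ⟨r, hr, Odd.of_dvd_nat hodd hrm, ?_⟩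
    rw [card_PGLs_inj (K0 := K1) (K1 := K2) (by rw [← h3, ← h4, h2]), hK2]

/-- maximal subgroups of subfield type, `q` even -/
theorem coatom_sub_even (he : Even (Nat.card F)) {M : Subgroup PSL(2, F)} (hM : IsCoatom M)
    {g : PGL(2, F)} {K1 : Subfield F}
    (h : cj g (im M) = PGLs K1 ∨ cj g (im M) = PSLs K1) :
    cj g (im M) = PSLs K1 ∧ ∃ r : ℕ, r.Prime ∧ Nat.card K1 ^ r = Nat.card F := by
  have hne : K1 ≠ ⊤ := by
    rintro rfl
    exact hM.1 (eq_top_of_im (PSLr_le_of_cj h))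
  have h : cj g (im M) = PSLs K1 := by
    rcases h with h | h
    · rw [h, PSLs_eq_PGLs_of_even (even_sub he K1)]
    · exact h
  obtain ⟨m, hm⟩ := exists_pow_card K1
  have hm2 := deg_ge_two hm hne
  obtain ⟨r, hr, hrm⟩ := Nat.exists_prime_and_dvd (show m ≠ 1 by omega)
  obtain ⟨K2, h12, hK2⟩ := exists_between hm hrm
  have h2 := coatom_cj hM (L := PSLs K2) (by rw [h]; exact PSLs_mono h12) (PSLs_le_PSLr K2)
      (PSLs_ne_PSLr (ne_top_of_pow hK2 hr.two_le))
  refine ⟨h, r, hr, ?_⟩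
  rw [h] at h2
  rw [PSLs_eq_PGLs_of_even (even_sub he K1), PSLs_eq_PGLs_of_even (even_sub he K2)] at h2
  rw [card_PGLs_inj (K0 := K1) (K1 := K2) (by rw [h2]), hK2]

/-- maximal subgroups of subfield type in `PGL₂(F)` -/
theorem coatom_sub_pgl {M : Subgroup PGL(2, F)} (hM : IsCoatom M) (hML : ¬ PSLr F ≤ M)
    (ho : Odd (Nat.card F)) {g : PGL(2, F)} {K1 : Subfield F}
    (h : cj g M = PGLs K1 ∨ cj g M = PSLs K1) :
    cj g M = PGLs K1 ∧ ∃ r : ℕ, r.Prime ∧ Odd r ∧ Nat.card K1 ^ r = Nat.card F := by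
  have hnP : ∀ L : Subgroup PGL(2, F), cj g M ≤ L → PSLr F ≤ L → L = ⊤ := by
    intro L h1 h2
    by_contra hL
    have h3 := coatom_cj_pgl hM h1 hL
    apply hML
    have : cj g⁻¹ (PSLr F) ≤ cj g⁻¹ L := cj_mono.2 h2
    rwa [cj_PSLr, ← h3, cj_inv_cj] at this
  have hnT : PSLr F ≠ ⊤ := by
    intro h1
    have h2 := card_PSLr (F := F)
    rw [gcd_odd ho, h1, Subgroup.card_top, card_pgl] at h2
    have h3 : 0 < Nat.card F * ((Nat.card F - 1) * (Nat.card F + 1)) := by
      rw [← card_pgl]; exact Nat.card_pos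
    omega
  have hne : K1 ≠ ⊤ := by
    rintro rfl
    apply hML
    exact PSLr_le_of_cj h
  have h : cj g M = PGLs K1 := by
    rcases h with h | h
    · exact h
    · exfalso
      apply hnT
      apply hnP _ _ le_rfl
      rw [h]; exact PSLs_le_PSLr K1
  refine ⟨h, ?_⟩
  obtain ⟨m, hm⟩ := exists_pow_card K1
  have hm2 := deg_ge_two hm hne
  have hodd : Odd m := by
    by_contra hev
    rw [Nat.not_odd_iff_even] at hev
    apply hnT
    apply hnP _ _ le_rfl
    rw [h]; exact PGLs_le_of_even hm hev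
  obtain ⟨r, hr, hrm⟩ := Nat.exists_prime_and_dvd (show m ≠ 1 by omega)
  obtain ⟨K2, h12, hK2⟩ := exists_between hm hrm
  have hK2t : PGLs K2 ≠ ⊤ := by
    intro h1
    have h2 := card_top_gt (ne_top_of_pow hK2 hr.two_le)
    rw [h1] at h2
    have h3 : Nat.card (PSLr F) ≤ Nat.card (⊤ : Subgroup PGL(2, F)) :=
      Nat.card_le_card_of_injective _ (Subgroup.inclusion_injective le_top)
    omega
  have h2 := coatom_cj_pgl hM (L := PGLs K2) (by rw [h]; exact PGLs_mono h12) hK2t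
  rw [h] at h2
  refine ⟨r, hr, Odd.of_dvd_nat hodd hrm, ?_⟩
  rw [card_PGLs_inj (K0 := K1) (K1 := K2) (by rw [h2]), hK2]

end

end Cfsg.Agent.Dk
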