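import Mathlib
import Cfsg.Agent.Dk.Chain

/-! The maximal subgroups of `PSL₂(q)`, `q` even. -/

set_option autoImplicit false

namespace Cfsg.Agent.Dk

open MulAction Matrix LinearAlgebra.Projectivization Projectivization Subgroup
open scoped MatrixGroups
open H81 (pt0 pt1 ptz ptc)

section

variable {F : Type*} [Field F] [Finite F]

theorem psl_equiv_of_cj {H : Subgroup PSL(2, F)} {g : PGL(2, F)} {K0 : Subfield F} {k : Type*}
    [Field k] (h : cj g (im H) = PSLs K0) (e : K0 ≃+* k) : Nonempty (H ≃* PSL(2, k)) := by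
  obtain ⟨e1⟩ := psls_iso K0
  obtain ⟨e2⟩ := nonempty_psl_iso e
  exact ⟨(imEquiv H).trans ((cjEquiv g _).trans ((MulEquiv.subgroupCongr h).trans (e1.trans e2)))⟩

theorem pgl_equiv_of_cj {H : Subgroup PSL(2, F)} {g : PGL(2, F)} {K0 : Subfield F} {k : Type*}
    [Field k] (h : cj g (im H) = PGLs K0) (e : K0 ≃+* k) : Nonempty (H ≃* PGL(2, k)) := by
  obtain ⟨e1⟩ := pgls_iso K0
  obtain ⟨e2⟩ := nonempty_pgl_iso e
  exact ⟨(imEquiv H).trans ((cjEquiv g _).trans ((MulEquiv.subgroupCongr h).trans (e1.trans e2)))⟩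

theorem pgl_equiv_of_cj' {H : Subgroup PGL(2, F)} {g : PGL(2, F)} {K0 : Subfield F} {k : Type*}
    [Field k] (h : cj g H = PGLs K0) (e : K0 ≃+* k) : Nonempty (H ≃* PGL(2, k)) := by
  obtain ⟨e1⟩ := pgls_iso K0
  obtain ⟨e2⟩ := nonempty_pgl_iso e
  exact ⟨(cjEquiv g _).trans ((MulEquiv.subgroupCongr h).trans (e1.trans e2))⟩

attribute [local instance 10] sact

theorem list_even (he : Even (Nat.card F)) (h4 : 4 ≤ Nat.card F) {M : Subgroup PSL(2, F)}
    (hM : IsCoatom M) :
    Nat.card M = Nat.card F * (Nat.card F - 1) ∨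
    Nonempty (M ≃* DihedralGroup (Nat.card F - 1)) ∨
    Nonempty (M ≃* DihedralGroup (Nat.card F + 1)) ∨
    (∃ (F₀ : Type) (_ : Field F₀) (_ : Fintype F₀) (r : ℕ), r.Prime ∧ Fintype.card F₀ ≠ 2 ∧
        Nat.card F = Fintype.card F₀ ^ r ∧ Nonempty (M ≃* PSL(2, F₀))) := by
  obtain ⟨p, hp, hc⟩ := exists_char (F := F)
  have : Fact p.Prime := ⟨hp⟩
  have : CharP (AlgebraicClosure F) p :=
    charP_of_injective_algebraMap (algebraMap F (AlgebraicClosure F)).injective p
  have hfin : Finite PSL(2, F) := finite_psl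
  have hp2 := char_two_of_even hp he
  have hF := fullS (p := p) (F := F) (K := AlgebraicClosure F)
  have ht : (mobS (p := p) (F := F) (K := AlgebraicClosure F)).t (pt0 (AlgebraicClosure F)) =
      Nat.card F - 1 := by
    have := t_psl (F := F) (K := AlgebraicClosure F) (p := p)
    rwa [gcd_even he, one_mul] at this
  rcases (ambS (F := F) (K := AlgebraicClosure F)).coatoms (p := p) h4 hM with
    ⟨z, hz, h1, h2⟩ | ⟨z, w, h1, h2, ⟨s, hs1, hs2⟩, h3⟩ | ⟨h1, -⟩ | ⟨h1, -⟩ | ⟨h1, -⟩ |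
      ⟨g, K1, h1, h2⟩
  · left
    rw [h2]
    exact congrArg _ ht
  · right
    have hD := (mobS (p := p) (F := F) (K := AlgebraicClosure F)).DS_dihedral h1 hs1 hs2
    rcases h3 with ⟨-, -, h3⟩ | ⟨-, h3⟩
    · left
      rw [h2]
      have e : Nat.card (TS PSL(2, F) z w) = Nat.card F - 1 := h3.trans ht
      rw [← e]; exact hD.1
    · right; left
      rw [h2]
      have e : Nat.card (TS PSL(2, F) z w) = Nat.card F + 1 := by
        have h4' : Nat.card (TS PSL(2, F) z w) * (Nat.card F - 1) =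
            (Nat.card F + 1) * (Nat.card F - 1) := by
          rw [h3]; exact congrArg _ ht
        exact Nat.eq_of_mul_eq_mul_right (by omega) h4'
      rw [← e]; exact hD.1
  · rw [hp2] at h1; exact absurd (by norm_num) h1
  · rw [hp2] at h1; exact absurd (by norm_num) h1
  · exfalso
    rcases h1 with h1 | h1
    · rw [hp2] at h1; exact h1 (by norm_num)
    · omega
  · right; right; right
    obtain ⟨h3, r, hr, hr2⟩ := coatom_sub_even he hM h2
    obtain ⟨k, _, _, ⟨e⟩, hk⟩ := exists_type_copy K1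
    have hk' : Fintype.card k = Nat.card K1 := hk
    refine ⟨k, inferInstance, inferInstance, r, hr, ?_, ?_, psl_equiv_of_cj h3 e⟩
    · rw [hk']; omega
    · rw [hk', hr2]

end

end Cfsg.Agent.Dk
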