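import Mathlib
import Cfsg.Agent.Dk.ListEven

/-! Pairs of matrices with given traces are conjugate and rational. -/

set_option autoImplicit false

namespace Cfsg.Agent.Dk

open Matrix
open scoped MatrixGroups

section pair

variable {F : Type*} [Field F]

/-- companion form of a traceless matrix -/
def Jm (d : F) : Matrix (Fin 2) (Fin 2) F := !![0, -d; 1, 0]

/-- the second matrix -/
def Bm (d t s x y : F) : Matrix (Fin 2) (Fin 2) F :=
  !![(t + x) / 2, (s + y) / 2; (y - s) / (2 * d), (t - x) / 2]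

theorem exists_conj_J (h2 : (2 : F) ≠ 0) {A : Matrix (Fin 2) (Fin 2) F} (hA : A.trace = 0)
    (hd : A.det ≠ 0) : ∃ Q : Matrix (Fin 2) (Fin 2) F, Q.det ≠ 0 ∧ A * Q = Q * Jm A.det := by
  rw [Matrix.trace_fin_two] at hA
  have h11 : A 1 1 = -A 0 0 := by linear_combination hA
  have hdet : A.det = -(A 0 0 * A 0 0) - A 0 1 * A 1 0 := by
    rw [Matrix.det_fin_two, h11]; ring
  by_cases hc : A 1 0 = 0
  · by_cases hb : A 0 1 = 0
    · refine ⟨!![1, A 0 0; 1, -A 0 0], ?_, ?_⟩
      · rw [Matrix.det_fin_two_of]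
        intro h
        apply hd
        have h3 : A 0 0 = 0 := by
          have : 2 * A 0 0 = 0 := by linear_combination -h
          rcases mul_eq_zero.1 this with h4 | h4
          · exact absurd h4 h2
          · exact h4
        rw [hdet, h3, hb]; ring
      · ext i j
        fin_cases i <;> fin_cases j <;>
          simp [Matrix.mul_apply, Fin.sum_univ_two, Jm, hc, hb, h11, hdet]
    · refine ⟨!![0, A 0 1; 1, -A 0 0], ?_, ?_⟩
      · rw [Matrix.det_fin_two_of]
        intro h; apply hb; linear_combination -h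
      · ext i j
        fin_cases i <;> fin_cases j <;>
          simp [Matrix.mul_apply, Fin.sum_univ_two, Jm, hc, h11, hdet] <;> ring
  · refine ⟨!![1, A 0 0; 0, A 1 0], ?_, ?_⟩
    · rw [Matrix.det_fin_two_of]
      intro h; apply hc; linear_combination h
    · ext i j
      fin_cases i <;> fin_cases j <;>
        simp [Matrix.mul_apply, Fin.sum_univ_two, Jm, h11, hdet] <;> ring

theorem eq_Bm (h2 : (2 : F) ≠ 0) {d : F} (hd : d ≠ 0) (B : Matrix (Fin 2) (Fin 2) F) :
    B = Bm d B.trace (Jm d * B).trace (B 0 0 - B 1 1) (B 0 1 + d * B 1 0) := by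
  have e1 : (Jm d * B).trace = B 0 1 - d * B 1 0 := by
    rw [Matrix.trace_fin_two]
    simp [Matrix.mul_apply, Fin.sum_univ_two, Jm]; ring
  rw [e1, Matrix.trace_fin_two]
  ext i j
  fin_cases i <;> fin_cases j <;> simp [Bm] <;> field_simp <;> ring

theorem det_Bm (h2 : (2 : F) ≠ 0) {d : F} (hd : d ≠ 0) (t s x y : F) :
    4 * d * (Bm d t s x y).det = d * t ^ 2 + s ^ 2 - (d * x ^ 2 + y ^ 2) := by
  rw [Bm, Matrix.det_fin_two_of]
  field_simp
  ring

theorem conj_Bm (h2 : (2 : F) ≠ 0) {d : F} (hd : d ≠ 0) {t s x y x' y' : F}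
    (h : d * x ^ 2 + y ^ 2 = d * x' ^ 2 + y' ^ 2) (h0 : d * x ^ 2 + y ^ 2 ≠ 0) :
    ∃ n : Matrix (Fin 2) (Fin 2) F, n.det ≠ 0 ∧ n * Jm d = Jm d * n ∧
      n * Bm d t s x y = Bm d t s x' y' * n := by
  by_cases hS : d * x ^ 2 + y ^ 2 + (d * x * x' + y * y') = 0
  · have h3 : d * (x * y' - x' * y) ^ 2 = 0 := by
      linear_combination (- (d * x ^ 2 + y ^ 2)) * h +
        (d * x ^ 2 + y ^ 2 - (d * x * x' + y * y')) * hS
    have h4 : x * y' - x' * y = 0 := by
      rcases mul_eq_zero.1 h3 with h5 | h5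
      · exact absurd h5 hd
      · exact pow_eq_zero_iff (two_ne_zero) |>.1 h5
    have hx : x' = -x := by
      have : (d * x ^ 2 + y ^ 2) * (x' + x) = 0 := by
        linear_combination x * hS - y * h4
      rcases mul_eq_zero.1 this with h5 | h5
      · exact absurd h5 h0
      · linear_combination h5
    have hy : y' = -y := by
      have : (d * x ^ 2 + y ^ 2) * (y' + y) = 0 := by
        linear_combination y * hS + d * x * h4
      rcases mul_eq_zero.1 this with h5 | h5
      · exact absurd h5 h0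
      · linear_combination h5
    refine ⟨Jm d, ?_, rfl, ?_⟩
    · rw [Jm, Matrix.det_fin_two_of]
      intro h5; apply hd; linear_combination h5
    · rw [hx, hy]
      ext i j
      fin_cases i <;> fin_cases j <;>
        simp [Matrix.mul_apply, Fin.sum_univ_two, Jm, Bm] <;> field_simp <;> ring
  · set u := d * x ^ 2 + y ^ 2 + (d * x * x' + y * y') with hu
    set v := x * y' - x' * y with hv
    refine ⟨!![u, -(d * v); v, u], ?_, ?_, ?_⟩
    · rw [Matrix.det_fin_two_of]
      have : u * u - -(d * v) * v = 2 * (d * x ^ 2 + y ^ 2) * u := by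
        rw [hu, hv]
        linear_combination (- (d * x ^ 2 + y ^ 2)) * h
      rw [this]
      exact mul_ne_zero (mul_ne_zero h2 h0) hS
    · ext i j
      fin_cases i <;> fin_cases j <;>
        simp [Matrix.mul_apply, Fin.sum_univ_two, Jm] <;> ring
    · ext i j
      fin_cases i <;> fin_cases j <;>
        simp [Matrix.mul_apply, Fin.sum_univ_two, Bm, hu, hv] <;> field_simp
      · linear_combination x * h
      · linear_combination y * h
      · linear_combination y * h
      · linear_combination -x * h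

/-- pairs with the same trace data are conjugate -/
theorem pair_conj (h2 : (2 : F) ≠ 0) {A B A' B' : Matrix (Fin 2) (Fin 2) F} (hA : A.trace = 0)
    (hA' : A'.trace = 0) (hd : A.det = A'.det) (hd0 : A.det ≠ 0) (ht : B.trace = B'.trace)
    (hδ : B.det = B'.det) (hs : (A * B).trace = (A' * B').trace)
    (hnd : A.det * B.trace ^ 2 + (A * B).trace ^ 2 - 4 * A.det * B.det ≠ 0) :
    ∃ P : GL (Fin 2) F, P.1 * A = A' * P.1 ∧ P.1 * B = B' * P.1 := by
  obtain ⟨Q, hQ, hQA⟩ := exists_conj_J h2 hA hd0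
  obtain ⟨Q', hQ', hQA'⟩ := exists_conj_J h2 hA' (by rwa [← hd])
  rw [← hd] at hQA'
  set d := A.det with hdd
  -- move to the normal form
  have key : ∀ (Q A B : Matrix (Fin 2) (Fin 2) F), Q.det ≠ 0 → A * Q = Q * Jm d →
      (Q⁻¹ * B * Q).trace = B.trace ∧ (Q⁻¹ * B * Q).det = B.det ∧
        (Jm d * (Q⁻¹ * B * Q)).trace = (A * B).trace := by
    intro Q A B hQ h
    have hu : IsUnit Q.det := isUnit_iff_ne_zero.2 hQ
    refine ⟨?_, ?_, ?_⟩
    · rw [Matrix.trace_mul_cycle, Matrix.mul_nonsing_inv _ hu, Matrix.one_mul]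
    · rw [Matrix.det_mul, Matrix.det_mul, Matrix.det_nonsing_inv, Ring.inverse_eq_inv']
      field_simp
    · have e : Jm d = Q⁻¹ * A * Q := by
        rw [Matrix.mul_assoc, h, ← Matrix.mul_assoc, Matrix.nonsing_inv_mul _ hu, Matrix.one_mul]
      rw [e]
      have e2 : Q⁻¹ * A * Q * (Q⁻¹ * B * Q) = Q⁻¹ * (A * B) * Q := by
        calc _ = Q⁻¹ * A * (Q * Q⁻¹) * B * Q := by simp only [Matrix.mul_assoc]
          _ = _ := by rw [Matrix.mul_nonsing_inv _ hu, Matrix.mul_one]; simp only [Matrix.mul_assoc]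
      rw [e2, Matrix.trace_mul_cycle, Matrix.mul_nonsing_inv _ hu, Matrix.one_mul]
  obtain ⟨k1, k2, k3⟩ := key Q A B hQ hQA
  obtain ⟨k1', k2', k3'⟩ := key Q' A' B' hQ' hQA'
  set C := Q⁻¹ * B * Q with hC
  set C' := Q'⁻¹ * B' * Q' with hC'
  have b1 := eq_Bm h2 hd0 C
  have b2 := eq_Bm h2 hd0 C'
  rw [k1, k3] at b1
  rw [k1', k3', ← ht, ← hs] at b2
  set x := C 0 0 - C 1 1
  set y := C 0 1 + d * C 1 0
  set x' := C' 0 0 - C' 1 1
  set y' := C' 0 1 + d * C' 1 0
  have d1 := det_Bm h2 hd0 B.trace (A * B).trace x y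
  have d2 := det_Bm h2 hd0 B.trace (A * B).trace x' y'
  rw [← b1, k2] at d1
  rw [← b2, k2', ← hδ] at d2
  obtain ⟨n, hn, hnJ, hnB⟩ := conj_Bm h2 hd0 (t := B.trace) (s := (A * B).trace)
    (x := x) (y := y) (x' := x') (y' := y') (by linear_combination d1 - d2) (by
      intro h
      apply hnd
      linear_combination h - d1)
  rw [← b1, ← b2] at hnB
  have hu : IsUnit Q.det := isUnit_iff_ne_zero.2 hQ
  have hu' : IsUnit Q'.det := isUnit_iff_ne_zero.2 hQ'
  have hPdet : (Q' * n * Q⁻¹).det ≠ 0 := by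
    rw [Matrix.det_mul, Matrix.det_mul, Matrix.det_nonsing_inv, Ring.inverse_eq_inv']
    exact mul_ne_zero (mul_ne_zero hQ' hn) (inv_ne_zero hQ)
  refine ⟨GeneralLinearGroup.mkOfDetNeZero (Q' * n * Q⁻¹) hPdet, ?_, ?_⟩
  · show Q' * n * Q⁻¹ * A = A' * (Q' * n * Q⁻¹)
    have e1 : Q⁻¹ * A = Jm d * Q⁻¹ := by
      calc Q⁻¹ * A = Q⁻¹ * A * (Q * Q⁻¹) := by rw [Matrix.mul_nonsing_inv _ hu, Matrix.mul_one]
        _ = Q⁻¹ * (A * Q) * Q⁻¹ := by simp only [Matrix.mul_assoc]
        _ = _ := by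
          rw [hQA, ← Matrix.mul_assoc, Matrix.nonsing_inv_mul _ hu, Matrix.one_mul]
    calc Q' * n * Q⁻¹ * A = Q' * n * (Q⁻¹ * A) := by simp only [Matrix.mul_assoc]
      _ = Q' * (n * Jm d) * Q⁻¹ := by rw [e1]; simp only [Matrix.mul_assoc]
      _ = (Q' * Jm d) * n * Q⁻¹ := by rw [hnJ]; simp only [Matrix.mul_assoc]
      _ = _ := by rw [← hQA']; simp only [Matrix.mul_assoc]
  · show Q' * n * Q⁻¹ * B = B' * (Q' * n * Q⁻¹)
    have e1 : Q⁻¹ * B = C * Q⁻¹ := by
      rw [hC, Matrix.mul_assoc (Q⁻¹ * B), Matrix.mul_nonsing_inv _ hu, Matrix.mul_one]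
    have e2 : Q' * C' = B' * Q' := by
      rw [hC', ← Matrix.mul_assoc, ← Matrix.mul_assoc, Matrix.mul_nonsing_inv _ hu', Matrix.one_mul]
    calc Q' * n * Q⁻¹ * B = Q' * n * (Q⁻¹ * B) := by simp only [Matrix.mul_assoc]
      _ = Q' * (n * C) * Q⁻¹ := by rw [e1]; simp only [Matrix.mul_assoc]
      _ = (Q' * C') * n * Q⁻¹ := by rw [hnB]; simp only [Matrix.mul_assoc]
      _ = _ := by rw [e2]; simp only [Matrix.mul_assoc]

/-- representing elements by `d x² + y²` over a finite field -/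
theorem exists_rep {k : Type*} [Field k] [Finite k] (h2 : (2 : k) ≠ 0) {d : k} (hd : d ≠ 0) (N : k) :
    ∃ x y : k, d * x ^ 2 + y ^ 2 = N := by
  have := Fintype.ofFinite k
  have hodd : Fintype.card k % 2 = 1 := FiniteField.odd_card_of_char_ne_two (by
    intro h
    apply h2
    have : CharP k 2 := by rw [← h]; exact ringChar.charP k
    exact CharTwo.two_eq_zero)
  obtain ⟨a, b, h⟩ := FiniteField.exists_root_sum_quadratic (R := k)
    (f := Polynomial.C d * Polynomial.X ^ 2 + Polynomial.C 0 * Polynomial.X + Polynomial.C 0)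
    (g := Polynomial.C 1 * Polynomial.X ^ 2 + Polynomial.C 0 * Polynomial.X + Polynomial.C (-N))
    (Polynomial.degree_quadratic hd) (Polynomial.degree_quadratic one_ne_zero) hodd
  refine ⟨a, b, ?_⟩
  simp at h
  linear_combination h

/-- pairs with rational trace data can be conjugated into the subfield -/
theorem pair_rat (h2 : (2 : F) ≠ 0) {K0 : Subfield F} [Finite K0] {A B : Matrix (Fin 2) (Fin 2) F}
    (hA : A.trace = 0) (hd0 : A.det ≠ 0) (kd : A.det ∈ K0) (kt : B.trace ∈ K0) (kδ : B.det ∈ K0)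
    (ks : (A * B).trace ∈ K0)
    (hnd : A.det * B.trace ^ 2 + (A * B).trace ^ 2 - 4 * A.det * B.det ≠ 0) :
    ∃ (P : GL (Fin 2) F) (A0 B0 : Matrix (Fin 2) (Fin 2) F), (∀ i j, A0 i j ∈ K0) ∧
      (∀ i j, B0 i j ∈ K0) ∧ P.1 * A = A0 * P.1 ∧ P.1 * B = B0 * P.1 := by
  have h2' : (2 : K0) ≠ 0 := by
    intro h; apply h2
    have := congrArg K0.subtype h
    rwa [map_ofNat, map_zero] at this
  obtain ⟨x, y, hxy⟩ := exists_rep h2' (d := ⟨A.det, kd⟩) (by
    intro h; apply hd0; exact congrArg Subtype.val h)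
    (⟨A.det, kd⟩ * ⟨B.trace, kt⟩ ^ 2 + ⟨(A * B).trace, ks⟩ ^ 2 - 4 * ⟨A.det, kd⟩ * ⟨B.det, kδ⟩)
  have hxy' : A.det * (x : F) ^ 2 + (y : F) ^ 2 =
      A.det * B.trace ^ 2 + (A * B).trace ^ 2 - 4 * A.det * B.det := by
    have := congrArg K0.subtype hxy
    have h4c : K0.subtype (4 : K0) = 4 := map_ofNat K0.subtype 4
    simp only [map_add, map_mul, map_pow, map_sub, h4c] at this
    exact this
  have two_mem : (2 : F) ∈ K0 := ofNat_mem K0 2
  have hJ : ∀ i j, Jm A.det i j ∈ K0 := by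
    intro i j
    fin_cases i <;> fin_cases j
    · exact K0.zero_mem
    · exact K0.neg_mem kd
    · exact K0.one_mem
    · exact K0.zero_mem
  have hB : ∀ i j, Bm A.det B.trace (A * B).trace x y i j ∈ K0 := by
    intro i j
    fin_cases i <;> fin_cases j
    · exact K0.div_mem (K0.add_mem kt x.2) two_mem
    · exact K0.div_mem (K0.add_mem ks y.2) two_mem
    · exact K0.div_mem (K0.sub_mem y.2 ks) (K0.mul_mem two_mem kd)
    · exact K0.div_mem (K0.sub_mem kt x.2) two_mem
  have dJ : (Jm A.det).det = A.det := by rw [Jm, Matrix.det_fin_two_of]; ring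
  have tB : (Bm A.det B.trace (A * B).trace (x : F) y).trace = B.trace := by
    rw [Bm, Matrix.trace_fin_two_of]; field_simp; ring
  have sB : (Jm A.det * Bm A.det B.trace (A * B).trace (x : F) y).trace = (A * B).trace := by
    rw [Matrix.trace_fin_two]
    simp [Matrix.mul_apply, Fin.sum_univ_two, Jm, Bm]
    field_simp; ring
  have dB : (Bm A.det B.trace (A * B).trace (x : F) y).det = B.det := by
    have h := det_Bm h2 hd0 B.trace (A * B).trace (x : F) y
    have h4 : (4 : F) * A.det ≠ 0 := by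
      have : (4 : F) = 2 * 2 := by norm_num
      rw [this]; exact mul_ne_zero (mul_ne_zero h2 h2) hd0
    apply mul_left_cancel₀ h4
    linear_combination h - hxy'
  obtain ⟨P, h1, h3⟩ := pair_conj h2 (A := A) (B := B) (A' := Jm A.det)
    (B' := Bm A.det B.trace (A * B).trace (x : F) y) hA (by rw [Jm, Matrix.trace_fin_two_of]; ring)
    dJ.symm hd0 tB.symm dB.symm sB.symm hnd
  exact ⟨P, _, _, hJ, hB, h1, h3⟩

end pair

end Cfsg.Agent.Dk
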