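import Mathlib
import Cfsg.Agent.Dk.Pair

/-! Trace data for copies of `A4`, `S4`, `A5` in `PGL₂(F)`; conjugacy and rationality. -/

set_option autoImplicit false

namespace Cfsg.Agent.Dk

open Matrix
open scoped MatrixGroups

section traces

variable {F : Type*} [Field F]

theorem mat_pow2 (M : Matrix (Fin 2) (Fin 2) F) : M ^ 2 = M.trace • M + (-M.det) • 1 := by
  ext i j
  fin_cases i <;> fin_cases j <;>
    simp [pow_succ, Matrix.mul_apply, Fin.sum_univ_two, Matrix.trace_fin_two,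
      Matrix.det_fin_two] <;> ring

theorem mat_pow3 (M : Matrix (Fin 2) (Fin 2) F) :
    M ^ 3 = (M.trace ^ 2 - M.det) • M + (-(M.trace * M.det)) • 1 := by
  ext i j
  fin_cases i <;> fin_cases j <;>
    simp [pow_succ, Matrix.mul_apply, Fin.sum_univ_two, Matrix.trace_fin_two,
      Matrix.det_fin_two] <;> ring

theorem mat_pow4 (M : Matrix (Fin 2) (Fin 2) F) :
    M ^ 4 = (M.trace ^ 3 - 2 * M.trace * M.det) • M + (-((M.trace ^ 2 - M.det) * M.det)) • 1 := by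
  ext i j
  fin_cases i <;> fin_cases j <;>
    simp [pow_succ, Matrix.mul_apply, Fin.sum_univ_two, Matrix.trace_fin_two,
      Matrix.det_fin_two] <;> ring

theorem mat_pow5 (M : Matrix (Fin 2) (Fin 2) F) :
    M ^ 5 = (M.trace ^ 4 - 3 * M.trace ^ 2 * M.det + M.det ^ 2) • M +
      (-((M.trace ^ 3 - 2 * M.trace * M.det) * M.det)) • 1 := by
  ext i j
  fin_cases i <;> fin_cases j <;>
    simp [pow_succ, Matrix.mul_apply, Fin.sum_univ_two, Matrix.trace_fin_two,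
      Matrix.det_fin_two] <;> ring

/-- if a nonscalar matrix has `N = aM + b` scalar then `a = 0` -/
theorem coef_zero {M : GL (Fin 2) F} (hM : (ProjGenLinGroup.mk M : PGL(2, F)) ≠ 1) {n : ℕ}
    (hN : (ProjGenLinGroup.mk M : PGL(2, F)) ^ n = 1) {a b : F}
    (h : M.1 ^ n = a • M.1 + b • 1) : a = 0 := by
  by_contra ha
  apply hM
  rw [← map_pow, mk_eq_one_iff] at hN
  have e : (M ^ n).1 = M.1 ^ n := rfl
  rw [e, h] at hN
  obtain ⟨h1, h2, h3⟩ := hN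
  rw [mk_eq_one_iff]
  simp [ha] at h1 h2 h3
  exact ⟨h1, h2, h3⟩

theorem trace_of_two {M : GL (Fin 2) F} (hM : (ProjGenLinGroup.mk M : PGL(2, F)) ≠ 1)
    (hN : (ProjGenLinGroup.mk M : PGL(2, F)) ^ 2 = 1) : M.1.trace = 0 :=
  coef_zero hM hN (mat_pow2 M.1)

theorem trace_of_three {M : GL (Fin 2) F} (hM : (ProjGenLinGroup.mk M : PGL(2, F)) ≠ 1)
    (hN : (ProjGenLinGroup.mk M : PGL(2, F)) ^ 3 = 1) : M.1.trace ^ 2 = M.1.det :=
  sub_eq_zero.1 (coef_zero hM hN (mat_pow3 M.1))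

theorem trace_of_four {M : GL (Fin 2) F} (hM : (ProjGenLinGroup.mk M : PGL(2, F)) ^ 2 ≠ 1)
    (hN : (ProjGenLinGroup.mk M : PGL(2, F)) ^ 4 = 1) :
    M.1.trace ≠ 0 ∧ M.1.trace ^ 2 = 2 * M.1.det := by
  have hM1 : (ProjGenLinGroup.mk M : PGL(2, F)) ≠ 1 := by
    intro h; rw [h, one_pow] at hM; exact hM rfl
  have h1 := coef_zero hM1 hN (mat_pow4 M.1)
  have h2 : M.1.trace ≠ 0 := by
    intro h3
    apply hM
    rw [← map_pow, mk_eq_one_iff]
    have e : (M ^ 2).1 = M.1 ^ 2 := rfl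
    rw [e, mat_pow2, h3]
    simp
  refine ⟨h2, ?_⟩
  have h3 : M.1.trace * (M.1.trace ^ 2 - 2 * M.1.det) = 0 := by linear_combination h1
  rcases mul_eq_zero.1 h3 with h4 | h4
  · exact absurd h4 h2
  · exact sub_eq_zero.1 h4

theorem trace_of_five {M : GL (Fin 2) F} (hM : (ProjGenLinGroup.mk M : PGL(2, F)) ≠ 1)
    (hN : (ProjGenLinGroup.mk M : PGL(2, F)) ^ 5 = 1) :
    M.1.trace ≠ 0 ∧ M.1.trace ^ 4 - 3 * M.1.trace ^ 2 * M.1.det + M.1.det ^ 2 = 0 := by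
  have h1 := coef_zero hM hN (mat_pow5 M.1)
  refine ⟨?_, h1⟩
  intro h3
  rw [h3] at h1
  have h4 : M.1.det ^ 2 = 0 := by linear_combination h1
  have h5 : M.1.det ≠ 0 := M.det.ne_zero
  exact h5 (pow_eq_zero_iff two_ne_zero |>.1 h4)

theorem exists_scale (B : GL (Fin 2) F) {c : F} (hc : c ≠ 0) : ∃ B' : GL (Fin 2) F,
    (ProjGenLinGroup.mk B' : PGL(2, F)) = ProjGenLinGroup.mk B ∧ B'.1 = c • B.1 := by
  have hd : (c • B.1).det ≠ 0 := by
    rw [Matrix.det_smul]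
    exact mul_ne_zero (pow_ne_zero _ hc) B.det.ne_zero
  refine ⟨GeneralLinearGroup.mkOfDetNeZero (c • B.1) hd, ?_, rfl⟩
  symm
  rw [ProjGenLinGroup.mk_eq_mk_iff]
  refine ⟨Units.mk0 c hc, ?_⟩
  apply Units.ext
  show B.1 * Matrix.scalar (Fin 2) c = c • B.1
  ext i j
  rw [Matrix.scalar_apply, Matrix.mul_diagonal, Matrix.smul_apply, smul_eq_mul, mul_comm]

/-- trace data of a pair of elements of order two and three -/
def Dat (X Y : PGL(2, F)) (d s : F) : Prop :=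
  ∃ A B : GL (Fin 2) F, ProjGenLinGroup.mk A = X ∧ ProjGenLinGroup.mk B = Y ∧ A.1.trace = 0 ∧
    A.1.det = d ∧ B.1.trace = -1 ∧ B.1.det = 1 ∧ (A.1 * B.1).trace = s

theorem Dat.ne_zero {X Y : PGL(2, F)} {d s : F} (h : Dat X Y d s) : d ≠ 0 := by
  obtain ⟨A, B, -, -, -, h1, -⟩ := h
  rw [← h1]; exact A.det.ne_zero

theorem exists_dat {X Y : PGL(2, F)} (hX : X ≠ 1) (hX2 : X ^ 2 = 1) (hY : Y ≠ 1)
    (hY3 : Y ^ 3 = 1) : ∃ d s, Dat X Y d s := by
  obtain ⟨A, rfl⟩ := ProjGenLinGroup.mk_surjective X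
  obtain ⟨B, rfl⟩ := ProjGenLinGroup.mk_surjective Y
  have h1 := trace_of_two hX hX2
  have h2 := trace_of_three hY hY3
  have h3 : B.1.trace ≠ 0 := by
    intro h
    rw [h] at h2
    exact B.det.ne_zero (show B.1.det = 0 by rw [← h2]; ring)
  obtain ⟨B', hB1, hB2⟩ := exists_scale B (c := -(B.1.trace)⁻¹) (neg_ne_zero.2 (inv_ne_zero h3))
  refine ⟨A.1.det, (A.1 * B'.1).trace, A, B', rfl, hB1, h1, rfl, ?_, ?_, rfl⟩
  · rw [hB2, Matrix.trace_smul, smul_eq_mul, neg_mul, inv_mul_cancel₀ h3]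
  · rw [hB2, Matrix.det_smul, ← h2]
    simp only [Fintype.card_fin]
    field_simp

theorem Dat.scale {X Y : PGL(2, F)} {d s : F} (h : Dat X Y d s) {c : F} (hc : c ≠ 0) :
    Dat X Y (c ^ 2 * d) (c * s) := by
  obtain ⟨A, B, h1, h2, h3, h4, h5, h6, h7⟩ := h
  obtain ⟨A', hA1, hA2⟩ := exists_scale A hc
  refine ⟨A', B, hA1.trans h1, h2, ?_, ?_, h5, h6, ?_⟩
  · rw [hA2, Matrix.trace_smul, h3, smul_zero]
  · rw [hA2, Matrix.det_smul, h4, Fintype.card_fin]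
  · rw [hA2, Matrix.smul_mul, Matrix.trace_smul, h7, smul_eq_mul]

theorem Dat.three {X Y : PGL(2, F)} {d s : F} (h : Dat X Y d s) (h1 : X * Y ≠ 1)
    (h3 : (X * Y) ^ 3 = 1) : Dat X Y 1 (-1) := by
  have hd := h.ne_zero
  have hs : s ^ 2 = d := by
    obtain ⟨A, B, rfl, rfl, -, h4, -, h6, h7⟩ := h
    rw [← map_mul] at h1 h3
    have := trace_of_three h1 h3
    have e : (A * B).1 = A.1 * B.1 := rfl
    rw [e, Matrix.det_mul, h7, h4, h6, mul_one] at this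
    exact this
  have hs0 : s ≠ 0 := by rintro rfl; apply hd; rw [← hs]; ring
  have h5 := h.scale (c := -s⁻¹) (neg_ne_zero.2 (inv_ne_zero hs0))
  have e1 : (-s⁻¹) ^ 2 * d = 1 := by rw [← hs]; field_simp
  have e2 : -s⁻¹ * s = -1 := by field_simp
  rwa [e1, e2] at h5

theorem Dat.four (h2 : (2 : F) ≠ 0) {X Y : PGL(2, F)} {d s : F} (h : Dat X Y d s)
    (h1 : (X * Y) ^ 2 ≠ 1) (h3 : (X * Y) ^ 4 = 1) : Dat X Y 2 2 := by
  have hd := h.ne_zero
  have hs : s ≠ 0 ∧ s ^ 2 = 2 * d := by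
    obtain ⟨A, B, rfl, rfl, -, h4, -, h6, h7⟩ := h
    rw [← map_mul] at h1 h3
    have := trace_of_four h1 h3
    have e : (A * B).1 = A.1 * B.1 := rfl
    rw [e, Matrix.det_mul, h7, h4, h6, mul_one] at this
    exact this
  obtain ⟨hs0, hs⟩ := hs
  have h5 := h.scale (c := 2 * s⁻¹) (mul_ne_zero h2 (inv_ne_zero hs0))
  have e1 : (2 * s⁻¹) ^ 2 * d = 2 := by
    field_simp
    linear_combination -1 * hs
  have e2 : 2 * s⁻¹ * s = 2 := by field_simp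
  rwa [e1, e2] at h5

theorem Dat.five {X Y : PGL(2, F)} {d s : F} (h : Dat X Y d s) (h1 : X * Y ≠ 1)
    (h3 : (X * Y) ^ 5 = 1) : ∃ e : F, e ^ 2 - 3 * e + 1 = 0 ∧ Dat X Y e 1 := by
  have hd := h.ne_zero
  have hs : s ≠ 0 ∧ s ^ 4 - 3 * s ^ 2 * d + d ^ 2 = 0 := by
    obtain ⟨A, B, rfl, rfl, -, h4, -, h6, h7⟩ := h
    rw [← map_mul] at h1 h3
    have := trace_of_five h1 h3
    have e : (A * B).1 = A.1 * B.1 := rfl
    rw [e, Matrix.det_mul, h7, h4, h6, mul_one] at this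
    exact this
  obtain ⟨hs0, hs⟩ := hs
  have h5 := h.scale (c := s⁻¹) (inv_ne_zero hs0)
  have e2 : s⁻¹ * s = 1 := by field_simp
  rw [e2] at h5
  refine ⟨_, ?_, h5⟩
  field_simp
  linear_combination hs

theorem Dat.five_two {X Y X' Y' : PGL(2, F)} {e e' : F} (he : e ^ 2 - 3 * e + 1 = 0)
    (h : Dat X Y e 1) (h' : Dat X' Y' e' 1) (hm : X' * Y' = (X * Y) ^ 2) : e' = 3 - e := by
  obtain ⟨A, B, rfl, rfl, -, h4, -, h6, h7⟩ := h
  obtain ⟨A', B', rfl, rfl, -, h4', -, h6', h7'⟩ := h'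
  rw [← map_mul, ← map_mul, ← map_pow] at hm
  obtain ⟨u, hu⟩ := ProjGenLinGroup.mk_eq_mk_iff.1 hm.symm
  have hu' : (A.1 * B.1) ^ 2 * Matrix.scalar (Fin 2) (u : F) = A'.1 * B'.1 :=
    congrArg Units.val hu
  have e0 : (A.1 * B.1).det = e := by rw [Matrix.det_mul, h4, h6, mul_one]
  rw [mat_pow2, h7, e0, one_smul] at hu'
  have hdet : ((A.1 * B.1 + -e • 1 : Matrix (Fin 2) (Fin 2) F)).det = e ^ 2 := by
    have h8 : ((A.1 * B.1) ^ 2).det = e ^ 2 := by rw [Matrix.det_pow, e0]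
    rw [mat_pow2, h7, e0, one_smul] at h8
    exact h8
  have t1 : (A'.1 * B'.1).trace = (1 - 2 * e) * u := by
    rw [← hu', Matrix.scalar_apply, ← Matrix.smul_eq_mul_diagonal, Matrix.trace_smul,
      Matrix.trace_add, h7, Matrix.trace_smul, Matrix.trace_one]
    simp; ring
  have t2 : (A'.1 * B'.1).det = e ^ 2 * u ^ 2 := by
    rw [← hu', Matrix.det_mul, hdet, Matrix.scalar_apply, Matrix.det_diagonal]
    simp
  rw [h7'] at t1
  rw [Matrix.det_mul, h4', h6', mul_one] at t2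
  have h9 : (1 - 2 * e) ≠ 0 := by
    intro h; rw [h, zero_mul] at t1; exact one_ne_zero t1
  have h10 : (1 - 2 * e) ^ 2 * (e' - (3 - e)) = 0 := by
    rw [t2]
    linear_combination (-e ^ 2 * (1 + (1 - 2 * e) * u)) * t1 + (4 * e - 3) * he
  rcases mul_eq_zero.1 h10 with h11 | h11
  · exact absurd (pow_eq_zero_iff two_ne_zero |>.1 h11) h9
  · exact sub_eq_zero.1 h11

theorem Dat.conj (h2 : (2 : F) ≠ 0) {X Y X' Y' : PGL(2, F)} {d s : F} (h : Dat X Y d s)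
    (h' : Dat X' Y' d s) (hnd : s ^ 2 - 3 * d ≠ 0) :
    ∃ g : PGL(2, F), g * X * g⁻¹ = X' ∧ g * Y * g⁻¹ = Y' := by
  have hd := h.ne_zero
  obtain ⟨A, B, rfl, rfl, h3, h4, h5, h6, h7⟩ := h
  obtain ⟨A', B', rfl, rfl, h3', h4', h5', h6', h7'⟩ := h'
  obtain ⟨P, hP1, hP2⟩ := pair_conj h2 h3 h3' (h4.trans h4'.symm) (by rw [h4]; exact hd)
    (h5.trans h5'.symm) (h6.trans h6'.symm) (h7.trans h7'.symm) (by
      rw [h4, h5, h6, h7]
      intro h
      apply hnd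
      linear_combination h)
  refine ⟨ProjGenLinGroup.mk P, ?_, ?_⟩
  · rw [← map_mul, ← map_inv, ← map_mul]
    congr 1
    have : P * A = A' * P := Units.ext hP1
    rw [this, mul_inv_cancel_right]
  · rw [← map_mul, ← map_inv, ← map_mul]
    congr 1
    have : P * B = B' * P := Units.ext hP2
    rw [this, mul_inv_cancel_right]

theorem Dat.rat (h2 : (2 : F) ≠ 0) {K0 : Subfield F} [Finite K0] {X Y : PGL(2, F)} {d s : F}
    (h : Dat X Y d s) (hd0 : d ∈ K0) (hs0 : s ∈ K0) (hnd : s ^ 2 - 3 * d ≠ 0) :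
    ∃ g : PGL(2, F), g * X * g⁻¹ ∈ PGLs K0 ∧ g * Y * g⁻¹ ∈ PGLs K0 := by
  have hd := h.ne_zero
  obtain ⟨A, B, rfl, rfl, h3, h4, h5, h6, h7⟩ := h
  obtain ⟨P, A0, B0, hA0, hB0, hP1, hP2⟩ := pair_rat h2 (K0 := K0) h3 (by rw [h4]; exact hd)
    (by rw [h4]; exact hd0) (by rw [h5]; exact K0.neg_mem K0.one_mem) (by rw [h6]; exact K0.one_mem)
    (by rw [h7]; exact hs0) (by
      rw [h4, h5, h6, h7]
      intro h
      apply hnd
      linear_combination h)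
  have key : ∀ (C : GL (Fin 2) F) (C0 : Matrix (Fin 2) (Fin 2) F), P.1 * C.1 = C0 * P.1 →
      (∀ i j, C0 i j ∈ K0) → ProjGenLinGroup.mk P * ProjGenLinGroup.mk C *
        (ProjGenLinGroup.mk P)⁻¹ ∈ PGLs K0 := by
    intro C C0 h h0
    rw [← map_mul, ← map_inv, ← map_mul]
    apply mk_mem_PGLs
    have e : (P * C * P⁻¹).1 = C0 := by
      have e1 : (P * C * P⁻¹).1 = P.1 * C.1 * (P⁻¹).1 := rfl
      rw [e1, h, Matrix.mul_assoc]
      have e2 : P.1 * (P⁻¹).1 = 1 := P.mul_inv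
      rw [e2, Matrix.mul_one]
    rw [e]; exact h0
  exact ⟨ProjGenLinGroup.mk P, key A A0 hP1 hA0, key B B0 hP2 hB0⟩

end traces

end Cfsg.Agent.Dk
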