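import Mathlib
import Cfsg.Agent.Dk.Dat

/-! Conjugacy and rationality of the exceptional subgroups. -/

set_option autoImplicit false

namespace Cfsg.Agent.Dk

open Matrix Subgroup
open scoped MatrixGroups

section gens

/-- generators of `A4` -/
def a4a : alternatingGroup (Fin 4) := ⟨Equiv.swap 0 1 * Equiv.swap 2 3, by
  rw [Equiv.Perm.mem_alternatingGroup]; decide⟩
def a4b : alternatingGroup (Fin 4) := ⟨Equiv.swap 0 1 * Equiv.swap 1 2, by
  rw [Equiv.Perm.mem_alternatingGroup]; decide⟩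

theorem a4_words : ∀ σ : alternatingGroup (Fin 4), ∃ i j k : Fin 3,
    σ = a4b ^ (i : ℕ) * (a4a ^ (j : ℕ) * a4b ^ (k : ℕ)) := by
  decide +kernel

theorem a4_rel : a4a ≠ 1 ∧ a4a ^ 2 = 1 ∧ a4b ≠ 1 ∧ a4b ^ 3 = 1 ∧ a4a * a4b ≠ 1 ∧
    (a4a * a4b) ^ 3 = 1 := by
  decide +kernel

def s4a : Equiv.Perm (Fin 4) := Equiv.swap 0 3
def s4b : Equiv.Perm (Fin 4) := Equiv.swap 0 1 * Equiv.swap 1 2

theorem s4_words : ∀ σ : Equiv.Perm (Fin 4), ∃ (i : Fin 4) (j k l : Fin 3),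
    σ = (s4a * s4b) ^ (i : ℕ) * (s4b ^ (j : ℕ) * (s4a ^ (k : ℕ) * s4b ^ (l : ℕ))) := by
  decide +kernel

theorem s4_rel : s4a ≠ 1 ∧ s4a ^ 2 = 1 ∧ s4b ≠ 1 ∧ s4b ^ 3 = 1 ∧ (s4a * s4b) ^ 2 ≠ 1 ∧
    (s4a * s4b) ^ 4 = 1 := by
  decide +kernel

def a5a : alternatingGroup (Fin 5) := ⟨Equiv.swap 0 1 * Equiv.swap 3 4, by
  rw [Equiv.Perm.mem_alternatingGroup]; decide⟩
def a5b : alternatingGroup (Fin 5) := ⟨Equiv.swap 1 2 * Equiv.swap 2 4, by
  rw [Equiv.Perm.mem_alternatingGroup]; decide⟩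

theorem a5_rel : a5a ≠ 1 ∧ a5a ^ 2 = 1 ∧ a5b ≠ 1 ∧ a5b ^ 3 = 1 ∧ a5a * a5b ≠ 1 ∧
    (a5a * a5b) ^ 5 = 1 := by
  decide +kernel

variable {G : Type*} [Group G]

theorem gen_A4 (e : G ≃* alternatingGroup (Fin 4)) {N : Subgroup G} (ha : e.symm a4a ∈ N)
    (hb : e.symm a4b ∈ N) : N = ⊤ := by
  rw [eq_top_iff]
  intro x _
  obtain ⟨i, j, k, h⟩ := a4_words (e x)
  have : x = e.symm a4b ^ (i : ℕ) * (e.symm a4a ^ (j : ℕ) * e.symm a4b ^ (k : ℕ)) := by
    apply e.injective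
    simp only [map_mul, map_pow, MulEquiv.apply_symm_apply]
    exact h
  rw [this]
  exact N.mul_mem (N.pow_mem hb _) (N.mul_mem (N.pow_mem ha _) (N.pow_mem hb _))

theorem gen_S4 (e : G ≃* Equiv.Perm (Fin 4)) {N : Subgroup G} (ha : e.symm s4a ∈ N)
    (hb : e.symm s4b ∈ N) : N = ⊤ := by
  rw [eq_top_iff]
  intro x _
  obtain ⟨i, j, k, l, h⟩ := s4_words (e x)
  have : x = (e.symm s4a * e.symm s4b) ^ (i : ℕ) * (e.symm s4b ^ (j : ℕ) *
      (e.symm s4a ^ (k : ℕ) * e.symm s4b ^ (l : ℕ))) := by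
    apply e.injective
    simp only [map_mul, map_pow, MulEquiv.apply_symm_apply]
    exact h
  rw [this]
  exact N.mul_mem (N.pow_mem (N.mul_mem ha hb) _) (N.mul_mem (N.pow_mem hb _)
    (N.mul_mem (N.pow_mem ha _) (N.pow_mem hb _)))

theorem gen_A5 (e : G ≃* alternatingGroup (Fin 5)) {N : Subgroup G} (ha : e.symm a5a ∈ N)
    (hb : e.symm a5b ∈ N) : N = ⊤ := by
  have hfin : Finite G := Finite.of_equiv _ e.symm.toEquiv
  have : IsSimpleGroup (alternatingGroup (Fin 5)) := alternatingGroup.isSimpleGroup (by simp)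
  have hs : IsSimpleGroup G := (MulEquiv.isSimpleGroup_congr e).2 inferInstance
  have hcard := card_A5 e
  obtain ⟨h1, h2, h3, h4, h5, h6⟩ := a5_rel
  have key : ∀ (x : alternatingGroup (Fin 5)) (n : ℕ), n.Prime → x ≠ 1 → x ^ n = 1 →
      e.symm x ∈ N → n ∣ Nat.card N := by
    intro x n hn hx hxn hxN
    have : Fact n.Prime := ⟨hn⟩
    have h7 : orderOf (⟨e.symm x, hxN⟩ : N) = n := by
      apply orderOf_eq_prime
      · apply Subtype.ext
        show e.symm x ^ n = 1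
        rw [← map_pow, hxn, map_one]
      · intro h
        apply hx
        have : e.symm x = 1 := congrArg Subtype.val h
        rw [← e.apply_symm_apply x, this, map_one]
    rw [← h7]
    exact orderOf_dvd_natCard _
  have d2 := key _ 2 Nat.prime_two h1 h2 ha
  have d3 := key _ 3 Nat.prime_three h3 h4 hb
  have d5 := key _ 5 Nat.prime_five h5 h6 (by rw [map_mul]; exact N.mul_mem ha hb)
  have hNi := Subgroup.card_mul_index N
  rw [hcard] at hNi
  have hd : 30 ∣ Nat.card N := by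
    have h6 : 6 ∣ Nat.card N := (show Nat.Coprime 2 3 by norm_num).mul_dvd_of_dvd_of_dvd d2 d3
    exact (show Nat.Coprime 6 5 by norm_num).mul_dvd_of_dvd_of_dvd h6 d5
  obtain ⟨c, hc⟩ := hd
  rw [hc] at hNi
  have hi : N.index = 1 ∨ N.index = 2 := by
    have h7 : c * N.index = 2 := by
      have : 30 * (c * N.index) = 30 * 2 := by rw [← mul_assoc, hNi]
      omega
    have h8 : N.index ∣ 2 := ⟨c, by rw [mul_comm]; exact h7.symm⟩
    exact (Nat.dvd_prime Nat.prime_two).1 h8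
  rcases hi with hi | hi
  · exact Subgroup.index_eq_one.1 hi
  · have hn : N.Normal := Subgroup.normal_of_index_eq_two hi
    rcases hn.eq_bot_or_eq_top with h | h
    · exfalso
      rw [h, Subgroup.index_bot, hcard] at hi
      omega
    · exact h

end gens

section main

theorem cj_le_of_gen {Γ : Type*} [Group Γ] {H L : Subgroup Γ} {g : Γ} {x y : H}
    (hgen : ∀ N : Subgroup H, x ∈ N → y ∈ N → N = ⊤) (hx : g * x * g⁻¹ ∈ L)
    (hy : g * y * g⁻¹ ∈ L) : cj g H ≤ L := by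
  have h1 : (cj g⁻¹ L).subgroupOf H = ⊤ := by
    apply hgen
    · rw [Subgroup.mem_subgroupOf, mem_cj, inv_inv]; exact hx
    · rw [Subgroup.mem_subgroupOf, mem_cj, inv_inv]; exact hy
  rw [Subgroup.subgroupOf_eq_top] at h1
  have h2 := (cj_mono (g := g)).2 h1
  rwa [cj_cj_inv] at h2

theorem cj_eq_of_le {Γ : Type*} [Group Γ] [Finite Γ] {H L : Subgroup Γ} {g : Γ}
    (h : cj g H ≤ L) (hc : Nat.card L = Nat.card H) : cj g H = L :=
  Subgroup.eq_of_le_of_card_ge h (by rw [hc, card_cj])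

section dat

variable {F : Type*} [Field F]

theorem ne_one_coe {Γ : Type*} [Group Γ] {H : Subgroup Γ} {x : H} (h : x ≠ 1) : (x : Γ) ≠ 1 :=
  fun h' => h (Subtype.ext h')

theorem pow_coe {Γ : Type*} [Group Γ] {H : Subgroup Γ} {x : H} {n : ℕ} (h : x ^ n = 1) :
    (x : Γ) ^ n = 1 := by
  rw [← Subgroup.coe_pow, h, Subgroup.coe_one]

theorem dat_A4 {H : Subgroup PGL(2, F)} (e : H ≃* alternatingGroup (Fin 4)) :
    Dat ((e.symm a4a : H) : PGL(2, F)) ((e.symm a4b : H) : PGL(2, F)) 1 (-1) := by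
  obtain ⟨h1, h2, h3, h4, h5, h6⟩ := a4_rel
  obtain ⟨d, s, hd⟩ := exists_dat (X := ((e.symm a4a : H) : PGL(2, F)))
    (Y := ((e.symm a4b : H) : PGL(2, F)))
    (ne_one_coe (by rwa [Ne, EmbeddingLike.map_eq_one_iff]))
    (pow_coe (by rw [← map_pow, h2, map_one]))
    (ne_one_coe (by rwa [Ne, EmbeddingLike.map_eq_one_iff]))
    (pow_coe (by rw [← map_pow, h4, map_one]))
  apply hd.three
  · rw [← Subgroup.coe_mul, ← map_mul]
    exact ne_one_coe (by rwa [Ne, EmbeddingLike.map_eq_one_iff])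
  · rw [← Subgroup.coe_mul, ← map_mul]
    exact pow_coe (by rw [← map_pow, h6, map_one])

theorem dat_S4 (h20 : (2 : F) ≠ 0) {H : Subgroup PGL(2, F)} (e : H ≃* Equiv.Perm (Fin 4)) :
    Dat ((e.symm s4a : H) : PGL(2, F)) ((e.symm s4b : H) : PGL(2, F)) 2 2 := by
  obtain ⟨h1, h2, h3, h4, h5, h6⟩ := s4_rel
  obtain ⟨d, s, hd⟩ := exists_dat (X := ((e.symm s4a : H) : PGL(2, F)))
    (Y := ((e.symm s4b : H) : PGL(2, F)))
    (ne_one_coe (by rwa [Ne, EmbeddingLike.map_eq_one_iff]))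
    (pow_coe (by rw [← map_pow, h2, map_one]))
    (ne_one_coe (by rwa [Ne, EmbeddingLike.map_eq_one_iff]))
    (pow_coe (by rw [← map_pow, h4, map_one]))
  apply hd.four h20
  · rw [← Subgroup.coe_mul, ← map_mul, ← Subgroup.coe_pow, ← map_pow]
    exact ne_one_coe (by rwa [Ne, EmbeddingLike.map_eq_one_iff])
  · rw [← Subgroup.coe_mul, ← map_mul]
    exact pow_coe (by rw [← map_pow, h6, map_one])

theorem dat_A5 {H : Subgroup PGL(2, F)} (e : H ≃* alternatingGroup (Fin 5)) :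
    ∃ v : F, v ^ 2 - 3 * v + 1 = 0 ∧
    Dat ((e.symm a5a : H) : PGL(2, F)) ((e.symm a5b : H) : PGL(2, F)) v 1 := by
  obtain ⟨h1, h2, h3, h4, h5, h6⟩ := a5_rel
  obtain ⟨d, s, hd⟩ := exists_dat (X := ((e.symm a5a : H) : PGL(2, F)))
    (Y := ((e.symm a5b : H) : PGL(2, F)))
    (ne_one_coe (by rwa [Ne, EmbeddingLike.map_eq_one_iff]))
    (pow_coe (by rw [← map_pow, h2, map_one]))
    (ne_one_coe (by rwa [Ne, EmbeddingLike.map_eq_one_iff]))
    (pow_coe (by rw [← map_pow, h4, map_one]))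
  apply hd.five
  · rw [← Subgroup.coe_mul, ← map_mul]
    exact ne_one_coe (by rwa [Ne, EmbeddingLike.map_eq_one_iff])
  · rw [← Subgroup.coe_mul, ← map_mul]
    exact pow_coe (by rw [← map_pow, h6, map_one])

/-- the outer automorphism of `A5` -/
noncomputable def a5t : alternatingGroup (Fin 5) ≃* alternatingGroup (Fin 5) :=
  MulAut.conjNormal (Equiv.swap 1 2 * Equiv.swap 2 4 * Equiv.swap 4 3 : Equiv.Perm (Fin 5))

theorem a5_sq : (Equiv.swap 1 2 * Equiv.swap 2 4 * Equiv.swap 4 3 : Equiv.Perm (Fin 5)) *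
    ((Equiv.swap 0 1 * Equiv.swap 3 4) * (Equiv.swap 1 2 * Equiv.swap 2 4)) *
    (Equiv.swap 1 2 * Equiv.swap 2 4 * Equiv.swap 4 3 : Equiv.Perm (Fin 5))⁻¹ =
    ((Equiv.swap 0 1 * Equiv.swap 3 4) * (Equiv.swap 1 2 * Equiv.swap 2 4)) ^ 2 := by
  decide +kernel

theorem a5t_apply : a5t (a5a * a5b) = (a5a * a5b) ^ 2 := by
  apply Subtype.ext
  have h1 : ((a5a * a5b : alternatingGroup (Fin 5)) : Equiv.Perm (Fin 5)) =
    ((Equiv.swap 0 1 * Equiv.swap 3 4) * (Equiv.swap 1 2 * Equiv.swap 2 4)) := rfl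
  rw [Subgroup.coe_pow, h1, ← a5_sq, ← h1]
  exact MulAut.conjNormal_apply _ _

/-- a copy of `A5` can be parametrized with either value of the invariant -/
theorem dat_A5_twist {H : Subgroup PGL(2, F)} (e : H ≃* alternatingGroup (Fin 5)) {v : F}
    (hv : v ^ 2 - 3 * v + 1 = 0)
    (h : Dat ((e.symm a5a : H) : PGL(2, F)) ((e.symm a5b : H) : PGL(2, F)) v 1) :
    ∃ e' : H ≃* alternatingGroup (Fin 5),
      Dat ((e'.symm a5a : H) : PGL(2, F)) ((e'.symm a5b : H) : PGL(2, F)) (3 - v) 1 := by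
  obtain ⟨e', he'⟩ : ∃ e' : H ≃* alternatingGroup (Fin 5),
      e'.symm a5a * e'.symm a5b = (e.symm a5a * e.symm a5b) ^ 2 := by
    refine ⟨e.trans a5t.symm, ?_⟩
    rw [← map_mul, ← map_mul, ← map_pow, ← a5t_apply]
    rfl
  refine ⟨e', ?_⟩
  obtain ⟨v', hv', h'⟩ := dat_A5 e'
  have : v' = 3 - v := by
    apply h.five_two hv h'
    have := congrArg (Subtype.val) he'
    exact this
  rwa [this] at h'

end dat

variable {F : Type*} [Field F] [Finite F]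

theorem A4_conj (h2 : (2 : F) ≠ 0) {H H' : Subgroup PGL(2, F)} (e : H ≃* alternatingGroup (Fin 4))
    (e' : H' ≃* alternatingGroup (Fin 4)) : ∃ g : PGL(2, F), cj g H = H' := by
  have : Finite PGL(2, F) := finite_pgl
  obtain ⟨g, h3, h4⟩ := (dat_A4 e).conj h2 (dat_A4 e') (by
    intro h; apply h2; linear_combination -h)
  refine ⟨g, cj_eq_of_le (cj_le_of_gen (x := e.symm a4a) (y := e.symm a4b)
    (fun N ha hb => gen_A4 e ha hb) ?_ ?_) (by rw [card_A4 e, card_A4 e'])⟩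
  · rw [h3]; exact (e'.symm a4a).2
  · rw [h4]; exact (e'.symm a4b).2

theorem S4_conj (h2 : (2 : F) ≠ 0) {H H' : Subgroup PGL(2, F)} (e : H ≃* Equiv.Perm (Fin 4))
    (e' : H' ≃* Equiv.Perm (Fin 4)) : ∃ g : PGL(2, F), cj g H = H' := by
  have : Finite PGL(2, F) := finite_pgl
  obtain ⟨g, h3, h4⟩ := (dat_S4 h2 e).conj h2 (dat_S4 h2 e') (by
    intro h; apply h2; linear_combination -h)
  refine ⟨g, cj_eq_of_le (cj_le_of_gen (x := e.symm s4a) (y := e.symm s4b)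
    (fun N ha hb => gen_S4 e ha hb) ?_ ?_) (by rw [card_S4 e, card_S4 e'])⟩
  · rw [h3]; exact (e'.symm s4a).2
  · rw [h4]; exact (e'.symm s4b).2

theorem A5_nd {v : F} (hv : v ^ 2 - 3 * v + 1 = 0) : (1 : F) ^ 2 - 3 * v ≠ 0 := by
  intro h
  have h1 : v ^ 2 = 0 := by linear_combination hv - h
  have h3 : v = 0 := pow_eq_zero_iff two_ne_zero |>.1 h1
  rw [h3] at h
  apply one_ne_zero (α := F)
  linear_combination h

theorem A5_conj (h2 : (2 : F) ≠ 0) {H H' : Subgroup PGL(2, F)} (e : H ≃* alternatingGroup (Fin 5))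
    (e' : H' ≃* alternatingGroup (Fin 5)) : ∃ g : PGL(2, F), cj g H = H' := by
  have : Finite PGL(2, F) := finite_pgl
  obtain ⟨v, hv, h⟩ := dat_A5 e
  obtain ⟨v', hv', h'⟩ := dat_A5 e'
  obtain ⟨e'', h''⟩ : ∃ e'' : H' ≃* alternatingGroup (Fin 5),
      Dat ((e''.symm a5a : H') : PGL(2, F)) ((e''.symm a5b : H') : PGL(2, F)) v 1 := by
    have h3 : (v - v') * (v + v' - 3) = 0 := by linear_combination hv - hv'
    rcases mul_eq_zero.1 h3 with h4 | h4
    · exact ⟨e', by rw [sub_eq_zero.1 h4]; exact h'⟩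
    · obtain ⟨e'', h5⟩ := dat_A5_twist e' hv' h'
      refine ⟨e'', ?_⟩
      have : v = 3 - v' := by linear_combination h4
      rwa [this]
  obtain ⟨g, h3, h4⟩ := h.conj h2 h'' (A5_nd hv)
  refine ⟨g, cj_eq_of_le (cj_le_of_gen (x := e.symm a5a) (y := e.symm a5b)
    (fun N ha hb => gen_A5 e ha hb) ?_ ?_) (by rw [card_A5 e, card_A5 e'])⟩
  · rw [h3]; exact (e''.symm a5a).2
  · rw [h4]; exact (e''.symm a5b).2

theorem A4_rat (h2 : (2 : F) ≠ 0) (K0 : Subfield F) {H : Subgroup PGL(2, F)}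
    (e : H ≃* alternatingGroup (Fin 4)) : ∃ g : PGL(2, F), cj g H ≤ PGLs K0 := by
  obtain ⟨g, h3, h4⟩ := (dat_A4 e).rat h2 (K0 := K0) K0.one_mem (K0.neg_mem K0.one_mem) (by
    intro h; apply h2; linear_combination -h)
  exact ⟨g, cj_le_of_gen (x := e.symm a4a) (y := e.symm a4b)
    (fun N ha hb => gen_A4 e ha hb) h3 h4⟩

theorem S4_rat (h2 : (2 : F) ≠ 0) (K0 : Subfield F) {H : Subgroup PGL(2, F)}
    (e : H ≃* Equiv.Perm (Fin 4)) : ∃ g : PGL(2, F), cj g H ≤ PGLs K0 := by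
  have two_mem : (2 : F) ∈ K0 := ofNat_mem K0 2
  obtain ⟨g, h3, h4⟩ := (dat_S4 h2 e).rat h2 (K0 := K0) two_mem two_mem (by
    intro h; apply h2; linear_combination -h)
  exact ⟨g, cj_le_of_gen (x := e.symm s4a) (y := e.symm s4b)
    (fun N ha hb => gen_S4 e ha hb) h3 h4⟩

theorem A5_rat (h2 : (2 : F) ≠ 0) {H : Subgroup PGL(2, F)} (e : H ≃* alternatingGroup (Fin 5)) :
    ∃ v : F, v ^ 2 - 3 * v + 1 = 0 ∧ ∀ K0 : Subfield F, v ∈ K0 →
      ∃ g : PGL(2, F), cj g H ≤ PGLs K0 := by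
  obtain ⟨v, hv, h⟩ := dat_A5 e
  refine ⟨v, hv, ?_⟩
  intro K0 hK
  obtain ⟨g, h3, h4⟩ := h.rat h2 (K0 := K0) hK K0.one_mem (A5_nd hv)
  exact ⟨g, cj_le_of_gen (x := e.symm a5a) (y := e.symm a5b)
    (fun N ha hb => gen_A5 e ha hb) h3 h4⟩

/-- index of `PSL₂` in `PGL₂` of a subfield -/
theorem index_le_two {K0 : Subfield F} {L : Subgroup PGL(2, F)} (hL : L ≤ PGLs K0) :
    ((PSLs K0).subgroupOf L).index ∣ 2 := by
  have hfin : Finite PGL(2, F) := finite_pgl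
  have h1 : ((PSLs K0).subgroupOf (PGLs K0)).index ∣ 2 := by
    have h2 := card_PSLs K0
    have h3 := Subgroup.card_mul_index ((PSLs K0).subgroupOf (PGLs K0))
    have e1 : Nat.card ((PSLs K0).subgroupOf (PGLs K0)) = Nat.card (PSLs K0) :=
      Nat.card_congr (Subgroup.subgroupOfEquivOfLe (PSLs_le_PGLs K0)).toEquiv
    rw [e1, card_PGLs, ← h2, mul_comm] at h3
    have h4 : ((PSLs K0).subgroupOf (PGLs K0)).index = Nat.gcd 2 (Nat.card K0 - 1) :=
      Nat.eq_of_mul_eq_mul_right Nat.card_pos h3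
    rw [h4]; exact Nat.gcd_dvd_left _ _
  have hn : ((PSLs K0).subgroupOf (PGLs K0)).Normal := by
    have hr := PSLr_normal (F := K0)
    constructor
    rintro ⟨x, hx⟩ hx' ⟨g, hg⟩
    rw [Subgroup.mem_subgroupOf] at hx' ⊢
    obtain ⟨x0, hx0, rfl⟩ := hx'
    obtain ⟨g0, rfl⟩ := hg
    exact ⟨g0 * x0 * g0⁻¹, hr.conj_mem _ hx0 _, by simp⟩
  have h5 : ((PSLs K0).subgroupOf L).index = (PSLs K0).relIndex L := rfl
  rw [h5]
  have h6 : ((PSLs K0).subgroupOf (PGLs K0)).relIndex (L.subgroupOf (PGLs K0)) ∣ 2 :=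
    (Subgroup.relIndex_dvd_index_of_normal _ _).trans h1
  rwa [Subgroup.relIndex_subgroupOf hL] at h6

theorem A4_rat' (h2 : (2 : F) ≠ 0) (K0 : Subfield F) {H : Subgroup PGL(2, F)}
    (e : H ≃* alternatingGroup (Fin 4)) : ∃ g : PGL(2, F), cj g H ≤ PSLs K0 := by
  obtain ⟨g, hg⟩ := A4_rat h2 K0 e
  refine ⟨g, ?_⟩
  have h1 := index_le_two hg
  rcases (Nat.dvd_prime Nat.prime_two).1 h1 with h3 | h3
  · rw [Subgroup.index_eq_one, Subgroup.subgroupOf_eq_top] at h3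
    exact h3
  · exact absurd h3 (A4_no_index_two ((cjEquiv g H).symm.trans e) _)

theorem A5_no_index_two {G : Type*} [Group G] (e : G ≃* alternatingGroup (Fin 5)) (N : Subgroup G) :
    N.index ≠ 2 := by
  intro hi
  have : IsSimpleGroup (alternatingGroup (Fin 5)) := alternatingGroup.isSimpleGroup (by simp)
  have hs : IsSimpleGroup G := (MulEquiv.isSimpleGroup_congr e).2 inferInstance
  have hn : N.Normal := Subgroup.normal_of_index_eq_two hi
  rcases hn.eq_bot_or_eq_top with h | h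
  · rw [h, Subgroup.index_bot, card_A5 e] at hi
    omega
  · rw [h, Subgroup.index_top] at hi
    omega

theorem A5_rat' (h2 : (2 : F) ≠ 0) {H : Subgroup PGL(2, F)} (e : H ≃* alternatingGroup (Fin 5)) :
    ∃ v : F, v ^ 2 - 3 * v + 1 = 0 ∧ ∀ K0 : Subfield F, v ∈ K0 →
      ∃ g : PGL(2, F), cj g H ≤ PSLs K0 := by
  obtain ⟨v, hv, h⟩ := A5_rat h2 e
  refine ⟨v, hv, fun K0 hK => ?_⟩
  obtain ⟨g, hg⟩ := h K0 hK
  refine ⟨g, ?_⟩
  have h1 := index_le_two hg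
  rcases (Nat.dvd_prime Nat.prime_two).1 h1 with h3 | h3
  · rw [Subgroup.index_eq_one, Subgroup.subgroupOf_eq_top] at h3
    exact h3
  · exact absurd h3 (A5_no_index_two ((cjEquiv g H).symm.trans e) _)

end main

end Cfsg.Agent.Dk
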