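import Mathlib
import Cfsg.Agent.Dk.ExcConj
import Cfsg.Agent.S0804

/-! Small dihedral subgroups that are not maximal. -/

set_option autoImplicit false

namespace Cfsg.Agent.Dk

open MulAction Matrix LinearAlgebra.Projectivization Projectivization Subgroup
open scoped MatrixGroups
open H81 (pt0 pt1 ptz ptc)

section grp

/-- the first four points -/
def f45 : Fin 4 ≃ {x : Fin 5 // x.val < 4} where
  toFun i := ⟨i.castSucc, i.2⟩
  invFun x := ⟨x.1.1, x.2⟩
  left_inv _ := rfl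
  right_inv _ := rfl

/-- the embedding of `A4` in `A5` -/
noncomputable def a45 : alternatingGroup (Fin 4) →* alternatingGroup (Fin 5) :=
  MonoidHom.codRestrict
    ((Equiv.Perm.extendDomainHom f45).comp (alternatingGroup (Fin 4)).subtype)
      (alternatingGroup (Fin 5)) (by
    intro x
    rw [Equiv.Perm.mem_alternatingGroup]
    exact (Equiv.Perm.sign_extendDomain _ f45).trans x.2)

theorem a45_injective : Function.Injective a45 := by
  intro x y h
  apply Subtype.ext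
  exact Equiv.Perm.extendDomainHom_injective f45 (congrArg Subtype.val h)

/-- `A5` contains `A4` -/
theorem exists_A4_in_A5 {G : Type*} [Group G] {H : Subgroup G} (e : H ≃* alternatingGroup (Fin 5)) :
    ∃ H0 : Subgroup G, H0 ≤ H ∧ Nonempty (H0 ≃* alternatingGroup (Fin 4)) := by
  let f : alternatingGroup (Fin 4) →* G := H.subtype.comp (e.symm.toMonoidHom.comp a45)
  have hf : Function.Injective f :=
    H.subtype_injective.comp (e.symm.injective.comp a45_injective)
  refine ⟨f.range, ?_, ⟨(MonoidHom.ofInjective hf).symm⟩⟩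
  rintro _ ⟨x, rfl⟩
  exact (e.symm (a45 x)).2

variable {G : Type*} [Group G] [Finite G]

theorem sylow_conj {l k : ℕ} [hl : Fact l.Prime] {M R : Subgroup G} (hM : Nat.card M = l ^ k)
    (hG : ¬ l ^ (k + 1) ∣ Nat.card G) (hR : l ^ k ∣ Nat.card R) : ∃ g : G, M ≤ cj g R := by
  have hG0 : Nat.card G ≠ 0 := Nat.card_pos.ne'
  have hfac : (Nat.card G).factorization l = k := by
    apply le_antisymm
    · by_contra h
      push Not at h
      exact hG ((Nat.pow_dvd_pow l h).trans (Nat.ordProj_dvd _ _))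
    · rw [← hl.out.pow_dvd_iff_le_factorization hG0, ← hM]
      exact Subgroup.card_subgroup_dvd_card M
  obtain ⟨P, hP⟩ := Sylow.exists_subgroup_card_pow_prime (G := R) l hR
  have hP' : Nat.card (P.map R.subtype) = l ^ k := by
    rw [← hP]
    exact (Nat.card_congr (P.equivMapOfInjective _ R.subtype_injective).toEquiv).symm
  have key : ∀ Q : Subgroup G, Nat.card Q = l ^ k → ∃ S : Sylow l G, (S : Subgroup G) = Q :=
    fun Q hQ => ⟨Sylow.ofCard Q (by rw [hQ, hfac]), rfl⟩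
  obtain ⟨S, hS⟩ := key M hM
  obtain ⟨T, hT⟩ := key _ hP'
  obtain ⟨g, hg⟩ := MulAction.exists_smul_eq G T S
  refine ⟨g, ?_⟩
  rw [← hS, ← hg]
  have : (T : Subgroup G) ≤ R := by
    rw [hT]
    rintro _ ⟨x, -, rfl⟩
    exact x.2
  exact (cj_mono (g := g)).2 this

theorem not_coatom_sylow {l k : ℕ} [hl : Fact l.Prime] {M R : Subgroup G}
    (hM : Nat.card M = l ^ k) (hG : ¬ l ^ (k + 1) ∣ Nat.card G) (hR : l ^ k ∣ Nat.card R)
    (hR1 : Nat.card R ≠ l ^ k) (hR2 : Nat.card R ≠ Nat.card G) (hc : IsCoatom M) : False := by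
  obtain ⟨g, hg⟩ := sylow_conj hM hG hR
  rcases hc.le_iff.1 hg with h | h
  · apply hR2
    rw [← card_cj g R, h, Subgroup.card_top]
  · apply hR1
    rw [← card_cj g R, h, hM]

theorem not_coatom_normalizer {l : ℕ} [hl : Fact l.Prime] (hl2 : l ≠ 2) {T M R : Subgroup G}
    (hT : Nat.card T = l) (hTM : T ≤ M) (hM : Nat.card M = 2 * l)
    (hN : ∀ y ∈ T, y ≠ 1 → ∀ σ : G, σ * y * σ⁻¹ = y⁻¹ → σ ∈ M)
    (hG : ¬ l ^ 2 ∣ Nat.card G) {x τ : G} (hx : x ∈ R) (hτ : τ ∈ R) (hx1 : orderOf x = l)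
    (hτ2 : orderOf τ = 2) (hxτ : τ * x * τ⁻¹ = x⁻¹)
    (hR1 : Nat.card R ≠ 2 * l) (hR2 : Nat.card R ≠ Nat.card G) (hc : IsCoatom M) : False := by
  obtain ⟨g, hg⟩ := sylow_conj (l := l) (k := 1) (M := T) (R := Subgroup.zpowers x)
    (by rw [hT, pow_one]) hG (by rw [pow_one, Nat.card_zpowers, hx1])
  have hgT : T = cj g (Subgroup.zpowers x) := by
    apply Subgroup.eq_of_le_of_card_ge hg
    rw [card_cj, Nat.card_zpowers, hx1, hT]
  have hy : g * x * g⁻¹ ∈ T := by
    rw [hgT]; exact conj_mem_cj.2 (Subgroup.mem_zpowers x)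
  have hσ : g * τ * g⁻¹ ∈ M := by
    apply hN _ hy
    · intro h
      have : x = 1 := by
        have h1 : g * x * g⁻¹ = 1 := h
        rwa [conj_eq_one_iff] at h1
      rw [this, orderOf_one] at hx1
      exact hl.out.one_lt.ne hx1
    · calc g * τ * g⁻¹ * (g * x * g⁻¹) * (g * τ * g⁻¹)⁻¹ = g * (τ * x * τ⁻¹) * g⁻¹ := by group
        _ = (g * x * g⁻¹)⁻¹ := by rw [hxτ]; group
  have d1 : l ∣ Nat.card (M ⊓ cj g R : Subgroup G) := by
    have h1 : orderOf (g * x * g⁻¹) = l := by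
      rw [← hx1]; exact MulEquiv.orderOf_eq (MulAut.conj g) x
    rw [← h1]
    exact Subgroup.orderOf_dvd_natCard _ ⟨hTM hy, conj_mem_cj.2 hx⟩
  have d2 : 2 ∣ Nat.card (M ⊓ cj g R : Subgroup G) := by
    have h1 : orderOf (g * τ * g⁻¹) = 2 := by
      rw [← hτ2]; exact MulEquiv.orderOf_eq (MulAut.conj g) τ
    rw [← h1]
    exact Subgroup.orderOf_dvd_natCard _ ⟨hσ, conj_mem_cj.2 hτ⟩
  have d3 : 2 * l ∣ Nat.card (M ⊓ cj g R : Subgroup G) :=
    ((Nat.coprime_primes Nat.prime_two hl.out).2 hl2.symm).mul_dvd_of_dvd_of_dvd d2 d1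
  have h4 : M ⊓ cj g R = M := by
    apply Subgroup.eq_of_le_of_card_ge inf_le_left
    rw [hM]
    exact Nat.le_of_dvd Nat.card_pos d3
  have h5 : M ≤ cj g R := inf_eq_left.1 h4
  rcases hc.le_iff.1 h5 with h | h
  · apply hR2
    rw [← card_cj g R, h, Subgroup.card_top]
  · apply hR1
    rw [← card_cj g R, h, hM]

end grp

section mob

variable {p : ℕ} {Γ X K : Type*} [Group Γ] [MulAction Γ X] [Field K] (M : Mob p Γ X K)
include M

theorem Mob.normalizes {z w : X} (hzw : z ≠ w) {y : Γ} (hy : y ∈ TS Γ z w) (hy1 : y ≠ 1) {σ : Γ}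
    (hσ : σ * y * σ⁻¹ = y⁻¹) : σ ∈ DS Γ z w := by
  have key : ∀ x : X, y • x = x → y • (σ • x) = σ • x := by
    intro x hx
    have h1 : (σ * y * σ⁻¹) • (σ • x) = σ • x := by
      rw [mul_smul, inv_smul_smul, mul_smul, hx]
    rw [hσ, inv_smul_eq_iff] at h1
    exact h1.symm
  have h1 := M.mem_pair hzw hy hy1 (key z hy.1)
  have h2 := M.mem_pair hzw hy hy1 (key w hy.2)
  rcases h1 with h1 | h1
  · left
    refine ⟨h1, ?_⟩
    rcases h2 with h2 | h2
    · exact absurd (smul_left_cancel σ (h1.trans h2.symm)) hzw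
    · exact h2
  · right
    refine ⟨h1, ?_⟩
    rcases h2 with h2 | h2
    · exact h2
    · exact absurd (smul_left_cancel σ (h1.trans h2.symm)) hzw

end mob

end Cfsg.Agent.Dk
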