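import Mathlib
import Cfsg.Agent.Dk.SmallMax

/-! The maximal subgroups of `PSL₂(q)`, `q` odd. -/

set_option autoImplicit false

namespace Cfsg.Agent.Dk

open MulAction Matrix LinearAlgebra.Projectivization Projectivization Subgroup
open scoped MatrixGroups
open H81 (pt0 pt1 ptz ptc)

section exc

variable {F : Type*} [Field F] [Finite F] {p : ℕ} [hp : Fact p.Prime] [CharP F p]

theorem two_ne_of_odd (ho : Odd (Nat.card F)) : (2 : F) ≠ 0 := by
  intro h
  have : CharP F 2 := CharTwo.of_one_ne_zero_of_two_eq_zero one_ne_zero h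
  have h1 := char_dvd_card (F := F) Nat.prime_two
  exact (Nat.not_even_iff_odd.2 ho) (even_iff_two_dvd.2 h1)

theorem exists_prime_sub : ∃ K0 : Subfield F, Nat.card K0 = p := by
  have := Fintype.ofFinite F
  obtain ⟨n, -, hn⟩ := FiniteField.card F p
  obtain ⟨K0, h1, -⟩ := exists_subfield (F := F) (K := ZMod p) (r := n) n.one_le
    (by rw [ZMod.card, hn])
  exact ⟨K0, by rw [h1, ZMod.card]⟩

theorem char_odd (ho : Odd (Nat.card F)) : Odd p := by
  obtain ⟨c, hc⟩ := char_dvd_card (F := F) hp.out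
  rw [hc] at ho
  exact (Nat.odd_mul.1 ho).1

theorem card_psl_odd (ho : Odd (Nat.card F)) : 2 * Nat.card PSL(2, F) =
    Nat.card F * ((Nat.card F - 1) * (Nat.card F + 1)) := by
  have h := card_psl (F := F)
  rwa [gcd_odd ho] at h

theorem card_im (H : Subgroup PSL(2, F)) : Nat.card (im H) = Nat.card H :=
  (Nat.card_congr (imEquiv H).toEquiv).symm

theorem im_ne_of_card {H : Subgroup PSL(2, F)} (h : Nat.card H ≠ Nat.card PSL(2, F)) :
    im H ≠ PSLr F := by
  intro h1
  apply h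
  have h2 : H = ⊤ := im_injective (by rw [h1, im_top])
  rw [h2, Subgroup.card_top]

theorem cube_lt {a b : ℕ} (ha : 1 < a) (h : a ≤ b) : a * ((a - 1) * (a + 1)) ≤ b * ((b - 1) * (b + 1)) :=
  Nat.mul_le_mul h (Nat.mul_le_mul (by omega) (by omega))

theorem char_of_card_prime {r : ℕ} (hr : r.Prime) (h : Nat.card F = r) : r = p :=
  eq_char_of_prime hp.out hr (by rw [h])

theorem coatom_A4 (ho : Odd (Nat.card F)) (h5 : 5 ≤ Nat.card F) {M : Subgroup PSL(2, F)}
    (hM : IsCoatom M) (hp12 : ¬ p ∣ 12) (e : M ≃* alternatingGroup (Fin 4)) :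
    Nat.card F = p ∧ (p % 8 = 3 ∨ p % 8 = 5) ∧ ¬ (p % 10 = 1 ∨ p % 10 = 9) := by
  have := Fintype.ofFinite F
  have h2 := two_ne_of_odd ho
  have e' : im M ≃* alternatingGroup (Fin 4) := (imEquiv M).symm.trans e
  obtain ⟨K0, hK0⟩ := exists_prime_sub (F := F) (p := p)
  have hq : Nat.card F = p := by
    obtain ⟨g, hg⟩ := A4_rat' h2 K0 e'
    by_cases hK : K0 = ⊤
    · rw [← hK0, hK, card_top]
    · exfalso
      have h3 := coatom_cj hM hg (PSLs_le_PSLr K0) (PSLs_ne_PSLr hK)
      have h4 : Nat.card (PSLs K0) = 12 := by rw [← h3, card_cj, card_A4 e']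
      have h6 := card_PSLs_two K0 (odd_sub ho K0)
      rw [h4, card_PGLs, hK0] at h6
      have hp2 := hp.out.two_le
      by_cases h7 : 5 ≤ p
      · have := cube_lt (show 1 < 5 by norm_num) h7
        omega
      · interval_cases p
        · omega
        · exact hp12 (by norm_num)
        · omega
  have key : ∀ (R H0 : Subgroup PSL(2, F)), H0 ≤ R → Nonempty (H0 ≃* alternatingGroup (Fin 4)) →
      Nat.card R ≠ 12 → Nat.card R = Nat.card PSL(2, F) := by
    rintro R H0 hH0 ⟨e0⟩ hR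
    by_contra hne
    obtain ⟨g, hg⟩ := A4_conj h2 e' ((imEquiv H0).symm.trans e0)
    have h3 : cj g (im M) ≤ im R := by rw [hg, im_mono]; exact hH0
    have h4 := coatom_cj hM h3 (im_le R) (im_ne_of_card hne)
    apply hR
    rw [← card_im R, ← h4, card_cj, card_A4 e']
  have hodd := char_odd (F := F) (p := p) ho
  rw [Nat.odd_iff] at hodd
  have hp5 : 5 ≤ p := by rw [← hq]; exact h5
  have hcard := card_psl_odd ho
  rw [hq] at hcard
  refine ⟨hq, ?_, ?_⟩
  · by_contra h8
    obtain ⟨R, ⟨eR⟩⟩ := (Cfsg.Agent.S0803.result (F := F) (q := p)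
      (by rw [← Nat.card_eq_fintype_card, hq])).2 (by
        rw [Nat.pow_mod]
        have : p % 16 = 1 ∨ p % 16 = 7 ∨ p % 16 = 9 ∨ p % 16 = 15 := by omega
        rcases this with h | h | h | h <;> rw [h])
    obtain ⟨H0, hH0, he0⟩ := exists_A4_in_S4 eR
    have h9 := key R H0 hH0 he0 (by rw [card_S4 eR]; norm_num)
    rw [card_S4 eR] at h9
    rw [← h9] at hcard
    have h10 := cube_lt (show 1 < 5 by norm_num) hp5
    omega
  · intro h10
    obtain ⟨R, ⟨eR⟩⟩ := (Cfsg.Agent.S0804.result (F := F) (q := p)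
      (by rw [← Nat.card_eq_fintype_card, hq])).2 (by
        apply Dvd.dvd.mul_left
        have h4 : p ^ 2 % 5 = 1 := by
          rw [Nat.pow_mod]
          have : p % 5 = 1 ∨ p % 5 = 4 := by omega
          rcases this with h | h <;> rw [h]
        omega)
    obtain ⟨H0, hH0, he0⟩ := exists_A4_in_A5 eR
    have h9 := key R H0 hH0 he0 (by rw [card_A5 eR]; norm_num)
    rw [card_A5 eR] at h9
    rw [← h9] at hcard
    have h11 := cube_lt (show 1 < 9 by norm_num) (show 9 ≤ p by omega)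
    omega

/-- `PGL₂(K0) ∩ PSL₂(F)` for odd degree -/
theorem inf_odd (ho : Odd (Nat.card F)) {K0 : Subfield F} {n : ℕ}
    (hn : Nat.card K0 ^ n = Nat.card F) (hn1 : Odd n) : PGLs K0 ⊓ PSLr F = PSLs K0 := by
  have hfin : Finite PGL(2, F) := finite_pgl
  symm
  have hle : PSLs K0 ≤ PGLs K0 ⊓ PSLr F := le_inf (PSLs_le_PGLs K0) (PSLs_le_PSLr K0)
  apply Subgroup.eq_of_le_of_card_ge hle
  by_contra hlt
  push Not at hlt
  obtain ⟨a, ha⟩ := Subgroup.card_dvd_of_le hle
  have h1 : Nat.card (PGLs K0 ⊓ PSLr F : Subgroup PGL(2, F)) ≤ Nat.card (PGLs K0) :=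
    Nat.card_le_card_of_injective _ (Subgroup.inclusion_injective inf_le_left)
  have h2 := card_PSLs_two K0 (odd_sub ho K0)
  have hpos : 0 < Nat.card (PSLs K0) := Nat.card_pos
  have ha2 : 2 ≤ a := by
    rcases a with _ | _ | a
    · rw [ha] at hlt; omega
    · rw [ha] at hlt; omega
    · omega
  have h3 : Nat.card (PGLs K0) ≤ Nat.card (PGLs K0 ⊓ PSLr F : Subgroup PGL(2, F)) := by
    rw [← h2, ha, mul_comm]
    exact Nat.mul_le_mul_left _ ha2
  have h4 : PGLs K0 ⊓ PSLr F = PGLs K0 := Subgroup.eq_of_le_of_card_ge inf_le_left h3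
  have h5 : PGLs K0 ≤ PSLr F := inf_eq_left.1 h4
  exact (Nat.not_even_iff_odd.2 hn1) (even_of_PGLs_le ho hn h5)

theorem coatom_S4 (ho : Odd (Nat.card F)) {M : Subgroup PSL(2, F)}
    (hM : IsCoatom M) (hp24 : ¬ p ∣ 24) (e : M ≃* Equiv.Perm (Fin 4)) :
    Nat.card F = p ∧ (p % 8 = 1 ∨ p % 8 = 7) := by
  have := Fintype.ofFinite F
  have hfin : Finite PSL(2, F) := finite_psl
  have h2 := two_ne_of_odd ho
  have e' : im M ≃* Equiv.Perm (Fin 4) := (imEquiv M).symm.trans e
  obtain ⟨K0, hK0⟩ := exists_prime_sub (F := F) (p := p)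
  have hp2 := hp.out.two_le
  have hp5 : 5 ≤ p := by
    by_contra h
    push Not at h
    interval_cases p
    · exact hp24 (by norm_num)
    · exact hp24 (by norm_num)
    · exact absurd hp.out (by norm_num)
  have hbig := cube_lt (show 1 < 5 by norm_num) hp5
  have hq : Nat.card F = p := by
    obtain ⟨g, hg⟩ := S4_rat h2 K0 e'
    have hle : cj g (im M) ≤ PSLr F := by
      rw [← cj_PSLr g]; exact cj_mono.2 (im_le M)
    by_cases hK : K0 = ⊤
    · rw [← hK0, hK, card_top]
    · exfalso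
      obtain ⟨n, hn⟩ := exists_pow_card K0
      rcases Nat.even_or_odd n with hev | hod
      · have h3 := coatom_cj hM hg (PGLs_le_of_even hn hev) (PGLs_ne_PSLr hK)
        have h4 : Nat.card (PGLs K0) = 24 := by rw [← h3, card_cj, card_S4 e']
        rw [card_PGLs, hK0] at h4
        omega
      · have h3 := coatom_cj hM (L := PSLs K0) (by rw [← inf_odd ho hn hod]; exact le_inf hg hle)
          (PSLs_le_PSLr K0) (PSLs_ne_PSLr hK)
        have h4 : Nat.card (PSLs K0) = 24 := by rw [← h3, card_cj, card_S4 e']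
        have h6 := card_PSLs_two K0 (odd_sub ho K0)
        rw [h4, card_PGLs, hK0] at h6
        omega
  refine ⟨hq, ?_⟩
  have hodd := char_odd (F := F) (p := p) ho
  rw [Nat.odd_iff] at hodd
  have hcard := card_psl_odd ho
  rw [hq] at hcard
  have hdvd : 24 ∣ Nat.card PSL(2, F) := by
    rw [← card_S4 e]; exact Subgroup.card_subgroup_dvd_card M
  obtain ⟨k, hk⟩ := hdvd
  rw [hk] at hcard
  have h16 : 16 ∣ p * ((p - 1) * (p + 1)) := ⟨3 * k, by rw [← hcard]; ring⟩
  have hcop : Nat.Coprime 16 p := by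
    have : Nat.Coprime 2 p := (Nat.coprime_two_left).2 (Nat.odd_iff.2 hodd)
    exact Nat.Coprime.pow_left 4 this
  have h17 := hcop.dvd_of_dvd_mul_left h16
  by_contra hcon
  have h8 : p % 8 = 3 ∨ p % 8 = 5 := by omega
  rcases h8 with h8 | h8
  · obtain ⟨s, hs⟩ : ∃ s, p = 8 * s + 3 := ⟨p / 8, by omega⟩
    have e1 : (p - 1) * (p + 1) = 8 * ((4 * s + 1) * (2 * s + 1)) := by
      rw [hs, show 8 * s + 3 - 1 = 8 * s + 2 by omega]; ring
    rw [e1] at h17
    have h18 : 2 ∣ (4 * s + 1) * (2 * s + 1) := by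
      obtain ⟨c, hc⟩ := h17
      exact ⟨c, by omega⟩
    rcases (Nat.prime_two.dvd_mul).1 h18 with h | h <;> omega
  · obtain ⟨s, hs⟩ : ∃ s, p = 8 * s + 5 := ⟨p / 8, by omega⟩
    have e1 : (p - 1) * (p + 1) = 8 * ((2 * s + 1) * (4 * s + 3)) := by
      rw [hs, show 8 * s + 5 - 1 = 8 * s + 4 by omega]; ring
    rw [e1] at h17
    have h18 : 2 ∣ (2 * s + 1) * (4 * s + 3) := by
      obtain ⟨c, hc⟩ := h17
      exact ⟨c, by omega⟩
    rcases (Nat.prime_two.dvd_mul).1 h18 with h | h <;> omega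

theorem coatom_A5 (ho : Odd (Nat.card F)) {M : Subgroup PSL(2, F)}
    (hM : IsCoatom M) (hp60 : ¬ p ∣ 60 ∨ p = 3) (e : M ≃* alternatingGroup (Fin 5)) :
    (Nat.card F % 10 = 1 ∨ Nat.card F % 10 = 9) ∧
        (Nat.card F = p ∨ (Nat.card F = p ^ 2 ∧ (p % 10 = 3 ∨ p % 10 = 7))) := by
  have := Fintype.ofFinite F
  have hfin : Finite PSL(2, F) := finite_psl
  have h2 := two_ne_of_odd ho
  have e' : im M ≃* alternatingGroup (Fin 5) := (imEquiv M).symm.trans e
  obtain ⟨K0, hK0⟩ := exists_prime_sub (F := F) (p := p)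
  obtain ⟨n, hn⟩ := exists_pow_card K0
  have hp2 := hp.out.two_le
  have hodd := char_odd (F := F) (p := p) ho
  rw [Nat.odd_iff] at hodd
  have hp5 : p ≠ 5 := by
    rintro rfl
    rcases hp60 with h | h
    · exact h (by norm_num)
    · omega
  have hn0 : n ≠ 0 := by
    rintro rfl
    rw [pow_zero] at hn
    have := Finite.one_lt_card (α := F); omega
  have hcard := card_psl_odd ho
  have hq5 : ¬ 5 ∣ Nat.card F := by
    intro h
    exact hp5 (eq_char_of_prime hp.out Nat.prime_five h).symm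
  refine ⟨?_, ?_⟩
  · have hdvd : 60 ∣ Nat.card PSL(2, F) := by
      rw [← card_A5 e]; exact Subgroup.card_subgroup_dvd_card M
    obtain ⟨k, hk⟩ := hdvd
    rw [hk] at hcard
    have h5 : 5 ∣ Nat.card F * ((Nat.card F - 1) * (Nat.card F + 1)) :=
      ⟨24 * k, by rw [← hcard]; ring⟩
    have hF1 := Finite.one_lt_card (α := F)
    rw [Nat.odd_iff] at ho
    rcases (Nat.prime_five.dvd_mul).1 h5 with h | h
    · exact absurd h hq5
    · rcases (Nat.prime_five.dvd_mul).1 h with h | h <;> omega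
  · obtain ⟨v, hv, hrat⟩ := A5_rat' h2 e'
    -- Frobenius
    have hvp : v ^ p = v ∨ v ^ p = 3 - v := by
      have h3 : (v ^ p) ^ 2 - 3 * v ^ p + 1 = 0 := by
        have h4 := congrArg (frobenius F p) hv
        rw [map_add, map_sub, map_mul, map_pow, map_zero, map_one, frobenius_def, map_ofNat] at h4
        exact h4
      have h4 : (v ^ p - v) * (v ^ p + v - 3) = 0 := by linear_combination h3 - hv
      rcases mul_eq_zero.1 h4 with h5 | h5
      · exact Or.inl (sub_eq_zero.1 h5)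
      · exact Or.inr (by linear_combination h5)
    by_cases hvK : v ^ p = v
    · left
      have hmem : v ∈ K0 := mem_of_pow_card (by rw [hK0]; exact hvK)
      obtain ⟨g, hg⟩ := hrat K0 hmem
      by_cases hK : K0 = ⊤
      · rw [← hK0, hK, card_top]
      · exfalso
        have h3 := coatom_cj hM hg (PSLs_le_PSLr K0) (PSLs_ne_PSLr hK)
        have h4 : Nat.card (PSLs K0) = 60 := by rw [← h3, card_cj, card_A5 e']
        have h6 := card_PSLs_two K0 (odd_sub ho K0)
        rw [h4, card_PGLs, hK0] at h6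
        rcases (show p = 3 ∨ 7 ≤ p by omega) with h7 | h7
        · rw [h7] at h6; norm_num at h6
        · have := cube_lt (show 1 < 7 by norm_num) h7
          omega
    · right
      have hvp' : v ^ p = 3 - v := hvp.resolve_left hvK
      have hvpp : v ^ (p ^ 2) = v := by
        rw [pow_two, pow_mul, hvp']
        have h4 : (3 - v) ^ p = 3 - v ^ p := by
          have h5 := map_sub (frobenius F p) 3 v
          rw [map_ofNat, frobenius_def, frobenius_def] at h5
          exact h5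
        rw [h4, hvp']; ring
      have hpow : ∀ m : ℕ, v ^ (p ^ (2 * m)) = v := by
        intro m
        induction m with
        | zero => simp
        | succ m ih =>
          rw [show 2 * (m + 1) = 2 * m + 2 by ring, pow_add, pow_mul, ih, hvpp]
      have hneven : Even n := by
        by_contra hno
        rw [Nat.not_even_iff_odd] at hno
        obtain ⟨m, hm⟩ := hno
        apply hvK
        have h3 : v ^ (Nat.card F) = v := by
          rw [Nat.card_eq_fintype_card]; exact FiniteField.pow_card v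
        rw [← hn, hK0, hm, pow_succ, pow_mul, hpow] at h3
        exact h3
      obtain ⟨m, hm⟩ := hneven
      obtain ⟨K2, h02, hK2⟩ := exists_between (K0 := K0) (m := n) (r := m) hn ⟨2, by omega⟩
      have hK2c : Nat.card K2 = p ^ 2 := by
        rw [← hn, hK0, hm, ← mul_two, mul_comm, pow_mul] at hK2
        exact Nat.pow_left_injective (show m ≠ 0 by omega) hK2
      have hmem : v ∈ K2 := mem_of_pow_card (by rw [hK2c]; exact hvpp)
      obtain ⟨g, hg⟩ := hrat K2 hmem
      refine ⟨?_, ?_⟩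
      · by_cases hK : K2 = ⊤
        · rw [← hK2c, hK, card_top]
        · exfalso
          have h3 := coatom_cj hM hg (PSLs_le_PSLr K2) (PSLs_ne_PSLr hK)
          have h4 : Nat.card (PSLs K2) = 60 := by rw [← h3, card_cj, card_A5 e']
          have h6 := card_PSLs_two K2 (odd_sub ho K2)
          rw [h4, card_PGLs, hK2c] at h6
          have h9 : 9 ≤ p ^ 2 := by
            calc 9 = 3 ^ 2 := by norm_num
              _ ≤ p ^ 2 := Nat.pow_le_pow_left (by omega) 2
          have := cube_lt (show 1 < 9 by norm_num) h9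
          omega
      · by_contra hcon
        have h10 : p % 10 = 1 ∨ p % 10 = 9 := by
          have : p % 10 ≠ 5 := by
            intro h
            apply hp5
            have h5 : 5 ∣ p := by omega
            exact ((Nat.prime_dvd_prime_iff_eq Nat.prime_five hp.out).1 h5).symm
          omega
        have := Fintype.ofFinite K0
        obtain ⟨R, ⟨eR⟩⟩ := (Cfsg.Agent.S0804.result (F := K0) (q := p)
          (by rw [← Nat.card_eq_fintype_card, hK0])).2 (by
            apply Dvd.dvd.mul_left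
            have h4 : p ^ 2 % 5 = 1 := by
              rw [Nat.pow_mod]
              have : p % 5 = 1 ∨ p % 5 = 4 := by omega
              rcases this with h | h <;> rw [h]
            omega)
        obtain ⟨w, hw, -⟩ := dat_A5 ((imEquiv R).symm.trans eR)
        have hw' : (w : F) ^ 2 - 3 * (w : F) + 1 = 0 := by
          have := congrArg K0.subtype hw
          have h3c : K0.subtype (3 : K0) = 3 := map_ofNat K0.subtype 3
          simp only [map_add, map_mul, map_pow, map_sub, h3c, map_one, map_zero] at this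
          exact this
        have h4 : (v - w) * (v + w - 3) = 0 := by linear_combination hv - hw'
        have hvK0 : v ∈ K0 := by
          rcases mul_eq_zero.1 h4 with h5 | h5
          · rw [sub_eq_zero.1 h5]; exact w.2
          · have : v = 3 - w := by linear_combination h5
            rw [this]
            exact K0.sub_mem (ofNat_mem K0 3) w.2
        apply hvK
        have := pow_card_pow hvK0 1
        rwa [pow_one, hK0] at this

end exc

section words

theorem s4_inv : (Equiv.swap 0 1 : Equiv.Perm (Fin 4)) * s4b * (Equiv.swap 0 1)⁻¹ = s4b⁻¹ ∧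
    (Equiv.swap 0 1 : Equiv.Perm (Fin 4)) ^ 2 = 1 ∧ (Equiv.swap 0 1 : Equiv.Perm (Fin 4)) ≠ 1 := by
  decide +kernel

def a5w : alternatingGroup (Fin 5) := ⟨Equiv.swap 1 4 * Equiv.swap 2 3, by
  rw [Equiv.Perm.mem_alternatingGroup]; decide⟩

theorem a5_inv : a5w * (a5a * a5b) * a5w⁻¹ = (a5a * a5b)⁻¹ ∧ a5w ^ 2 = 1 ∧ a5w ≠ 1 := by
  decide +kernel

variable {G : Type*} [Group G]

theorem exists_inv_S4 {R : Subgroup G} (e : R ≃* Equiv.Perm (Fin 4)) : ∃ x ∈ R, ∃ τ ∈ R,
    orderOf x = 3 ∧ orderOf τ = 2 ∧ τ * x * τ⁻¹ = x⁻¹ := by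
  obtain ⟨h1, h2, h3⟩ := s4_inv
  obtain ⟨-, -, h4, h5, -, -⟩ := s4_rel
  have : Fact (Nat.Prime 3) := ⟨Nat.prime_three⟩
  have : Fact (Nat.Prime 2) := ⟨Nat.prime_two⟩
  refine ⟨e.symm s4b, (e.symm s4b).2, e.symm (Equiv.swap 0 1), (e.symm _).2, ?_, ?_, ?_⟩
  · exact orderOf_eq_prime (pow_coe (by rw [← map_pow, h5, map_one]))
      (ne_one_coe (by rwa [Ne, EmbeddingLike.map_eq_one_iff]))
  · exact orderOf_eq_prime (pow_coe (by rw [← map_pow, h2, map_one]))
      (ne_one_coe (by rwa [Ne, EmbeddingLike.map_eq_one_iff]))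
  · have := congrArg (fun z => ((e.symm z : R) : G)) h1
    simpa only [map_mul, map_inv, Subgroup.coe_mul, Subgroup.coe_inv] using this

theorem exists_inv_A5 {R : Subgroup G} (e : R ≃* alternatingGroup (Fin 5)) : ∃ x ∈ R, ∃ τ ∈ R,
    orderOf x = 5 ∧ orderOf τ = 2 ∧ τ * x * τ⁻¹ = x⁻¹ := by
  obtain ⟨h1, h2, h3⟩ := a5_inv
  obtain ⟨-, -, -, -, h4, h5⟩ := a5_rel
  have : Fact (Nat.Prime 5) := ⟨Nat.prime_five⟩
  have : Fact (Nat.Prime 2) := ⟨Nat.prime_two⟩
  refine ⟨e.symm (a5a * a5b), (e.symm _).2, e.symm a5w, (e.symm _).2, ?_, ?_, ?_⟩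
  · exact orderOf_eq_prime (pow_coe (by rw [← map_pow, h5, map_one]))
      (ne_one_coe (by rwa [Ne, EmbeddingLike.map_eq_one_iff]))
  · exact orderOf_eq_prime (pow_coe (by rw [← map_pow, h2, map_one]))
      (ne_one_coe (by rwa [Ne, EmbeddingLike.map_eq_one_iff]))
  · have := congrArg (fun z => ((e.symm z : R) : G)) h1
    simpa only [map_mul, map_inv, Subgroup.coe_mul, Subgroup.coe_inv] using this

end words

section list

variable {F : Type*} [Field F] [Finite F]

attribute [local instance 10] sact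

/-- the small dihedral groups are not maximal -/
theorem small_dih (ho : Odd (Nat.card F)) {K : Type*} [Field K] [Algebra F K] {p : ℕ}
    [CharP K p] [IsAlgClosed K] [Fact p.Prime] {z w : ℙ K (Fin 2 → K)} (hzw : z ≠ w)
    {s : PSL(2, F)} (hs1 : s • z = w) (hs2 : s • w = z)
    (hM : IsCoatom (DS PSL(2, F) z w))
    (h : (2 * Nat.card (TS PSL(2, F) z w) = Nat.card F - 1 ∧
      (Nat.card F = 5 ∨ Nat.card F = 7 ∨ Nat.card F = 9 ∨ Nat.card F = 11)) ∨
      (2 * Nat.card (TS PSL(2, F) z w) = Nat.card F + 1 ∧ (Nat.card F = 7 ∨ Nat.card F = 9))) :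
    False := by
  have := Fintype.ofFinite F
  have hfin : Finite PSL(2, F) := finite_psl
  have hD := ((mobS (p := p) (F := F) (K := K)).DS_dihedral hzw hs1 hs2).2
  have hcard := card_psl_odd ho
  have : Fact (Nat.Prime 3) := ⟨Nat.prime_three⟩
  have : Fact (Nat.Prime 5) := ⟨Nat.prime_five⟩
  have : Fact (Nat.Prime 2) := ⟨Nat.prime_two⟩
  have hN : ∀ y ∈ TS PSL(2, F) z w, y ≠ 1 → ∀ σ : PSL(2, F), σ * y * σ⁻¹ = y⁻¹ →
      σ ∈ DS PSL(2, F) z w := fun y hy hy1 σ hσ =>
    (mobS (p := p) (F := F) (K := K)).normalizes hzw hy hy1 hσ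
  have hS4 : Nat.card F = 7 ∨ Nat.card F = 9 → ∃ R : Subgroup PSL(2, F),
      Nonempty (R ≃* Equiv.Perm (Fin 4)) := by
    intro hq
    refine (Cfsg.Agent.S0803.result (F := F) (q := Nat.card F)
      (Nat.card_eq_fintype_card).symm).2 ?_
    rcases hq with hq | hq <;> rw [hq] <;> norm_num
  have hA5 : Nat.card F = 9 ∨ Nat.card F = 11 → ∃ R : Subgroup PSL(2, F),
      Nonempty (R ≃* alternatingGroup (Fin 5)) := by
    intro hq
    refine (Cfsg.Agent.S0804.result (F := F) (q := Nat.card F)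
      (Nat.card_eq_fintype_card).symm).2 ?_
    rcases hq with hq | hq <;> rw [hq] <;> norm_num
  rcases h with ⟨h1, h | h | h | h⟩ | ⟨h1, h | h⟩
  · -- q = 5
    rw [h] at h1 hcard
    have hT : Nat.card (TS PSL(2, F) z w) = 2 := by omega
    rw [hT] at hD
    have hG : Nat.card PSL(2, F) = 60 := by omega
    have hc5 : CharP F 5 := by
      obtain ⟨l, hl, hc⟩ := exists_char (F := F)
      have : 5 = l := eq_char_of_prime hl Nat.prime_five (by rw [h])
      rw [this]; exact hc
    obtain ⟨R, ⟨e⟩⟩ := (Cfsg.Agent.S0802.result (F := F) 5 1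
      (by rw [← Nat.card_eq_fintype_card, h]; rfl)).2 (by omega)
    have hR := card_A4 e
    exact not_coatom_sylow (l := 2) (k := 2) (R := R) (by rw [hD]; norm_num) (by rw [hG]; norm_num)
      (by rw [hR]; norm_num) (by rw [hR]; norm_num) (by rw [hR, hG]; norm_num) hM
  · -- q = 7
    rw [h] at h1 hcard
    have hT : Nat.card (TS PSL(2, F) z w) = 3 := by omega
    rw [hT] at hD
    have hG : Nat.card PSL(2, F) = 168 := by omega
    obtain ⟨R, ⟨e⟩⟩ := hS4 (Or.inl h)
    have hR := card_S4 e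
    obtain ⟨x, hx, τ, hτ, h3, h4, h5⟩ := exists_inv_S4 e
    exact not_coatom_normalizer (l := 3) (by norm_num) hT (TS_le_DS z w) hD hN
      (by rw [hG]; norm_num) hx hτ h3 h4 h5 (by rw [hR]; norm_num) (by rw [hR, hG]; norm_num) hM
  · -- q = 9
    rw [h] at h1 hcard
    have hT : Nat.card (TS PSL(2, F) z w) = 4 := by omega
    rw [hT] at hD
    have hG : Nat.card PSL(2, F) = 360 := by omega
    obtain ⟨R, ⟨e⟩⟩ := hS4 (Or.inr h)
    have hR := card_S4 e
    exact not_coatom_sylow (l := 2) (k := 3) (R := R) (by rw [hD]; norm_num) (by rw [hG]; norm_num)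
      (by rw [hR]; norm_num) (by rw [hR]; norm_num) (by rw [hR, hG]; norm_num) hM
  · -- q = 11
    rw [h] at h1 hcard
    have hT : Nat.card (TS PSL(2, F) z w) = 5 := by omega
    rw [hT] at hD
    have hG : Nat.card PSL(2, F) = 660 := by omega
    obtain ⟨R, ⟨e⟩⟩ := hA5 (Or.inr h)
    have hR := card_A5 e
    obtain ⟨x, hx, τ, hτ, h3, h4, h5⟩ := exists_inv_A5 e
    exact not_coatom_normalizer (l := 5) (by norm_num) hT (TS_le_DS z w) hD hN
      (by rw [hG]; norm_num) hx hτ h3 h4 h5 (by rw [hR]; norm_num) (by rw [hR, hG]; norm_num) hM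
  · -- q = 7
    rw [h] at h1 hcard
    have hT : Nat.card (TS PSL(2, F) z w) = 4 := by omega
    rw [hT] at hD
    have hG : Nat.card PSL(2, F) = 168 := by omega
    obtain ⟨R, ⟨e⟩⟩ := hS4 (Or.inl h)
    have hR := card_S4 e
    exact not_coatom_sylow (l := 2) (k := 3) (R := R) (by rw [hD]; norm_num) (by rw [hG]; norm_num)
      (by rw [hR]; norm_num) (by rw [hR]; norm_num) (by rw [hR, hG]; norm_num) hM
  · -- q = 9
    rw [h] at h1 hcard
    have hT : Nat.card (TS PSL(2, F) z w) = 5 := by omega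
    rw [hT] at hD
    have hG : Nat.card PSL(2, F) = 360 := by omega
    obtain ⟨R, ⟨e⟩⟩ := hA5 (Or.inl h)
    have hR := card_A5 e
    obtain ⟨x, hx, τ, hτ, h3, h4, h5⟩ := exists_inv_A5 e
    exact not_coatom_normalizer (l := 5) (by norm_num) hT (TS_le_DS z w) hD hN
      (by rw [hG]; norm_num) hx hτ h3 h4 h5 (by rw [hR]; norm_num) (by rw [hR, hG]; norm_num) hM

theorem list_odd {p : ℕ} [hp : Fact p.Prime] [CharP F p] (ho : Odd (Nat.card F))
    (h5 : 5 ≤ Nat.card F) {M : Subgroup PSL(2, F)} (hM : IsCoatom M) :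
    2 * Nat.card M = Nat.card F * (Nat.card F - 1) ∨
    (13 ≤ Nat.card F ∧ (∃ k : ℕ, 2 * k = Nat.card F - 1 ∧ Nonempty (M ≃* DihedralGroup k))) ∨
    (Nat.card F ≠ 7 ∧ Nat.card F ≠ 9 ∧
      (∃ k : ℕ, 2 * k = Nat.card F + 1 ∧ Nonempty (M ≃* DihedralGroup k))) ∨
    (∃ (F₀ : Type) (_ : Field F₀) (_ : Fintype F₀), Nat.card F = Fintype.card F₀ ^ 2 ∧
        Nonempty (M ≃* PGL(2, F₀))) ∨
    (∃ (F₀ : Type) (_ : Field F₀) (_ : Fintype F₀) (r : ℕ), r.Prime ∧ Odd r ∧
        Nat.card F = Fintype.card F₀ ^ r ∧ Nonempty (M ≃* PSL(2, F₀))) ∨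
    ((Nat.card F % 10 = 1 ∨ Nat.card F % 10 = 9) ∧
        (Nat.card F = p ∨ (Nat.card F = p ^ 2 ∧ (p % 10 = 3 ∨ p % 10 = 7))) ∧
        Nonempty (M ≃* alternatingGroup (Fin 5))) ∨
    (Nat.card F = p ∧ (p % 8 = 3 ∨ p % 8 = 5) ∧ ¬ (p % 10 = 1 ∨ p % 10 = 9) ∧
        Nonempty (M ≃* alternatingGroup (Fin 4))) ∨
    (Nat.card F = p ∧ (p % 8 = 1 ∨ p % 8 = 7) ∧ Nonempty (M ≃* Equiv.Perm (Fin 4))) := by
  have : CharP (AlgebraicClosure F) p :=
    charP_of_injective_algebraMap (algebraMap F (AlgebraicClosure F)).injective p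
  have hfin : Finite PSL(2, F) := finite_psl
  have ht : 2 * (mobS (p := p) (F := F) (K := AlgebraicClosure F)).t
      (pt0 (AlgebraicClosure F)) = Nat.card F - 1 := by
    have := t_psl (F := F) (K := AlgebraicClosure F) (p := p)
    rwa [gcd_odd ho] at this
  have ho2 := Nat.odd_iff.1 ho
  rcases (ambS (F := F) (K := AlgebraicClosure F)).coatoms (p := p) (by omega) hM with
    ⟨z, hz, h1, h2⟩ | ⟨z, w, h1, h2, ⟨s, hs1, hs2⟩, h3⟩ | ⟨h1, -, ⟨e⟩⟩ | ⟨h1, -, ⟨e⟩⟩ |
      ⟨h1, -, ⟨e⟩⟩ | ⟨g, K1, h1, h2⟩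
  · left
    have h2' : Nat.card M = Nat.card F * (mobS (p := p) (F := F) (K := AlgebraicClosure F)).t
      (pt0 (AlgebraicClosure F)) := h2
    rw [h2', ← ht]; ring
  · right
    have hD := (mobS (p := p) (F := F) (K := AlgebraicClosure F)).DS_dihedral h1 hs1 hs2
    rcases h3 with ⟨-, -, h3⟩ | ⟨-, h3⟩
    · left
      have e : 2 * Nat.card (TS PSL(2, F) z w) = Nat.card F - 1 := by
        have h3' : Nat.card (TS PSL(2, F) z w) =
          (mobS (p := p) (F := F) (K := AlgebraicClosure F)).t (pt0 (AlgebraicClosure F)) := h3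
        rw [h3', ht]
      refine ⟨?_, Nat.card (TS PSL(2, F) z w), e, by rw [h2]; exact hD.1⟩
      by_contra hlt
      rw [h2] at hM
      exact small_dih ho h1 hs1 hs2 hM (Or.inl ⟨e, by omega⟩)
    · right; left
      have e : 2 * Nat.card (TS PSL(2, F) z w) = Nat.card F + 1 := by
        have h4' : Nat.card (TS PSL(2, F) z w) * (Nat.card F - 1) =
            (Nat.card F + 1) * (mobS (p := p) (F := F) (K := AlgebraicClosure F)).t
              (pt0 (AlgebraicClosure F)) := h3
        rw [← ht] at h4'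
        have hpos : 0 < (mobS (p := p) (F := F) (K := AlgebraicClosure F)).t
              (pt0 (AlgebraicClosure F)) := by omega
        apply Nat.eq_of_mul_eq_mul_right hpos
        rw [← h4']; ring
      refine ⟨?_, ?_, Nat.card (TS PSL(2, F) z w), e, by rw [h2]; exact hD.1⟩
      · intro hq
        rw [h2] at hM
        exact small_dih ho h1 hs1 hs2 hM (Or.inr ⟨e, Or.inl hq⟩)
      · intro hq
        rw [h2] at hM
        exact small_dih ho h1 hs1 hs2 hM (Or.inr ⟨e, Or.inr hq⟩)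
  · right; right; right; right; right; right; left
    obtain ⟨h2, h3, h4⟩ := coatom_A4 ho h5 hM h1 e
    exact ⟨h2, h3, h4, ⟨e⟩⟩
  · right; right; right; right; right; right; right
    obtain ⟨h2, h3⟩ := coatom_S4 ho hM h1 e
    exact ⟨h2, h3, ⟨e⟩⟩
  · right; right; right; right; right; left
    obtain ⟨h2, h3⟩ := coatom_A5 ho hM h1 e
    exact ⟨h2, h3, ⟨e⟩⟩
  · obtain ⟨k, _, _, ⟨e⟩, hk⟩ := exists_type_copy K1
    have hk' : Fintype.card k = Nat.card K1 := hk
    rcases coatom_sub_odd ho hM h2 with ⟨h3, h4⟩ | ⟨h3, r, hr, hr2, h4⟩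
    · right; right; right; left
      exact ⟨k, inferInstance, inferInstance, by rw [hk', h4], pgl_equiv_of_cj h3 e⟩
    · right; right; right; right; left
      exact ⟨k, inferInstance, inferInstance, r, hr, hr2, by rw [hk', h4], psl_equiv_of_cj h3 e⟩

end list

end Cfsg.Agent.Dk
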