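import Mathlib
import Cfsg.Agent.Dk.ListOdd

/-! The maximal subgroups of `PGL₂(q)` not containing `PSL₂(q)`. -/

set_option autoImplicit false

namespace Cfsg.Agent.Dk

open MulAction Matrix LinearAlgebra.Projectivization Projectivization Subgroup
open scoped MatrixGroups
open H81 (pt0 pt1 ptz ptc)

section pgl

variable {F : Type*} [Field F] [Finite F]

theorem PSLr_ne_top (ho : Odd (Nat.card F)) : PSLr F ≠ ⊤ := by
  intro h1
  have h2 := card_PSLr (F := F)
  rw [gcd_odd ho, h1, Subgroup.card_top, card_pgl] at h2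
  have h3 : 0 < Nat.card F * ((Nat.card F - 1) * (Nat.card F + 1)) := by
    rw [← card_pgl]; exact Nat.card_pos
  omega

/-- a subgroup without a subgroup of index two lies in `PSL₂` -/
theorem le_PSLr_of_no_index_two {H : Subgroup PGL(2, F)} (h : ∀ N : Subgroup H, N.index ≠ 2) :
    H ≤ PSLr F := by
  have h1 := index_le_two (K0 := (⊤ : Subfield F)) (L := H) (by rw [PGLs_top]; exact le_top)
  rw [PSLs_top] at h1
  rcases (Nat.dvd_prime Nat.prime_two).1 h1 with h3 | h3
  · rwa [Subgroup.index_eq_one, Subgroup.subgroupOf_eq_top] at h3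
  · exact absurd h3 (h _)

theorem coatom_not_le (ho : Odd (Nat.card F)) {M : Subgroup PGL(2, F)} (hM : IsCoatom M)
    (hML : ¬ PSLr F ≤ M) : ¬ M ≤ PSLr F := by
  intro h
  rcases hM.le_iff.1 h with h1 | h1
  · exact PSLr_ne_top ho h1
  · exact hML h1.le

theorem pgl_S4 (ho : Odd (Nat.card F)) {p : ℕ} [hp : Fact p.Prime] [CharP F p]
    {M : Subgroup PGL(2, F)} (hM : IsCoatom M) (hML : ¬ PSLr F ≤ M) (hp24 : ¬ p ∣ 24)
    (e : M ≃* Equiv.Perm (Fin 4)) : Nat.card F = p ∧ (p % 8 = 3 ∨ p % 8 = 5) := by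
  have := Fintype.ofFinite F
  have h2 := two_ne_of_odd ho
  obtain ⟨K0, hK0⟩ := exists_prime_sub (F := F) (p := p)
  have hp2 := hp.out.two_le
  have hp5 : 5 ≤ p := by
    by_contra h
    push Not at h
    interval_cases p
    · exact hp24 (by norm_num)
    · exact hp24 (by norm_num)
    · exact absurd hp.out (by norm_num)
  have hbig := cube_lt (show 1 < 5 by norm_num) hp5
  have hq : Nat.card F = p := by
    obtain ⟨g, hg⟩ := S4_rat h2 K0 e
    by_cases hK : K0 = ⊤
    · rw [← hK0, hK, card_top]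
    · exfalso
      have hK2t : PGLs K0 ≠ ⊤ := by
        intro h1
        have h2 := card_top_gt hK
        rw [h1] at h2
        have h3 : Nat.card (PSLr F) ≤ Nat.card (⊤ : Subgroup PGL(2, F)) :=
          Nat.card_le_card_of_injective _ (Subgroup.inclusion_injective le_top)
        omega
      have h3 := coatom_cj_pgl hM hg hK2t
      have h4 : Nat.card (PGLs K0) = 24 := by rw [← h3, card_cj, card_S4 e]
      rw [card_PGLs, hK0] at h4
      omega
  refine ⟨hq, ?_⟩
  have hodd := char_odd (F := F) (p := p) ho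
  rw [Nat.odd_iff] at hodd
  by_contra hcon
  obtain ⟨R, ⟨eR⟩⟩ := (Cfsg.Agent.S0803.result (F := F) (q := p)
      (by rw [← Nat.card_eq_fintype_card, hq])).2 (by
        rw [Nat.pow_mod]
        have : p % 16 = 1 ∨ p % 16 = 7 ∨ p % 16 = 9 ∨ p % 16 = 15 := by omega
        rcases this with h | h | h | h <;> rw [h])
  obtain ⟨g, hg⟩ := S4_conj h2 e ((imEquiv R).symm.trans eR)
  apply coatom_not_le ho hM hML
  rw [← cj_mono (g := g), hg, cj_PSLr]
  exact im_le R

/-- the Klein four group in `A4` -/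
def v4 : Subgroup (alternatingGroup (Fin 4)) where
  carrier := {σ | σ ^ 2 = 1}
  one_mem' := one_pow 2
  mul_mem' := by
    have h : ∀ a b : alternatingGroup (Fin 4), a ^ 2 = 1 → b ^ 2 = 1 → (a * b) ^ 2 = 1 := by
      decide +kernel
    intro a b ha hb
    exact h a b ha hb
  inv_mem' := by
    intro a ha
    show a⁻¹ ^ 2 = 1
    rw [inv_pow, show a ^ 2 = 1 from ha, inv_one]

theorem mem_v4 {σ : alternatingGroup (Fin 4)} : σ ∈ v4 ↔ σ ^ 2 = 1 := Iff.rfl

theorem card_v4 : Nat.card v4 = 4 := by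
  have h : Nat.card v4 = Nat.card {σ : alternatingGroup (Fin 4) // σ ^ 2 = 1} := rfl
  rw [h, Nat.card_eq_fintype_card]; decide +kernel

theorem v4_normal : v4.Normal := by
  constructor
  intro x hx g
  rw [mem_v4] at hx ⊢
  rw [conj_pow, hx, mul_one, mul_inv_cancel]

theorem mem_normalizer_of_normalizes {G : Type*} [Group G] [Finite G] {V : Subgroup G} {g : G}
    (h : ∀ x ∈ V, g * x * g⁻¹ ∈ V) : g ∈ normalizer (V : Set G) := by
  have h1 : cj g V = V := by
    apply Subgroup.eq_of_le_of_card_ge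
    · rintro _ ⟨x, hx, rfl⟩
      exact h x hx
    · rw [card_cj]
  rw [mem_normalizer_iff]
  intro x
  have : g * x * g⁻¹ ∈ cj g V ↔ x ∈ V := conj_mem_cj
  rw [h1] at this
  exact this.symm

/-- in `PGL₂(5)` the dihedral subgroup of order eight is not maximal -/
theorem not_coatom_eight (h5 : Nat.card F = 5) {M : Subgroup PGL(2, F)} (hM : IsCoatom M)
    (h8 : Nat.card M = 8) : False := by
  have := Fintype.ofFinite F
  have hfin : Finite PGL(2, F) := finite_pgl
  have hfin' : Finite PSL(2, F) := finite_psl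
  have hc5 : CharP F 5 := by
    obtain ⟨l, hl, hc⟩ := exists_char (F := F)
    have : 5 = l := eq_char_of_prime hl Nat.prime_five (by rw [h5])
    rw [this]; exact hc
  have : Fact (Nat.Prime 5) := ⟨Nat.prime_five⟩
  have : Fact (Nat.Prime 2) := ⟨Nat.prime_two⟩
  obtain ⟨R, ⟨e⟩⟩ := (Cfsg.Agent.S0802.result (F := F) 5 1
      (by rw [← Nat.card_eq_fintype_card, h5]; rfl)).2 (by omega)
  have hG : Nat.card PGL(2, F) = 120 := by rw [card_pgl, h5]
  -- the four group
  set V : Subgroup PSL(2, F) := (v4.comap e.toMonoidHom).map R.subtype with hV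
  have hVR : V ≤ R := by
    rintro _ ⟨x, -, rfl⟩; exact x.2
  have hVc : Nat.card V = 4 := by
    have h1 : Nat.card V = Nat.card (v4.comap e.toMonoidHom) :=
      (Nat.card_congr ((v4.comap e.toMonoidHom).equivMapOfInjective _
        R.subtype_injective).toEquiv).symm
    rw [h1]
    refine Eq.trans ?_ card_v4
    exact Nat.card_congr (e.toEquiv.subtypeEquiv (fun _ => Iff.rfl))
  have hRN : ∀ r ∈ R, ∀ x ∈ V, r * x * r⁻¹ ∈ V := by
    rintro r hr _ ⟨x, hx, rfl⟩
    refine ⟨⟨r, hr⟩ * x * ⟨r, hr⟩⁻¹, ?_, rfl⟩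
    have hx' : e x ∈ v4 := hx
    show e (⟨r, hr⟩ * x * ⟨r, hr⟩⁻¹) ∈ v4
    rw [map_mul, map_mul, map_inv]
    exact v4_normal.conj_mem _ hx' _
  -- `im V` lies in a conjugate of `M`
  have hpV : IsPGroup 2 (im V) := IsPGroup.of_card (n := 2) (by rw [card_im, hVc]; norm_num)
  obtain ⟨P, hP⟩ := hpV.exists_le_sylow
  have hfac : (Nat.card PGL(2, F)).factorization 2 = 3 := by
    rw [hG, show 120 = 2 ^ 3 * 15 by norm_num, Nat.factorization_mul (by norm_num) (by norm_num),
      Nat.Prime.factorization_pow Nat.prime_two]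
    have : (15 : ℕ).factorization 2 = 0 := Nat.factorization_eq_zero_of_not_dvd (by norm_num)
    simp [this]
  obtain ⟨S, hS⟩ : ∃ S : Sylow 2 PGL(2, F), (S : Subgroup PGL(2, F)) = M :=
    ⟨Sylow.ofCard M (by rw [h8, hfac]; norm_num), rfl⟩
  obtain ⟨g, hg⟩ := MulAction.exists_smul_eq PGL(2, F) P S
  have hle : cj g (im V) ≤ M := by
    rw [← hS, ← hg]
    exact (cj_mono (g := g)).2 hP
  set W := cj g (im V) with hW
  have hWc : Nat.card W = 4 := by rw [hW, card_cj, card_im, hVc]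
  have h1 : M ≤ normalizer (W : Set PGL(2, F)) := by
    have h2 : (W.subgroupOf M).index = 2 := by
      have h3 := Subgroup.card_mul_index (W.subgroupOf M)
      have e1 : Nat.card (W.subgroupOf M) = Nat.card W :=
        Nat.card_congr (Subgroup.subgroupOfEquivOfLe hle).toEquiv
      rw [e1, hWc, h8] at h3
      omega
    have h3 : (W.subgroupOf M).Normal := Subgroup.normal_of_index_eq_two h2
    intro m hm
    apply mem_normalizer_of_normalizes
    intro x hx
    have := h3.conj_mem ⟨x, hle hx⟩ (by rw [Subgroup.mem_subgroupOf]; exact hx) ⟨m, hm⟩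
    rw [Subgroup.mem_subgroupOf] at this
    exact this
  have h2 : cj g (im R) ≤ normalizer (W : Set PGL(2, F)) := by
    rintro _ ⟨_, ⟨r, hr, rfl⟩, rfl⟩
    apply mem_normalizer_of_normalizes
    rintro _ ⟨_, ⟨x, hx, rfl⟩, rfl⟩
    refine ⟨_, ⟨r * x * r⁻¹, hRN r hr x hx, rfl⟩, ?_⟩
    simp [mul_assoc]
  have h12 : Nat.card (cj g (im R)) = 12 := by rw [card_cj, card_im, card_A4 e]
  rcases hM.le_iff.1 h1 with h3 | h3
  · -- `W` is normal
    rw [Subgroup.normalizer_eq_top_iff] at h3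
    have hs : IsSimpleGroup PSL(2, F) :=
      Matrix.ProjectiveSpecialLinearGroup.rank_two_simple (by rw [h5]; norm_num)
    have hn : (W.comap (toP F)).Normal := h3.comap (toP F)
    have hWr : W ≤ PSLr F := by
      rw [hW, ← cj_PSLr g]; exact cj_mono.2 (im_le V)
    have hc : Nat.card (W.comap (toP F)) = 4 := by
      rw [← card_im, im_comap_of_le hWr, hWc]
    rcases hn.eq_bot_or_eq_top with h | h
    · rw [h, Subgroup.card_bot] at hc; omega
    · rw [h, Subgroup.card_top] at hc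
      have := card_psl_odd (F := F) (by rw [h5]; decide)
      rw [hc, h5] at this
      omega
  · have h4 := Subgroup.card_dvd_of_le h2
    rw [h12, h3, h8] at h4
    omega

attribute [local instance 10] pact

/-- detailed list of the maximal subgroups of `PGL₂(q)` not containing `PSL₂(q)`, `q` odd -/
theorem coatoms_pgl (ho : Odd (Nat.card F)) (h3 : 3 < Nat.card F) {p : ℕ} [hp : Fact p.Prime]
    [CharP F p] {K : Type*} [Field K] [Algebra F K] [CharP K p] [IsAlgClosed K]
    {M : Subgroup PGL(2, F)} (hM : IsCoatom M) (hML : ¬ PSLr F ≤ M) :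
    (∃ z ∈ orbit PGL(2, F) (pt0 K), M = stabilizer PGL(2, F) z ∧
      Nat.card M = Nat.card F * (Nat.card F - 1)) ∨
    (Nat.card F ≠ 5 ∧ ∃ z w : ℙ K (Fin 2 → K), z ≠ w ∧ M = DS PGL(2, F) z w ∧
      (∃ s : PGL(2, F), s • z = w ∧ s • w = z) ∧ z ∈ orbit PGL(2, F) (pt0 K) ∧
      w ∈ orbit PGL(2, F) (pt0 K) ∧ Nat.card (TS PGL(2, F) z w) = Nat.card F - 1) ∨
    (∃ z w : ℙ K (Fin 2 → K), z ≠ w ∧ M = DS PGL(2, F) z w ∧
      (∃ s : PGL(2, F), s • z = w ∧ s • w = z) ∧ z ∉ orbit PGL(2, F) (pt0 K) ∧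
      Nat.card (TS PGL(2, F) z w) = Nat.card F + 1) ∨
    (Nat.card F = p ∧ (p % 8 = 3 ∨ p % 8 = 5) ∧ Nonempty (M ≃* Equiv.Perm (Fin 4))) ∨
    (∃ (g : PGL(2, F)) (K1 : Subfield F) (r : ℕ), r.Prime ∧ Odd r ∧
      Nat.card K1 ^ r = Nat.card F ∧ cj g M = PGLs K1) := by
  have hfin : Finite PGL(2, F) := finite_pgl
  have ht := t_pgl (F := F) (K := K) (p := p)
  rcases (ambP (F := F) (K := K)).coatoms (p := p) (by omega) hM with
    ⟨z, hz, h1, h2⟩ | ⟨z, w, h1, h2, ⟨s, hs1, hs2⟩, h4⟩ | ⟨h1, -, ⟨e⟩⟩ | ⟨h1, -, ⟨e⟩⟩ |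
      ⟨h1, -, ⟨e⟩⟩ | ⟨g, K1, h1, h2⟩
  · left
    refine ⟨z, hz, h1, ?_⟩
    rw [h2]; exact congrArg _ ht
  · right
    have hD := ((mobF (p := p) (F := F) (K := K)).DS_dihedral h1 hs1 hs2).2
    rcases h4 with ⟨h4, h5, h6⟩ | ⟨h4, h6⟩
    · left
      have e : Nat.card (TS PGL(2, F) z w) = Nat.card F - 1 := h6.trans ht
      refine ⟨?_, z, w, h1, h2, ⟨s, hs1, hs2⟩, h4, h5, e⟩
      intro hq5
      apply not_coatom_eight hq5 hM
      rw [h2, hD, e, hq5]
    · right; left
      refine ⟨z, w, h1, h2, ⟨s, hs1, hs2⟩, h4, ?_⟩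
      have h6' : Nat.card (TS PGL(2, F) z w) * (Nat.card F - 1) =
            (Nat.card F + 1) * (Nat.card F - 1) := h6.trans (congrArg _ ht)
      exact Nat.eq_of_mul_eq_mul_right (by omega) h6'
  · exfalso
    exact coatom_not_le ho hM hML (le_PSLr_of_no_index_two (A4_no_index_two e))
  · right; right; right; left
    obtain ⟨h5, h6⟩ := pgl_S4 ho hM hML h1 e
    exact ⟨h5, h6, ⟨e⟩⟩
  · exfalso
    exact coatom_not_le ho hM hML (le_PSLr_of_no_index_two (A5_no_index_two e))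
  · right; right; right; right
    rw [Subgroup.map_id] at h2
    obtain ⟨h4, r, hr, hr2, h5⟩ := coatom_sub_pgl hM hML ho h2
    exact ⟨g, K1, r, hr, hr2, h5, h4⟩

end pgl

end Cfsg.Agent.Dk
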