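import Mathlib
import Cfsg.Agent.Dk.PglList

/-! Novelties: intersections of maximal subgroups of `PGL₂(q)` with `PSL₂(q)`. -/

set_option autoImplicit false

namespace Cfsg.Agent.Dk

open MulAction Matrix LinearAlgebra.Projectivization Projectivization Subgroup
open scoped MatrixGroups
open H81 (pt0 pt1 ptz ptc)

section full

variable {p : ℕ} {Γ X K : Type*} [Group Γ] [MulAction Γ X] [Field K] {M : Mob p Γ X K}
  [Finite Γ]

/-- point stabilizers in a full group are maximal -/
theorem Mob.Full.coatom_stab {z : X} (hF : M.Full z) : IsCoatom (stabilizer Γ z) := by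
  have hc : 1 < Nat.card (orbit Γ z) := by
    have := (Subgroup.one_lt_card_iff_ne_bot _).2 hF.hU
    rw [hF.hN]; omega
  obtain ⟨y, hy, hyz⟩ := exists_other hc z
  refine ⟨?_, ?_⟩
  · intro h
    obtain ⟨g, hg⟩ := hy
    have : g ∈ stabilizer Γ z := by rw [h]; exact mem_top g
    exact hyz (hg.symm.trans this)
  · intro L hL
    obtain ⟨l, hl, hlz⟩ : ∃ l ∈ L, l • z ≠ z := by
      by_contra h
      push Not at h
      exact hL.not_ge (fun l hl => h l hl)
    rw [eq_top_iff]
    intro g _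
    by_cases hg : g • z = z
    · exact hL.le hg
    · obtain ⟨u, hu, hu2⟩ := hF.reg (z := z) (z' := l • z) (z'' := g • z) (mem_orbit_self z)
        ⟨l, rfl⟩ ⟨g, rfl⟩ hlz hg
      have h1 : (u * l)⁻¹ * g ∈ stabilizer Γ z := by
        rw [mem_stabilizer_iff, mul_smul, inv_smul_eq_iff, mul_smul, hu2]
      have h2 : u * l ∈ L := L.mul_mem (hL.le (M.smul_of_mem_U hu)) hl
      have h3 : g = (u * l) * ((u * l)⁻¹ * g) := by group
      rw [h3]
      exact L.mul_mem h2 (hL.le h1)

theorem Mob.Full.coatom_stab_of_mem {z z0 : X} (hF : M.Full z0) (hz : z ∈ orbit Γ z0) :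
    IsCoatom (stabilizer Γ z) := by
  apply Mob.Full.coatom_stab (M := M)
  refine ⟨U_ne_bot_of_mem hF.hU hz, ?_⟩
  rw [MulAction.orbit_eq_iff.2 hz, card_U_of_mem hz, hF.hN]

end full

section psl

variable {F : Type*} [Field F] [Finite F]

theorem A4_coatom {p : ℕ} (hp : p.Prime) [CharP F p] (hF : Nat.card F = p) (h5 : 5 ≤ p)
    (h8 : p % 8 = 3 ∨ p % 8 = 5) (h10 : p % 10 ≠ 1 ∧ p % 10 ≠ 9) {H : Subgroup PSL(2, F)}
    (e : H ≃* alternatingGroup (Fin 4)) : IsCoatom H := by
  have := Fintype.ofFinite F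
  have : Fact p.Prime := ⟨hp⟩
  have hfin : Finite PSL(2, F) := finite_psl
  have hodd : p % 2 = 1 := by omega
  have hg : Nat.gcd 2 (p - 1) = 2 := Nat.gcd_eq_left ⟨(p - 1) / 2, by omega⟩
  have h2 := card_psl (F := F)
  rw [hF, hg] at h2
  have hbig : 5 * (4 * 6) ≤ p * ((p - 1) * (p + 1)) :=
        Nat.mul_le_mul h5 (Nat.mul_le_mul (by omega) (by omega))
  refine ⟨?_, ?_⟩
  · rintro rfl
    have h1 := card_A4 e
    rw [Subgroup.card_top] at h1
    omega
  · intro L hL
    by_contra hne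
    have hdvd := Subgroup.card_subgroup_dvd_card L
    have hp3 : ¬ p ∣ 12 := by
      intro h
      have h1 := Nat.le_of_dvd (by norm_num) h
      interval_cases p <;> simp_all
    rcases over_A4 hp3 e hL.le hne with h | h | ⟨h5', h⟩ | ⟨g, K1, h3, h4, -⟩
    · exact hL.ne (Subgroup.eq_of_le_of_card_ge hL.le (by rw [h, card_A4 e]))
    · -- 24 divides
      rw [h] at hdvd
      obtain ⟨k, hk⟩ := hdvd
      rw [hk] at h2
      have h16 : 16 ∣ p * ((p - 1) * (p + 1)) := ⟨3 * k, by rw [← h2]; ring⟩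
      have hcop : Nat.Coprime 16 p := by
        have : Nat.Coprime 2 p := (Nat.coprime_two_left).2 (Nat.odd_iff.2 hodd)
        exact Nat.Coprime.pow_left 4 this
      have h17 := hcop.dvd_of_dvd_mul_left h16
      rcases h8 with h8 | h8
      · obtain ⟨s, hs⟩ : ∃ s, p = 8 * s + 3 := ⟨p / 8, by omega⟩
        have e1 : (p - 1) * (p + 1) = 8 * ((4 * s + 1) * (2 * s + 1)) := by
          rw [hs, show 8 * s + 3 - 1 = 8 * s + 2 by omega]; ring
        rw [e1] at h17
        have h18 : 2 ∣ (4 * s + 1) * (2 * s + 1) := by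
          obtain ⟨c, hc⟩ := h17
          exact ⟨c, by omega⟩
        rcases (Nat.prime_two.dvd_mul).1 h18 with h | h <;> omega
      · obtain ⟨s, hs⟩ : ∃ s, p = 8 * s + 5 := ⟨p / 8, by omega⟩
        have e1 : (p - 1) * (p + 1) = 8 * ((2 * s + 1) * (4 * s + 3)) := by
          rw [hs, show 8 * s + 5 - 1 = 8 * s + 4 by omega]; ring
        rw [e1] at h17
        have h18 : 2 ∣ (2 * s + 1) * (4 * s + 3) := by
          obtain ⟨c, hc⟩ := h17
          exact ⟨c, by omega⟩
        rcases (Nat.prime_two.dvd_mul).1 h18 with h | h <;> omega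
    · rw [h] at hdvd
      obtain ⟨k, hk⟩ := hdvd
      rw [hk] at h2
      have h16 : 5 ∣ p * ((p - 1) * (p + 1)) := ⟨24 * k, by rw [← h2]; ring⟩
      rcases (Nat.prime_five.dvd_mul).1 h16 with h9 | h9
      · have := (Nat.prime_dvd_prime_iff_eq Nat.prime_five hp).1 h9
        rw [← this] at h5'
        exact h5' (by norm_num)
      · rcases (Nat.prime_five.dvd_mul).1 h9 with h9 | h9 <;> omega
    · exact h4 (sub_eq_top_of_prime hp hF K1)

attribute [local instance 10] sact

theorem dih_plus_at (ho : Odd (Nat.card F)) (h5 : 5 ≤ Nat.card F) (h7 : Nat.card F ≠ 7)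
    (h9 : Nat.card F ≠ 9) {K : Type*} [Field K] [Algebra F K] {p : ℕ} [CharP F p] [CharP K p]
    [IsAlgClosed K] [Fact p.Prime] {z w : ℙ K (Fin 2 → K)} (hzw : z ≠ w)
    (hT : 2 * Nat.card (TS PSL(2, F) z w) = Nat.card F + 1) {s : PSL(2, F)} (hs1 : s • z = w)
    (hs2 : s • w = z) : IsCoatom (DS PSL(2, F) z w) := by
  have hcard := card_psl_odd ho
  have hodd' : Nat.card F % 2 = 1 := Nat.odd_iff.1 ho
  have hT' : Nat.card (TS PSL(2, F) z w) = (Nat.card F + 1) / 2 := by omega
  refine dih_coatom K (p := p) hzw hT' (by omega) hs1 hs2 ?_ ?_ ?_ ?_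
  · have h3 : 4 ≤ Nat.card F - 1 := by omega
    have : Nat.card F * (4 * (Nat.card F + 1)) ≤
        Nat.card F * ((Nat.card F - 1) * (Nat.card F + 1)) :=
      Nat.mul_le_mul_left _ (Nat.mul_le_mul_right _ h3)
    have h5 : 2 * ((Nat.card F + 1) / 2) ≤ Nat.card F + 1 := Nat.mul_div_le _ _
    nlinarith
  · rintro (h | h) _ hd
    · have h5 : Nat.card F = 5 := by omega
      rw [h5] at hcard
      omega
    · omega
  · rintro (h | h) _ hd
    · have h5 : Nat.card F = 5 := by omega
      rw [h5] at hcard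
      omega
    · omega
  · intro q1 h1 h3
    have : q1 * 3 ≤ q1 ^ 2 := by rw [sq]; exact Nat.mul_le_mul_left _ h1
    omega

theorem dih_minus_at (ho : Odd (Nat.card F)) (h13 : 13 ≤ Nat.card F)
    {K : Type*} [Field K] [Algebra F K] {p : ℕ} [CharP F p] [CharP K p]
    [IsAlgClosed K] [Fact p.Prime] {z w : ℙ K (Fin 2 → K)} (hzw : z ≠ w)
    (hT : 2 * Nat.card (TS PSL(2, F) z w) = Nat.card F - 1) {s : PSL(2, F)} (hs1 : s • z = w)
    (hs2 : s • w = z) : IsCoatom (DS PSL(2, F) z w) := by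
  have hcard := card_psl_odd ho
  have hodd' : Nat.card F % 2 = 1 := Nat.odd_iff.1 ho
  have hT' : Nat.card (TS PSL(2, F) z w) = (Nat.card F - 1) / 2 := by omega
  refine dih_coatom K (p := p) hzw hT' (by omega) hs1 hs2 ?_ ?_ ?_ ?_
  · have h3 : 4 ≤ Nat.card F - 1 := by omega
    have : Nat.card F * (4 * (Nat.card F + 1)) ≤
        Nat.card F * ((Nat.card F - 1) * (Nat.card F + 1)) :=
      Nat.mul_le_mul_left _ (Nat.mul_le_mul_right _ h3)
    have h5 : 2 * ((Nat.card F - 1) / 2) ≤ Nat.card F - 1 := Nat.mul_div_le _ _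
    have : Nat.card F - 1 ≤ Nat.card F := Nat.sub_le _ _
    nlinarith
  · rintro (h | h) _ hd <;> omega
  · rintro (h | h) _ hd <;> omega
  · intro q1 h1 h3
    by_cases h4 : q1 = 3
    · omega
    · have : q1 * 4 ≤ q1 ^ 2 := by rw [sq]; exact Nat.mul_le_mul_left _ (by omega)
      omega

/-- maximality is invariant under conjugation in `PGL₂` -/
theorem coatom_of_cj {H0 H : Subgroup PSL(2, F)} (h0 : IsCoatom H0) {g : PGL(2, F)}
    (h : cj g (im H) = im H0) : IsCoatom H := by
  obtain ⟨h1, h2⟩ := coatom_im h0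
  apply isCoatom_of
  · intro h3
    apply h1
    rw [← h, h3, cj_PSLr]
  · intro L h3 h4
    have h5 : im H0 ≤ cj g L := by rw [← h]; exact cj_mono.2 h3
    have h6 : cj g L ≤ PSLr F := by rw [← cj_PSLr g]; exact cj_mono.2 h4
    rcases h2 _ h5 h6 with h7 | h7
    · left
      rw [← cj_inv_cj g L, h7, ← h, cj_inv_cj]
    · right
      rw [← cj_inv_cj g L, h7, cj_PSLr]

end psl

section novel

variable {F : Type*} [Field F] [Finite F]

theorem novel_even (he : Even (Nat.card F)) {M : Subgroup PGL(2, F)} (hM : IsCoatom M) :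
    IsCoatom (M.comap (toP F)) := by
  have h1 : im (M.comap (toP F)) = M := by
    rw [im_eq_inf, PSLr_eq_top_of_even he, inf_top_eq]
  apply isCoatom_of
  · rw [h1, PSLr_eq_top_of_even he]; exact hM.1
  · rw [h1, PSLr_eq_top_of_even he]
    intro L hL _
    rcases hM.le_iff.1 hL with h | h
    · exact Or.inr h
    · exact Or.inl h

theorem index_two_S4 {G : Type*} [Group G] (e : G ≃* Equiv.Perm (Fin 4)) {N : Subgroup G}
    (hN : N.index = 2) : Nonempty (N ≃* alternatingGroup (Fin 4)) := by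
  have h1 : (N.map e.toMonoidHom).index = 2 := by
    rw [← hN]; exact Subgroup.index_map_equiv N e
  have h2 : N.map e.toMonoidHom = alternatingGroup (Fin 4) :=
    Equiv.Perm.eq_alternatingGroup_of_index_eq_two h1
  exact ⟨(N.equivMapOfInjective e.toMonoidHom e.injective).trans (MulEquiv.subgroupCongr h2)⟩

attribute [local instance 10] pact sact

theorem novel_odd (ho : Odd (Nat.card F)) (h5 : 5 ≤ Nat.card F) (h7 : Nat.card F ≠ 7)
    (h9 : Nat.card F ≠ 9) (h11 : Nat.card F ≠ 11)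
    (h40 : (Nat.card F).Prime → Nat.card F % 40 ∉ ({11, 19, 21, 29} : Finset ℕ))
    {M : Subgroup PGL(2, F)} (hM : IsCoatom M) (hML : ¬ PSLr F ≤ M) :
    IsCoatom (M.comap (toP F)) := by
  obtain ⟨p, hp, hc⟩ := exists_char (F := F)
  have : Fact p.Prime := ⟨hp⟩
  have : CharP (AlgebraicClosure F) p :=
    charP_of_injective_algebraMap (algebraMap F (AlgebraicClosure F)).injective p
  have hfin : Finite PGL(2, F) := finite_pgl
  have hfin' : Finite PSL(2, F) := finite_psl
  set K := AlgebraicClosure F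
  have hodd' : Nat.card F % 2 = 1 := Nat.odd_iff.1 ho
  have hFS := fullS (p := p) (F := F) (K := K)
  have horb : orbit PSL(2, F) (pt0 K) = orbit PGL(2, F) (pt0 K) := by
    rw [orbitS_pt0, orbit_pt0]
  have ht := t_psl (F := F) (K := K) (p := p)
  rw [gcd_odd ho] at ht
  rcases coatoms_pgl (p := p) (K := K) ho (by omega) hM hML with
    ⟨z, hz, h1, -⟩ | ⟨hq5, z, w, h1, h2, ⟨s, hs1, hs2⟩, hz, hw, h6⟩ |
    ⟨z, w, h1, h2, ⟨s, hs1, hs2⟩, hz, h6⟩ | ⟨hq, h8, ⟨e⟩⟩ | ⟨g, K1, r, hr, hr2, h4, h6⟩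
  · have : M.comap (toP F) = stabilizer PSL(2, F) z := by
      rw [h1]; rfl
    rw [this]
    exact hFS.coatom_stab_of_mem (by rw [horb]; exact hz)
  · have : M.comap (toP F) = DS PSL(2, F) z w := by rw [h2]; rfl
    rw [this]
    rw [← horb] at hz hw
    obtain ⟨s', hs1', hs2'⟩ := hFS.swap hz hw h1
    apply dih_minus_at (p := p) ho (by omega) h1 _ hs1' hs2'
    rw [hFS.card_TS hz hw h1, ht]
  · have : M.comap (toP F) = DS PSL(2, F) z w := by rw [h2]; rfl
    rw [this]
    rw [← horb] at hz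
    have hT : TS PSL(2, F) z w ≠ ⊥ := by
      intro hbot
      -- `TS PGL` has order `q + 1`, and index at most two
      have h3 := index_le_two (K0 := (⊤ : Subfield F)) (L := TS PGL(2, F) z w)
        (by rw [PGLs_top]; exact le_top)
      rw [PSLs_top] at h3
      have h4 : (PSLr F).subgroupOf (TS PGL(2, F) z w) = ⊥ := by
        rw [eq_bot_iff]
        rintro ⟨x, hx⟩ hx'
        rw [Subgroup.mem_subgroupOf, ← toP_range] at hx'
        obtain ⟨y, rfl⟩ := hx'
        have hy : y ∈ TS PSL(2, F) z w := hx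
        rw [hbot, Subgroup.mem_bot] at hy
        subst hy
        exact Subtype.ext (map_one _)
      rw [h4, Subgroup.index_bot, h6] at h3
      have := Nat.le_of_dvd (by norm_num) h3
      omega
    obtain ⟨k1, -, s', hs1', hs2'⟩ := (ambS (F := F) (K := K)).card_TS_irr (p := p) hz h1 hT
    apply dih_plus_at (p := p) ho h5 h7 h9 h1 _ hs1' hs2'
    have k1' : Nat.card (TS PSL(2, F) z w) * (Nat.card F - 1) =
      (Nat.card F + 1) * (mobS (p := p) (F := F) (K := K)).t (pt0 K) := k1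
    rw [← ht] at k1'
    have hpos : 0 < (mobS (p := p) (F := F) (K := K)).t (pt0 K) := by omega
    apply Nat.eq_of_mul_eq_mul_right hpos
    rw [← k1']; ring
  · -- `S4`
    have h3 : ((PSLr F).subgroupOf M).index = 2 := by
      have h3 := index_le_two (K0 := (⊤ : Subfield F)) (L := M)
        (by rw [PGLs_top]; exact le_top)
      rw [PSLs_top] at h3
      rcases (Nat.dvd_prime Nat.prime_two).1 h3 with h4 | h4
      · exfalso
        rw [Subgroup.index_eq_one, Subgroup.subgroupOf_eq_top] at h4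
        exact coatom_not_le ho hM hML h4
      · exact h4
    obtain ⟨e1⟩ := index_two_S4 e h3
    have e2 : (M.comap (toP F)) ≃* (PSLr F).subgroupOf M := by
      have e3 := imEquiv (M.comap (toP F))
      rw [im_eq_inf] at e3
      refine e3.trans ?_
      refine MulEquiv.trans ?_ (Subgroup.subgroupOfEquivOfLe (H := M ⊓ PSLr F) (K := M)
        inf_le_left).symm |>.trans (MulEquiv.subgroupCongr ?_)
      · exact MulEquiv.refl _
      · rw [Subgroup.inf_subgroupOf_left]
    apply A4_coatom hp hq (by omega) h8 _ (e2.trans e1)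
    have h4 := h40 (by rw [hq]; exact hp)
    rw [hq] at h4
    simp only [Finset.mem_insert, Finset.mem_singleton, not_or] at h4
    omega
  · have h7 := max_psl_odd (K0 := K1) hr (by rintro rfl; exact absurd hr2 (by decide)) h4.symm
      (odd_sub ho K1)
    apply coatom_of_cj h7 (g := g)
    rw [im_eq_inf, im_comap_of_le (PSLs_le_PSLr K1), ← inf_odd ho h4 hr2, ← h6]
    ext x
    rw [Subgroup.mem_inf, mem_cj, mem_cj, Subgroup.mem_inf]
    have : g⁻¹ * x * g ∈ PSLr F ↔ x ∈ PSLr F := by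
      have h8 : x ∈ cj g (PSLr F) ↔ g⁻¹ * x * g ∈ PSLr F := mem_cj
      rw [cj_PSLr] at h8
      exact h8.symm
    rw [this]

/-- transport to the subgroup `PSL₂ ≤ PGL₂` -/
theorem novel_transport {M : Subgroup PGL(2, F)} (h : IsCoatom (M.comap (toP F))) :
    IsCoatom ((M ⊓ PSLr F).subgroupOf (PSLr F)) := by
  let e : PSL(2, F) ≃* PSLr F :=
    (MonoidHom.ofInjective (toP_injective (F := F))).trans (MulEquiv.subgroupCongr toP_range)
  have he : ∀ x, ((e x : PSLr F) : PGL(2, F)) = toP F x := fun _ => rfl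
  have h1 : (M ⊓ PSLr F).subgroupOf (PSLr F) = (M.comap (toP F)).map e.toMonoidHom := by
    ext x
    rw [Subgroup.mem_subgroupOf, Subgroup.mem_inf]
    constructor
    · rintro ⟨hx, -⟩
      refine ⟨e.symm x, ?_, e.apply_symm_apply x⟩
      show toP F (e.symm x) ∈ M
      rw [← he, e.apply_symm_apply]; exact hx
    · rintro ⟨y, hy, rfl⟩
      exact ⟨hy, (e y).2⟩
  rw [h1]
  exact (OrderIso.isCoatom_iff e.mapSubgroup _).2 h

end novel

end Cfsg.Agent.Dk
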