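import Mathlib
import Cfsg.Agent.Dk.Novel
import Cfsg.Agent.H14.KleinPSL

/-! `PSL₂(11)` and its subgroups `A5`. -/

set_option autoImplicit false

namespace Cfsg.Agent.Dk

open MulAction Matrix Subgroup
open scoped MatrixGroups

section grp

/-- a proper subgroup of `A5` has index at least five -/
theorem A5_index {G : Type*} [Group G] (e : G ≃* alternatingGroup (Fin 5)) {N : Subgroup G}
    (h : N.index < 5) : N = ⊤ := by
  have hfin : Finite G := Finite.of_equiv _ e.symm.toEquiv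
  have : IsSimpleGroup (alternatingGroup (Fin 5)) := alternatingGroup.isSimpleGroup (by simp)
  have hs : IsSimpleGroup G := (MulEquiv.isSimpleGroup_congr e).2 inferInstance
  have hk : (MulAction.toPermHom G (G ⧸ N)).ker.Normal := inferInstance
  rcases hk.eq_bot_or_eq_top with h1 | h1
  · exfalso
    have hinj : Function.Injective (MulAction.toPermHom G (G ⧸ N)) :=
      (MonoidHom.ker_eq_bot_iff _).1 h1
    have h2 : Nat.card G ∣ Nat.card (Equiv.Perm (G ⧸ N)) := Subgroup.card_dvd_of_injective _ hinj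
    rw [Nat.card_perm, card_A5 e] at h2
    have h3 : Nat.card (G ⧸ N) = N.index := rfl
    rw [h3] at h2
    have h4 : (N.index).factorial ≤ 24 := by
      have : N.index ≤ 4 := by omega
      calc (N.index).factorial ≤ Nat.factorial 4 := Nat.factorial_le this
        _ = 24 := rfl
    have := Nat.le_of_dvd (Nat.factorial_pos _) h2
    omega
  · rw [eq_top_iff]
    intro g _
    have h2 : g ∈ (MulAction.toPermHom G (G ⧸ N)).ker := by rw [h1]; exact mem_top g
    rw [MonoidHom.mem_ker] at h2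
    have h3 := congrArg (fun σ : Equiv.Perm (G ⧸ N) => σ (QuotientGroup.mk 1)) h2
    have h4 : (QuotientGroup.mk (g * 1) : G ⧸ N) = QuotientGroup.mk 1 := h3
    rw [QuotientGroup.eq] at h4
    have := N.inv_mem h4
    simpa using this

theorem exists_v4 {G : Type*} [Group G] {H0 : Subgroup G} (e : H0 ≃* alternatingGroup (Fin 4)) :
    ∃ V ≤ H0, Nat.card V = 4 ∧ ∀ r ∈ H0, ∀ x ∈ V, r * x * r⁻¹ ∈ V := by
  refine ⟨(v4.comap e.toMonoidHom).map H0.subtype, ?_, ?_, ?_⟩
  · rintro _ ⟨x, -, rfl⟩; exact x.2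
  · have h1 : Nat.card ((v4.comap e.toMonoidHom).map H0.subtype) =
        Nat.card (v4.comap e.toMonoidHom) :=
      (Nat.card_congr ((v4.comap e.toMonoidHom).equivMapOfInjective _
        H0.subtype_injective).toEquiv).symm
    rw [h1]
    refine Eq.trans ?_ card_v4
    exact Nat.card_congr (e.toEquiv.subtypeEquiv (fun _ => Iff.rfl))
  · rintro r hr _ ⟨x, hx, rfl⟩
    refine ⟨⟨r, hr⟩ * x * ⟨r, hr⟩⁻¹, ?_, rfl⟩
    have hx' : e x ∈ v4 := hx
    show e (⟨r, hr⟩ * x * ⟨r, hr⟩⁻¹) ∈ v4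
    rw [map_mul, map_mul, map_inv]
    exact v4_normal.conj_mem _ hx' _

theorem klein_of_le_A5 {G : Type*} [Group G] {H V : Subgroup G} (e : H ≃* alternatingGroup (Fin 5))
    (hVH : V ≤ H) (hV : Nat.card V = 4) : IsKleinFour V := by
  have hsq : ∀ x : V, x ^ 2 = 1 := by
    intro x
    have hfin : Finite V := Nat.finite_of_card_ne_zero (by rw [hV]; norm_num)
    have h4 : x ^ 4 = 1 := by rw [← hV]; exact pow_card_eq_one'
    have h4' : (⟨x.1, hVH x.2⟩ : H) ^ 4 = 1 := by
      apply Subtype.ext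
      exact congrArg (fun z : V => (z : G)) h4
    have key : ∀ σ : alternatingGroup (Fin 5), σ ^ 4 = 1 → σ ^ 2 = 1 := by decide +kernel
    have h5 := key (e ⟨x.1, hVH x.2⟩) (by rw [← map_pow, h4', map_one])
    rw [← map_pow, EmbeddingLike.map_eq_one_iff] at h5
    apply Subtype.ext
    exact congrArg (fun z : H => (z : G)) h5
  refine ⟨hV, ?_⟩
  have h1 : Monoid.exponent V ∣ 2 := Monoid.exponent_dvd_of_forall_pow_eq_one hsq
  rcases (Nat.dvd_prime Nat.prime_two).1 h1 with h2 | h2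
  · exfalso
    have h3 := Monoid.exp_eq_one_iff.1 h2
    have : Nat.card V = 1 := Nat.card_eq_one_iff_unique.2 ⟨h3, ⟨1⟩⟩
    omega
  · exact h2

end grp

section eleven

variable {F : Type*} [Field F] [Finite F]

theorem card_psl_eleven (hF : Nat.card F = 11) : Nat.card PSL(2, F) = 660 := by
  have h := card_psl_odd (F := F) (by rw [hF]; decide)
  rw [hF] at h; omega

theorem norm_le (hF : Nat.card F = 11) {H V : Subgroup PSL(2, F)}
    (e : H ≃* alternatingGroup (Fin 5)) (hVH : V ≤ H) (hV : Nat.card V = 4) :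
    normalizer (V : Set PSL(2, F)) ≤ H := by
  have := Fintype.ofFinite F
  have hfin : Finite PSL(2, F) := finite_psl
  have : Fact (Nat.Prime 2) := ⟨Nat.prime_two⟩
  have hK := klein_of_le_A5 e hVH hV
  have hG := card_psl_eleven hF
  have h2 : (2 : F) ≠ 0 := two_ne_of_odd (by rw [hF]; decide)
  have h12 := H14.Klein.card_normalizer_12 h2 (by rw [hG]; norm_num) (by rw [hG]; norm_num) hK
  obtain ⟨H0, hH0, ⟨e0⟩⟩ := exists_A4_in_A5 e
  obtain ⟨V0, hV0, hc0, hn0⟩ := exists_v4 e0
  have hV0H : V0 ≤ H := hV0.trans hH0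
  obtain ⟨h, hh⟩ := sylow_conj (G := H) (l := 2) (k := 2) (M := V.subgroupOf H)
    (R := V0.subgroupOf H) (by
      rw [Nat.card_congr (Subgroup.subgroupOfEquivOfLe hVH).toEquiv, hV]; norm_num)
    (by rw [card_A5 e]; norm_num) (by
      rw [Nat.card_congr (Subgroup.subgroupOfEquivOfLe hV0H).toEquiv, hc0]; norm_num)
  have hVV : V ≤ cj (h : PSL(2, F)) V0 := by
    intro x hx
    have h1 : (⟨x, hVH hx⟩ : H) ∈ cj h (V0.subgroupOf H) := hh (by
      rw [Subgroup.mem_subgroupOf]; exact hx)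
    rw [mem_cj, Subgroup.mem_subgroupOf] at h1
    rw [mem_cj]; exact h1
  have hVV' : V = cj (h : PSL(2, F)) V0 :=
    Subgroup.eq_of_le_of_card_ge hVV (by rw [card_cj, hc0, hV])
  have h1 : cj (h : PSL(2, F)) H0 ≤ normalizer (V : Set PSL(2, F)) := by
    rintro _ ⟨r, hr, rfl⟩
    apply mem_normalizer_of_normalizes
    intro x hx
    rw [hVV'] at hx ⊢
    obtain ⟨y, hy, rfl⟩ := hx
    refine ⟨r * y * r⁻¹, hn0 r hr y hy, ?_⟩
    simp [mul_assoc]
  have h3 : cj (h : PSL(2, F)) H0 = normalizer (V : Set PSL(2, F)) :=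
    Subgroup.eq_of_le_of_card_ge h1 (by rw [h12, card_cj, card_A4 e0])
  rw [← h3]
  rintro _ ⟨r, hr, rfl⟩
  exact H.mul_mem (H.mul_mem h.2 (hH0 hr)) (H.inv_mem h.2)

/-- intersections of conjugates of `A5` have order not divisible by four -/
theorem inf_not_four (hF : Nat.card F = 11) {H : Subgroup PSL(2, F)}
    (e : H ≃* alternatingGroup (Fin 5)) {g : PSL(2, F)} (hg : g ∉ H) :
    ¬ 4 ∣ Nat.card (H ⊓ cj g H : Subgroup PSL(2, F)) := by
  intro h4
  have hfin : Finite PSL(2, F) := finite_psl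
  have : Fact (Nat.Prime 2) := ⟨Nat.prime_two⟩
  apply hg
  obtain ⟨P, hP⟩ := Sylow.exists_subgroup_card_pow_prime
    (G := (H ⊓ cj g H : Subgroup PSL(2, F))) 2 (n := 2) h4
  set V : Subgroup PSL(2, F) := P.map (H ⊓ cj g H).subtype with hV
  have hVc : Nat.card V = 4 := by
    have : Nat.card V = Nat.card P :=
      (Nat.card_congr (P.equivMapOfInjective _ (Subgroup.subtype_injective _)).toEquiv).symm
    rw [this, hP]; norm_num
  have hVle : V ≤ H ⊓ cj g H := by
    rintro _ ⟨x, -, rfl⟩; exact x.2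
  have hVH : V ≤ H := hVle.trans inf_le_left
  have hVg : cj g⁻¹ V ≤ H := by
    have := (cj_mono (g := g⁻¹)).2 (hVle.trans inf_le_right)
    rwa [cj_inv_cj] at this
  have hWc : Nat.card (cj g⁻¹ V) = 4 := by rw [card_cj, hVc]
  obtain ⟨h, hh⟩ := sylow_conj (G := H) (l := 2) (k := 2) (M := V.subgroupOf H)
    (R := (cj g⁻¹ V).subgroupOf H) (by
      rw [Nat.card_congr (Subgroup.subgroupOfEquivOfLe hVH).toEquiv, hVc]; norm_num)
    (by rw [card_A5 e]; norm_num) (by
      rw [Nat.card_congr (Subgroup.subgroupOfEquivOfLe hVg).toEquiv, hWc]; norm_num)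
  have hVV : V ≤ cj ((h : PSL(2, F)) * g⁻¹) V := by
    intro x hx
    have h1 : (⟨x, hVH hx⟩ : H) ∈ cj h ((cj g⁻¹ V).subgroupOf H) := hh (by
      rw [Subgroup.mem_subgroupOf]; exact hx)
    rw [mem_cj, Subgroup.mem_subgroupOf] at h1
    rw [← cj_cj, mem_cj]; exact h1
  have hVV' : cj ((h : PSL(2, F)) * g⁻¹) V = V :=
    (Subgroup.eq_of_le_of_card_ge hVV (by rw [card_cj])).symm
  have h5 : (h : PSL(2, F)) * g⁻¹ ∈ normalizer (V : Set PSL(2, F)) := by
    rw [mem_normalizer_iff]
    intro x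
    have : (h : PSL(2, F)) * g⁻¹ * x * ((h : PSL(2, F)) * g⁻¹)⁻¹ ∈
      cj ((h : PSL(2, F)) * g⁻¹) V ↔ x ∈ V := conj_mem_cj
    rw [hVV'] at this
    exact this.symm
  have h6 := norm_le hF e hVH hVc h5
  have h7 := (H.mul_mem_cancel_left h.2).1 h6
  exact (H.inv_mem_iff).1 h7

theorem index_A5 (hF : Nat.card F = 11) {H : Subgroup PSL(2, F)}
    (e : H ≃* alternatingGroup (Fin 5)) : H.index = 11 := by
  have h1 := Subgroup.card_mul_index H
  rw [card_A5 e, card_psl_eleven hF] at h1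
  omega

theorem two_trans (hF : Nat.card F = 11) {H : Subgroup PSL(2, F)}
    (e : H ≃* alternatingGroup (Fin 5)) :
    MulAction.IsMultiplyPretransitive PSL(2, F) (PSL(2, F) ⧸ H) 2 := by
  have hfin : Finite PSL(2, F) := finite_psl
  set o : PSL(2, F) ⧸ H := QuotientGroup.mk 1 with ho
  have hstab : ∀ h : PSL(2, F), h • o = o ↔ h ∈ H := by
    intro h
    show (QuotientGroup.mk (h * 1) : PSL(2, F) ⧸ H) = QuotientGroup.mk 1 ↔ _
    rw [QuotientGroup.eq]
    simp
  -- the orbits of `H` outside the base point have length at least six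
  have key : ∀ x : PSL(2, F) ⧸ H, x ≠ o → 6 ≤ Nat.card (orbit H x) := by
    intro x hx
    obtain ⟨g, rfl⟩ := QuotientGroup.mk_surjective x
    have hg : g ∉ H := by
      intro hg
      apply hx
      rw [ho, QuotientGroup.eq]
      simpa using hg
    have h1 := card_orbit_mul (Γ := H) (QuotientGroup.mk g : PSL(2, F) ⧸ H)
    have h2 : (stabilizer H (QuotientGroup.mk g : PSL(2, F) ⧸ H)) = (cj g H).subgroupOf H := by
      ext h
      rw [mem_stabilizer_iff, Subgroup.mem_subgroupOf, mem_cj]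
      show (QuotientGroup.mk ((h : PSL(2, F)) * g) : PSL(2, F) ⧸ H) = QuotientGroup.mk g ↔ _
      rw [QuotientGroup.eq, ← H.inv_mem_iff]
      simp [mul_assoc]
    have h3 : Nat.card (stabilizer H (QuotientGroup.mk g : PSL(2, F) ⧸ H)) =
        Nat.card (H ⊓ cj g H : Subgroup PSL(2, F)) := by
      rw [h2, inf_comm]
      have : (cj g H).subgroupOf H = (cj g H ⊓ H).subgroupOf H := by
        rw [Subgroup.inf_subgroupOf_right]
      rw [this]
      exact Nat.card_congr (Subgroup.subgroupOfEquivOfLe inf_le_right).toEquiv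
    have h4 := inf_not_four hF e hg
    rw [← h3] at h4
    rw [card_A5 e] at h1
    have h5 : (stabilizer H (QuotientGroup.mk g : PSL(2, F) ⧸ H)).index =
        Nat.card (orbit H (QuotientGroup.mk g : PSL(2, F) ⧸ H)) := by
      have h6 := Subgroup.card_mul_index (stabilizer H (QuotientGroup.mk g : PSL(2, F) ⧸ H))
      rw [card_A5 e, ← h1, mul_comm] at h6
      exact Nat.eq_of_mul_eq_mul_right Nat.card_pos h6
    by_contra hlt
    push Not at hlt
    rcases (show Nat.card (orbit H (QuotientGroup.mk g : PSL(2, F) ⧸ H)) < 5 ∨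
      Nat.card (orbit H (QuotientGroup.mk g : PSL(2, F) ⧸ H)) = 5 by omega) with h6 | h6
    · rw [← h5] at h6
      have h7 := A5_index e h6
      rw [h7, Subgroup.card_top, card_A5 e] at h4
      exact h4 (by norm_num)
    · rw [h6] at h1
      apply h4
      have : Nat.card (stabilizer H (QuotientGroup.mk g : PSL(2, F) ⧸ H)) = 12 := by omega
      rw [this]; norm_num
  have hX : Nat.card (PSL(2, F) ⧸ H) = 11 := index_A5 hF e
  have htr : ∀ x y : PSL(2, F) ⧸ H, x ≠ o → y ≠ o → ∃ h ∈ H, h • x = y := by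
    intro x y hx hy
    by_contra hcon
    have hdisj : Disjoint (orbit H x) (orbit H y) := by
      rw [Set.disjoint_left]
      rintro z ⟨a, ha⟩ ⟨b, hb⟩
      apply hcon
      refine ⟨(b⁻¹ * a : H), (b⁻¹ * a).2, ?_⟩
      have ha : (a : PSL(2, F)) • x = z := ha
      have hb : (b : PSL(2, F)) • y = z := hb
      rw [Subgroup.coe_mul, Subgroup.coe_inv, mul_smul, ha, ← hb, inv_smul_smul]
    have h1 : (orbit H x ∪ orbit H y).ncard ≤ (Set.univ : Set (PSL(2, F) ⧸ H)).ncard :=
      Set.ncard_le_ncard (Set.subset_univ _) (Set.toFinite _)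
    rw [Set.ncard_union_eq hdisj (Set.toFinite _) (Set.toFinite _), Set.ncard_univ, hX,
      ← Nat.card_coe_set_eq, ← Nat.card_coe_set_eq] at h1
    have := key x hx
    have := key y hy
    omega
  rw [MulAction.is_two_pretransitive_iff]
  intro a b c d hab hcd
  obtain ⟨g1, h1⟩ := MulAction.exists_smul_eq PSL(2, F) a o
  obtain ⟨g2, h2⟩ := MulAction.exists_smul_eq PSL(2, F) c o
  have hb : g1 • b ≠ o := by
    intro h; exact hab (smul_left_cancel g1 (h1.trans h.symm))
  have hd : g2 • d ≠ o := by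
    intro h; exact hcd (smul_left_cancel g2 (h2.trans h.symm))
  obtain ⟨h, hh, h3⟩ := htr _ _ hb hd
  refine ⟨g2⁻¹ * h * g1, ?_, ?_⟩
  · rw [mul_smul, mul_smul, h1, (hstab h).2 hh, inv_smul_eq_iff, h2]
  · rw [mul_smul, mul_smul, h3, inv_smul_smul]

end eleven

end Cfsg.Agent.Dk
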