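import Mathlib
import Cfsg.Agent.Dk.Eleven

/-! The subgroups `A5` of `PSL₂(11)`. -/

set_option autoImplicit false

namespace Cfsg.Agent.Dk

open MulAction Matrix Subgroup LinearAlgebra.Projectivization Projectivization
open scoped MatrixGroups Pointwise

section eleven

variable {F : Type*} [Field F] [Finite F]

attribute [local instance 10] pact

theorem norm_pgl (hF : Nat.card F = 11) {H : Subgroup PSL(2, F)}
    (e : H ≃* alternatingGroup (Fin 5)) : normalizer (im H : Set PGL(2, F)) = im H := by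
  have hfin : Finite PGL(2, F) := finite_pgl
  have hfin' : Finite PSL(2, F) := finite_psl
  obtain ⟨p, hp, hc⟩ := exists_char (F := F)
  have : Fact p.Prime := ⟨hp⟩
  have hp11 : 11 = p := eq_char_of_prime (F := F) hp (by norm_num) (by rw [hF])
  have : CharP (AlgebraicClosure F) p :=
    charP_of_injective_algebraMap (algebraMap F (AlgebraicClosure F)).injective p
  set N := normalizer (im H : Set PGL(2, F)) with hN
  have hle : im H ≤ N := Subgroup.le_normalizer
  have hc60 : Nat.card (im H) = 60 := by rw [card_im, card_A5 e]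
  have hdvd := Subgroup.card_dvd_of_le hle
  rw [hc60] at hdvd
  have hns : ¬ Group.IsSolvable N := by
    intro hs
    have e' : im H ≃* alternatingGroup (Fin 5) := (imEquiv H).symm.trans e
    apply not_solvable_equiv e' alt5_not_solvable
    exact solvable_of_solvable_injective (f := Subgroup.inclusion hle) (Subgroup.inclusion_injective hle)
  have hbot : N ≠ ⊥ := by
    intro h
    rw [h, Subgroup.card_bot] at hdvd
    norm_num at hdvd
  have M := mobF (p := p) (F := F) (K := AlgebraicClosure F)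
  rcases (ambP (F := F) (K := AlgebraicClosure F)).list (p := p) hbot with
      ⟨z, hz⟩ | ⟨z, hz1, hz2⟩ | ⟨h1, h2, -⟩ | ⟨h1, h2, -⟩ | ⟨h1, h2, -⟩ |
      ⟨z, hz, hz3, g, K1, -, hcj, -, hK1⟩
  · exact absurd (M.solvable_fixed hz) hns
  · exact absurd (M.solvable_dih hz2) hns
  · rw [h2] at hdvd; norm_num at hdvd
  · rw [h2] at hdvd; norm_num at hdvd
  · symm
    exact Subgroup.eq_of_le_of_card_ge hle (by rw [h2, hc60])
  · exfalso
    rw [Subgroup.map_id] at hcj
    have hK : K1 = ⊤ := sub_eq_top_of_prime (p := 11) (by norm_num) hF K1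
    rw [hK] at hcj
    have h3 : PSLr F ≤ N := PSLr_le_of_cj hcj
    have hs : IsSimpleGroup PSL(2, F) :=
      Matrix.ProjectiveSpecialLinearGroup.rank_two_simple (by rw [hF]; norm_num)
    have hn : H.Normal := by
      constructor
      intro x hx g
      have h4 : toP F g ∈ N := h3 (by rw [← toP_range]; exact ⟨g, rfl⟩)
      rw [hN, mem_normalizer_iff] at h4
      have h5 := (h4 (toP F x)).1 (toP_mem_im.2 hx)
      rw [← map_mul, ← map_inv, ← map_mul] at h5
      exact toP_mem_im.1 h5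
    have hG := card_psl_eleven hF
    have hcH := card_A5 e
    rcases hn.eq_bot_or_eq_top with h | h
    · rw [h, Subgroup.card_bot] at hcH; omega
    · rw [h, Subgroup.card_top] at hcH; omega

theorem card_A5s (hF : Nat.card F = 11) :
    Nat.card {H : Subgroup PSL(2, F) // Nonempty (H ≃* alternatingGroup (Fin 5))} = 22 := by
  have := Fintype.ofFinite F
  have hfin : Finite PGL(2, F) := finite_pgl
  have hfin' : Finite PSL(2, F) := finite_psl
  have h2 : (2 : F) ≠ 0 := two_ne_of_odd (by rw [hF]; decide)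
  obtain ⟨H, ⟨e⟩⟩ := (Cfsg.Agent.S0804.result (F := F) (q := 11)
    (by rw [← Nat.card_eq_fintype_card, hF])).2 (by norm_num)
  have h1 := H14.Klein.card_conj_mul (im H)
  rw [norm_pgl hF e, card_im, card_A5 e, card_pgl, hF] at h1
  have h3 : Nat.card {H : Subgroup PSL(2, F) // Nonempty (H ≃* alternatingGroup (Fin 5))} =
      Nat.card {W : Subgroup PGL(2, F) // ∃ g : PGL(2, F),
        W = (im H).map (MulAut.conj g).toMonoidHom} := by
    refine Nat.card_eq_of_bijective (f := fun L => ⟨im L.1, ?_⟩) ⟨?_, ?_⟩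
    · obtain ⟨L, ⟨eL⟩⟩ := L
      obtain ⟨g, hg⟩ := A5_conj h2 ((imEquiv H).symm.trans e) ((imEquiv L).symm.trans eL)
      exact ⟨g, hg.symm⟩
    · intro L L' h
      exact Subtype.ext (im_injective (congrArg Subtype.val h))
    · rintro ⟨W, g, rfl⟩
      have h4 : (im H).map (MulAut.conj g).toMonoidHom ≤ PSLr F := by
        have : cj g (im H) ≤ PSLr F := by rw [← cj_PSLr g]; exact cj_mono.2 (im_le H)
        exact this
      have h5 := im_comap_of_le h4
      refine ⟨⟨((im H).map (MulAut.conj g).toMonoidHom).comap (toP F), ?_⟩, Subtype.ext h5⟩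
      have e1 : im (((im H).map (MulAut.conj g).toMonoidHom).comap (toP F)) ≃*
        (im H).map (MulAut.conj g).toMonoidHom := MulEquiv.subgroupCongr h5
      exact ⟨((imEquiv _).trans e1).trans ((cjEquiv g (im H)).symm.trans
        ((imEquiv H).symm.trans e))⟩
  rw [h3]
  omega

theorem smul_eq_cj {Γ : Type*} [Group Γ] (g : Γ) (H : Subgroup Γ) : MulAut.conj g • H = cj g H := rfl

theorem im_cj (g : PSL(2, F)) (H : Subgroup PSL(2, F)) : im (cj g H) = cj (toP F g) (im H) := by
  ext x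
  constructor
  · rintro ⟨_, ⟨y, hy, rfl⟩, rfl⟩
    exact ⟨toP F y, toP_mem_im.2 hy, by simp⟩
  · rintro ⟨_, ⟨y, hy, rfl⟩, rfl⟩
    exact ⟨g * y * g⁻¹, ⟨y, hy, rfl⟩, by simp⟩

theorem two_classes (hF : Nat.card F = 11) :
    ∃ H K : Subgroup PSL(2, F), Nonempty (H ≃* alternatingGroup (Fin 5)) ∧
      Nonempty (K ≃* alternatingGroup (Fin 5)) ∧
      (∀ g : PSL(2, F), MulAut.conj g • H ≠ K) ∧
      ∀ L : Subgroup PSL(2, F), Nonempty (L ≃* alternatingGroup (Fin 5)) →
        ∃ g : PSL(2, F), MulAut.conj g • L = H ∨ MulAut.conj g • L = K := by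
  have := Fintype.ofFinite F
  have hfin : Finite PGL(2, F) := finite_pgl
  have hfin' : Finite PSL(2, F) := finite_psl
  have ho : Odd (Nat.card F) := by rw [hF]; decide
  have h2 : (2 : F) ≠ 0 := two_ne_of_odd ho
  obtain ⟨H, ⟨e⟩⟩ := (Cfsg.Agent.S0804.result (F := F) (q := 11)
    (by rw [← Nat.card_eq_fintype_card, hF])).2 (by norm_num)
  obtain ⟨t, ht⟩ : ∃ t : PGL(2, F), t ∉ PSLr F := by
    by_contra h
    push Not at h
    exact PSLr_ne_top ho (eq_top_iff.2 (fun x _ => h x))
  have h4 : cj t (im H) ≤ PSLr F := by rw [← cj_PSLr t]; exact cj_mono.2 (im_le H)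
  have h5 := im_comap_of_le h4
  have key : ∀ (H L : Subgroup PSL(2, F)) (g : PGL(2, F)), g ∈ PSLr F → cj g (im L) = im H →
      ∃ g : PSL(2, F), cj g L = H := by
    intro H L g hg h
    rw [← toP_range] at hg
    obtain ⟨x, rfl⟩ := hg
    exact ⟨x, im_injective (by rw [im_cj, h])⟩
  refine ⟨H, (cj t (im H)).comap (toP F), ⟨e⟩, ?_, ?_, ?_⟩
  · exact ⟨((imEquiv _).trans (MulEquiv.subgroupCongr h5)).trans ((cjEquiv t (im H)).symm.trans
        ((imEquiv H).symm.trans e))⟩
  · intro g hg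
    rw [smul_eq_cj] at hg
    have h6 : cj (toP F g) (im H) = cj t (im H) := by rw [← im_cj, hg, h5]
    have h7 : cj (t⁻¹ * toP F g) (im H) = im H := by
      rw [← cj_cj, h6, cj_inv_cj]
    have h8 : t⁻¹ * toP F g ∈ normalizer (im H : Set PGL(2, F)) := by
      rw [mem_normalizer_iff]
      intro x
      have : (t⁻¹ * toP F g) * x * (t⁻¹ * toP F g)⁻¹ ∈ cj (t⁻¹ * toP F g) (im H) ↔ x ∈ im H :=
        conj_mem_cj
      rw [h7] at this
      exact this.symm
    rw [norm_pgl hF e] at h8
    have h9 : t⁻¹ * toP F g ∈ PSLr F := im_le H h8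
    have h10 : toP F g ∈ PSLr F := by rw [← toP_range]; exact ⟨g, rfl⟩
    have h11 : t⁻¹ ∈ PSLr F := ((PSLr F).mul_mem_cancel_right h10).1 h9
    exact ht ((PSLr F).inv_mem_iff.1 h11)
  · rintro L ⟨eL⟩
    obtain ⟨g, hg⟩ := A5_conj h2 ((imEquiv L).symm.trans eL) ((imEquiv H).symm.trans e)
    by_cases hgP : g ∈ PSLr F
    · obtain ⟨x, hx⟩ := key H L g hgP hg
      exact ⟨x, Or.inl hx⟩
    · have h6 : t * g ∈ PSLr F := by
        have h7 := mul_mem_PSLr (x := t) (y := g⁻¹) ht (fun h => hgP ((PSLr F).inv_mem_iff.1 h))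
        rwa [inv_inv] at h7
      obtain ⟨x, hx⟩ := key ((cj t (im H)).comap (toP F)) L (t * g) h6 (by rw [← cj_cj, hg, h5])
      exact ⟨x, Or.inr hx⟩

end eleven

end Cfsg.Agent.Dk
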