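import Mathlib
import Cfsg.Agent.Dk.Bin
import Cfsg.Agent.Dk.Eleven2

/-! Binary actions of `PSL₂(q)`: stabilizers inside a torus. -/

set_option autoImplicit false

namespace Cfsg.Agent.Dk

open MulAction Matrix Subgroup LinearAlgebra.Projectivization Projectivization
open scoped MatrixGroups
open H81 (pt0 pt1 ptz ptc)

section cyc

/-- subgroups of a cyclic group are determined by their order -/
theorem mem_of_pow {G : Type*} [Group G] [Finite G] {T H : Subgroup G} (hT : IsCyclic T)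
    (hH : H ≤ T) {u : G} (hu : u ∈ T) {n : ℕ} (hn : Nat.card H = n) (hun : u ^ n = 1) : u ∈ H := by
  classical
  have := Fintype.ofFinite T
  have hn0 : 0 < n := by rw [← hn]; exact Nat.card_pos
  have h1 : (Finset.univ.filter fun a : T => a ^ n = 1).card ≤ n := IsCyclic.card_pow_eq_one_le hn0
  let S : Finset T := Finset.univ.filter fun a : T => (a : G) ∈ H
  have hS : S ⊆ Finset.univ.filter fun a : T => a ^ n = 1 := by
    intro a ha
    simp only [S, Finset.mem_filter, Finset.mem_univ, true_and] at ha ⊢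
    apply Subtype.ext
    have : (⟨(a : G), ha⟩ : H) ^ n = 1 := by rw [← hn]; exact pow_card_eq_one'
    exact congrArg (fun z : H => (z : G)) this
  have hSc : S.card = n := by
    rw [← hn, ← Nat.card_congr (Subgroup.subgroupOfEquivOfLe hH).toEquiv,
      Nat.card_eq_fintype_card, Fintype.card_subtype]
    congr 1
  have heq := Finset.eq_of_subset_of_card_le hS (by rw [hSc]; exact h1)
  have hmem : (⟨u, hu⟩ : T) ∈ Finset.univ.filter fun a : T => a ^ n = 1 := by
    simp only [Finset.mem_filter, Finset.mem_univ, true_and]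
    exact Subtype.ext hun
  rw [← heq] at hmem
  simpa [S] using hmem

end cyc

section mobs

variable {p : ℕ} {Γ X K : Type*} [Group Γ] [MulAction Γ X] [Field K] (M : Mob p Γ X K)
  [Finite Γ]
include M

theorem Mob.comm_TS {x y : X} (hxy : x ≠ y) {a b : Γ} (ha : a ∈ TS Γ x y) (hb : b ∈ TS Γ x y) :
    a * b = b * a :=
  congrArg (fun z : TS Γ x y => (z : Γ)) (cyclic_comm (M.cyclic_TS hxy) ⟨a, ha⟩ ⟨b, hb⟩)

theorem Mob.cj_of_DS {x y : X} (hxy : x ≠ y) {H : Subgroup Γ} (hH : H ≤ TS Γ x y) {c : Γ}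
    (hc : c ∈ DS Γ x y) : cj c H = H := by
  rcases hc with hc | hc
  · ext u
    rw [mem_cj]
    constructor
    · intro h
      have h1 : c⁻¹ * u * c ∈ TS Γ x y := hH h
      have h2 : u ∈ TS Γ x y := by
        have : u = c * (c⁻¹ * u * c) * c⁻¹ := by group
        rw [this]
        exact (TS Γ x y).mul_mem ((TS Γ x y).mul_mem hc h1) ((TS Γ x y).inv_mem hc)
      have h3 : c⁻¹ * u * c = u := by
        rw [mul_assoc, M.comm_TS hxy h2 hc, inv_mul_cancel_left]
      rwa [h3] at h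
    · intro h
      have h3 : c⁻¹ * u * c = u := by
        rw [mul_assoc, M.comm_TS hxy (hH h) hc, inv_mul_cancel_left]
      rwa [h3]
  · obtain ⟨hcc, hinv⟩ := M.swap c x y hxy hc.1 hc.2
    have hcinv : c⁻¹ = c := inv_eq_of_mul_eq_one_right hcc
    ext u
    rw [mem_cj]
    constructor
    · intro h
      have h1 := hinv (c⁻¹ * u * c) (hH h).1 (hH h).2
      have h2 : c * (c⁻¹ * u * c) * c⁻¹ = u := by group
      rw [h2] at h1
      rw [h1]; exact H.inv_mem h
    · intro h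
      have h1 := hinv u (hH h).1 (hH h).2
      rw [hcinv] at h1 ⊢
      rw [h1]; exact H.inv_mem h

/-- subgroups of a torus are TI -/
theorem Mob.TI0 {x y : X} (hxy : x ≠ y) {H : Subgroup Γ} (hH : H ≤ TS Γ x y) {c : Γ}
    (h : H ⊓ cj c H ≠ ⊥) : cj c H = H := by
  obtain ⟨u, hu⟩ := (H ⊓ cj c H).ne_bot_iff_exists_ne_one.1 h
  have hu1 : (u : Γ) ≠ 1 := fun h' => hu (Subtype.ext h')
  obtain ⟨h1, h2⟩ := u.2
  have h1 := hH h1
  have h2 : c⁻¹ * (u : Γ) * c ∈ H := mem_cj.1 h2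
  have h2 := hH h2
  have hx : (u : Γ) • (c • x) = c • x := by
    have := h2.1
    have h3 : (c⁻¹ * (u : Γ) * c) • x = x := this
    rw [mul_smul, mul_smul, inv_smul_eq_iff] at h3
    exact h3
  have hy : (u : Γ) • (c • y) = c • y := by
    have h3 : (c⁻¹ * (u : Γ) * c) • y = y := h2.2
    rw [mul_smul, mul_smul, inv_smul_eq_iff] at h3
    exact h3
  apply M.cj_of_DS hxy hH
  rcases M.mem_pair hxy h1 hu1 hx with hx | hx
  · left
    refine ⟨hx, ?_⟩
    rcases M.mem_pair hxy h1 hu1 hy with hy | hy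
    · exact absurd (smul_left_cancel c (hx.trans hy.symm)) hxy
    · exact hy
  · right
    refine ⟨hx, ?_⟩
    rcases M.mem_pair hxy h1 hu1 hy with hy | hy
    · exact hy
    · exact absurd (smul_left_cancel c (hx.trans hy.symm)) hxy

theorem Mob.TI {x y : X} (hxy : x ≠ y) {H : Subgroup Γ} (hH : H ≤ TS Γ x y) {a b : Γ}
    (h : cj a H ⊓ cj b H ≠ ⊥) : cj a H = cj b H := by
  have h1 : H ⊓ cj (a⁻¹ * b) H ≠ ⊥ := by
    intro h2
    apply h
    rw [Subgroup.eq_bot_iff_forall]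
    rintro u ⟨hu1, hu2⟩
    have h3 : a⁻¹ * u * a ∈ H ⊓ cj (a⁻¹ * b) H := by
      refine ⟨mem_cj.1 hu1, mem_cj.2 ?_⟩
      have : (a⁻¹ * b)⁻¹ * (a⁻¹ * u * a) * (a⁻¹ * b) = b⁻¹ * u * b := by group
      rw [this]; exact mem_cj.1 hu2
    rw [h2, Subgroup.mem_bot] at h3
    have h4 : u = a * (a⁻¹ * u * a) * a⁻¹ := by group
    rw [h4, h3]; group
  have h2 := M.TI0 hxy hH h1
  rw [← cj_cj] at h2
  rw [← cj_cj_inv a (cj b H), h2]

end mobs

section psl

variable {F K : Type*} [Field F] [Field K] [Algebra F K]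

attribute [local instance 10] pact sact

theorem orbitS_eq [IsAlgClosed K] : orbit PSL(2, F) (pt0 K) = orbit PGL(2, F) (pt0 K) := by
  rw [orbitS_pt0, orbit_pt0]

variable {p : ℕ} [hc : CharP K p] [IsAlgClosed K] [Finite F] [hp : Fact p.Prime]
include hc hp

/-- the second fixed point -/
theorem mate_rat {x y : ℙ K (Fin 2 → K)} (hxy : x ≠ y) (h : TS PSL(2, F) x y ≠ ⊥)
    (hx : x ∈ orbit PSL(2, F) (pt0 K)) : y ∈ orbit PSL(2, F) (pt0 K) := by
  obtain ⟨t, ht⟩ := (TS PSL(2, F) x y).ne_bot_iff_exists_ne_one.1 h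
  have ht1 : (t : PSL(2, F)) ≠ 1 := fun h' => ht (Subtype.ext h')
  have hU : (t : PSL(2, F)) ∉ (mobS (p := p) (F := F) (K := K)).U x := by
    intro h1
    exact ht1 ((mobS (p := p) (F := F) (K := K)).TS_inf_U hxy t.2 h1)
  obtain ⟨z, hz, hzx, htz⟩ := (fullS (p := p) (F := F) (K := K)).mate hx t.2.1 hU
  rcases (mobS (p := p) (F := F) (K := K)).mem_pair hxy t.2 ht1 htz with h1 | h1
  · exact absurd h1 hzx
  · rw [← h1]; exact hz

theorem conj_pairs {x y x' y' : ℙ K (Fin 2 → K)} (hxy : x ≠ y) (hxy' : x' ≠ y')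
    (h : TS PSL(2, F) x y ≠ ⊥) (h' : TS PSL(2, F) x' y' ≠ ⊥)
    (ht : x ∈ orbit PSL(2, F) (pt0 K) ↔ x' ∈ orbit PSL(2, F) (pt0 K)) :
    ∃ a : PSL(2, F), a • x = x' ∧ a • y = y' := by
  have hfin : Finite PSL(2, F) := finite_psl
  have hF := fullS (p := p) (F := F) (K := K)
  have M := mobS (p := p) (F := F) (K := K)
  by_cases hx : x ∈ orbit PSL(2, F) (pt0 K)
  · have hx' := ht.1 hx
    have hy := mate_rat (p := p) hxy h hx
    have hy' := mate_rat (p := p) hxy' h' hx'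
    obtain ⟨b, hb⟩ : ∃ b : PSL(2, F), b • x = x' := by
      obtain ⟨c, hc⟩ := hx
      obtain ⟨d, hd⟩ := hx'
      refine ⟨d * c⁻¹, ?_⟩
      have hc : c • pt0 K = x := hc
      have hd : d • pt0 K = x' := hd
      rw [mul_smul, ← hc, inv_smul_smul, hd]
    have hby : b • y ∈ orbit PSL(2, F) (pt0 K) := by
      obtain ⟨d, rfl⟩ := hy
      exact ⟨b * d, by simp [mul_smul]⟩
    have hne : b • y ≠ x' := by
      rw [← hb]; intro h1; exact hxy (smul_left_cancel b h1).symm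
    obtain ⟨u, hu, hu2⟩ := hF.reg hx' hby hy' hne hxy'.symm
    refine ⟨u * b, ?_, ?_⟩
    · rw [mul_smul, hb]; exact M.smul_of_mem_U hu
    · rw [mul_smul, hu2]
  · have hx' := fun h1 => hx (ht.2 h1)
    have mates : ∀ x y : ℙ K (Fin 2 → K), x ≠ y → TS PSL(2, F) x y ≠ ⊥ →
        x ∉ orbit PSL(2, F) (pt0 K) → x ∈ Om PSL(2, F) (ℙ K (Fin 2 → K)) ∧
        stabilizer PSL(2, F) x = TS PSL(2, F) x y := by
      intro x y hxy h hx
      have hOm : x ∈ Om PSL(2, F) (ℙ K (Fin 2 → K)) := by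
        intro h1
        apply h
        rw [eq_bot_iff, ← h1]
        exact inf_le_left
      refine ⟨hOm, ?_⟩
      exact ((ambS (F := F) (K := K)).card_TS_irr (p := p) hx hxy h).2.1.symm
    obtain ⟨h1, h2⟩ := mates x y hxy h hx
    obtain ⟨h1', h2'⟩ := mates x' y' hxy' h' hx'
    obtain ⟨w, hw1, hw2, hw3, -⟩ := hF.exists_irr
    have hxw := (hw3 x h1).resolve_left hx
    have hxw' := (hw3 x' h1').resolve_left hx'
    obtain ⟨a, ha⟩ : ∃ a : PSL(2, F), a • x = x' := by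
      obtain ⟨c, hc⟩ := hxw
      obtain ⟨d, hd⟩ := hxw'
      refine ⟨d * c⁻¹, ?_⟩
      have hc : c • w = x := hc
      have hd : d • w = x' := hd
      rw [mul_smul, ← hc, inv_smul_smul, hd]
    refine ⟨a, ha, ?_⟩
    obtain ⟨t, ht⟩ := (TS PSL(2, F) x y).ne_bot_iff_exists_ne_one.1 h
    have ht1 : (t : PSL(2, F)) ≠ 1 := fun h' => ht (Subtype.ext h')
    have h3 : a * t * a⁻¹ ∈ stabilizer PSL(2, F) x' := by
      rw [mem_stabilizer_iff, mul_smul, mul_smul, ← ha, inv_smul_smul, show (t : PSL(2, F)) • x = x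
        from t.2.1]
    have h4 : (a * t * a⁻¹) • (a • y) = a • y := by
      rw [mul_smul, inv_smul_smul, mul_smul, show (t : PSL(2, F)) • y = y from t.2.2]
    rw [h2'] at h3
    have h5 : a * (t : PSL(2, F)) * a⁻¹ ≠ 1 := by
      rw [Ne, conj_eq_one_iff]; exact ht1
    rcases M.mem_pair hxy' h3 h5 h4 with h6 | h6
    · rw [← ha] at h6
      exact absurd (smul_left_cancel a h6).symm hxy
    · exact h6

/-- a `PGL₂`-conjugate of a subgroup of a torus is a `PSL₂`-conjugate -/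
theorem torus_conj {x y : ℙ K (Fin 2 → K)} (hxy : x ≠ y) {H : Subgroup PSL(2, F)}
    (hH : H ≤ TS PSL(2, F) x y) (P : PGL(2, F)) :
    ∃ a : PSL(2, F), cj P (im H) = im (cj a H) := by
  have hfin : Finite PGL(2, F) := finite_pgl
  by_cases hbot : H = ⊥
  · refine ⟨1, ?_⟩
    rw [cj_one, hbot]
    unfold im
    rw [Subgroup.map_bot]
    unfold cj
    rw [Subgroup.map_bot]
  have hT : TS PSL(2, F) x y ≠ ⊥ := by
    intro h; apply hbot; rw [eq_bot_iff, ← h]; exact hH
  have hPxy : P • x ≠ P • y := fun h => hxy (smul_left_cancel P h)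
  have hT' : TS PSL(2, F) (P • x) (P • y) ≠ ⊥ := by
    obtain ⟨t, ht⟩ := (TS PSL(2, F) x y).ne_bot_iff_exists_ne_one.1 hT
    have ht1 : (t : PSL(2, F)) ≠ 1 := fun h' => ht (Subtype.ext h')
    have h1 : P * toP F t * P⁻¹ ∈ PSLr F :=
      PSLr_normal.conj_mem _ (by rw [← toP_range]; exact ⟨t, rfl⟩) P
    rw [← toP_range] at h1
    obtain ⟨u, hu⟩ := h1
    intro h2
    have h3 : u ∈ TS PSL(2, F) (P • x) (P • y) := by
      constructor
      · show u • P • x = P • x
        rw [sact_def, hu, mul_smul, inv_smul_smul, mul_smul, ← sact_def,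
          show (t : PSL(2, F)) • x = x from t.2.1]
      · show u • P • y = P • y
        rw [sact_def, hu, mul_smul, inv_smul_smul, mul_smul, ← sact_def,
          show (t : PSL(2, F)) • y = y from t.2.2]
    rw [h2, Subgroup.mem_bot] at h3
    rw [h3, map_one] at hu
    have h4 : toP F t = 1 := by
      rw [eq_comm, conj_eq_one_iff] at hu; exact hu
    exact ht1 (toP_injective (by rw [h4, map_one]))
  obtain ⟨a, ha1, ha2⟩ := conj_pairs (p := p) hxy hPxy hT hT' (by
    rw [orbitS_eq]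
    constructor
    · rintro ⟨g, rfl⟩; exact ⟨P * g, by simp [mul_smul]⟩
    · rintro ⟨g, hg⟩
      refine ⟨P⁻¹ * g, ?_⟩
      have hg : g • pt0 K = P • x := hg
      show (P⁻¹ * g) • pt0 K = x
      rw [mul_smul, hg, inv_smul_smul])
  refine ⟨a, ?_⟩
  have hQ : (toP F a)⁻¹ * P ∈ TS PGL(2, F) x y := by
    constructor
    · show ((toP F a)⁻¹ * P) • x = x
      rw [mul_smul, inv_smul_eq_iff, ← sact_def, ha1]
    · show ((toP F a)⁻¹ * P) • y = y
      rw [mul_smul, inv_smul_eq_iff, ← sact_def, ha2]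
  have hHP : im H ≤ TS PGL(2, F) x y := by
    rintro _ ⟨h, hh, rfl⟩
    exact hH hh
  have h5 := (mobF (p := p) (F := F) (K := K)).cj_of_DS hxy hHP (TS_le_DS x y hQ)
  rw [im_cj]
  calc cj P (im H) = cj (toP F a * ((toP F a)⁻¹ * P)) (im H) := by group
    _ = cj (toP F a) (cj ((toP F a)⁻¹ * P) (im H)) := (cj_cj _ _ _).symm
    _ = _ := by rw [h5]

end psl

end Cfsg.Agent.Dk
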