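import Mathlib
import Cfsg.Agent.Dk.BinTor

/-! Binary actions of `PSL₂(q)`: triples of conjugate elements with product one. -/

set_option autoImplicit false

namespace Cfsg.Agent.Dk

open Matrix Subgroup
open scoped MatrixGroups

section mat

variable {F : Type*} [Field F]

/-- companion matrix -/
def Cm (t d : F) : Matrix (Fin 2) (Fin 2) F := !![0, -d; 1, t]

theorem exists_comp {A : Matrix (Fin 2) (Fin 2) F}
    (hA : ¬ (A 1 0 = 0 ∧ A 0 1 = 0 ∧ A 1 1 = A 0 0)) :
    ∃ Q : Matrix (Fin 2) (Fin 2) F, Q.det ≠ 0 ∧ A * Q = Q * Cm A.trace A.det := by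
  by_cases h1 : A 1 0 = 0
  · by_cases h2 : A 0 1 = 0
    · refine ⟨!![1, A 0 0; 1, A 1 1], ?_, ?_⟩
      · rw [Matrix.det_fin_two_of]
        intro h; exact hA ⟨h1, h2, by linear_combination h⟩
      · ext i j
        fin_cases i <;> fin_cases j <;>
          simp [Matrix.mul_apply, Fin.sum_univ_two, Cm, Matrix.trace_fin_two,
            Matrix.det_fin_two, h1, h2] <;> ring
    · refine ⟨!![0, A 0 1; 1, A 1 1], ?_, ?_⟩
      · rw [Matrix.det_fin_two_of]
        intro h; apply h2; linear_combination -h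
      · ext i j
        fin_cases i <;> fin_cases j <;>
          simp [Matrix.mul_apply, Fin.sum_univ_two, Cm, Matrix.trace_fin_two,
            Matrix.det_fin_two, h1] <;> ring
  · refine ⟨!![1, A 0 0; 0, A 1 0], ?_, ?_⟩
    · rw [Matrix.det_fin_two_of]
      intro h; apply h1; linear_combination h
    · ext i j
      fin_cases i <;> fin_cases j <;>
        simp [Matrix.mul_apply, Fin.sum_univ_two, Cm, Matrix.trace_fin_two,
          Matrix.det_fin_two] <;> ring

theorem conj_of_trace {A B : GL (Fin 2) F} (hA : (ProjGenLinGroup.mk A : PGL(2, F)) ≠ 1)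
    (hB : (ProjGenLinGroup.mk B : PGL(2, F)) ≠ 1) (ht : A.1.trace = B.1.trace)
    (hd : A.1.det = B.1.det) :
    ∃ P : PGL(2, F), P * ProjGenLinGroup.mk A * P⁻¹ = ProjGenLinGroup.mk B := by
  rw [Ne, mk_eq_one_iff] at hA hB
  obtain ⟨Q, hQ, hQA⟩ := exists_comp hA
  obtain ⟨R, hR, hRB⟩ := exists_comp hB
  rw [ht, hd] at hQA
  let q : GL (Fin 2) F := GeneralLinearGroup.mkOfDetNeZero Q hQ
  let r : GL (Fin 2) F := GeneralLinearGroup.mkOfDetNeZero R hR
  have hC : (Cm B.1.trace B.1.det).det ≠ 0 := by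
    rw [Cm, Matrix.det_fin_two_of]
    have : B.1.det ≠ 0 := B.det.ne_zero
    intro h; apply this; linear_combination h
  let c : GL (Fin 2) F := GeneralLinearGroup.mkOfDetNeZero _ hC
  have h1 : A * q = q * c := Units.ext hQA
  have h2 : B * r = r * c := Units.ext hRB
  refine ⟨ProjGenLinGroup.mk (r * q⁻¹), ?_⟩
  rw [← map_mul, ← map_inv, ← map_mul]
  congr 1
  have h3 : q⁻¹ * A = c * q⁻¹ := by
    rw [inv_mul_eq_iff_eq_mul, ← mul_assoc, ← h1, mul_inv_cancel_right]
  calc r * q⁻¹ * A * (r * q⁻¹)⁻¹ = r * (q⁻¹ * A) * (q * r⁻¹) := by group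
    _ = r * c * r⁻¹ := by rw [h3]; group
    _ = B := by rw [← h2, mul_inv_cancel_right]

theorem exists_conic [Finite F] {t : F} (h1 : t ^ 2 ≠ 1) (h4 : t ^ 2 ≠ 4) :
    ∃ x y : F, x ^ 2 + t * x * y + y ^ 2 - t * (x + y) + 1 = 0 := by
  by_cases h2 : (2 : F) = 0
  · have hc : CharP F 2 := CharTwo.of_one_ne_zero_of_two_eq_zero one_ne_zero h2
    have ht : t ≠ 0 := by
      rintro rfl
      apply h4
      linear_combination -2 * h2
    have := Fintype.ofFinite F
    obtain ⟨s, hs⟩ := FiniteField.isSquare_of_char_two (ringChar.eq F 2) (t⁻¹)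
    have hts : t * (s * s) = 1 := by rw [← hs, mul_inv_cancel₀ ht]
    refine ⟨s, s, ?_⟩
    linear_combination hts + (s ^ 2 - t * s + 1) * h2
  · have h4' : (4 : F) ≠ 0 := by
      have : (4 : F) = 2 * 2 := by norm_num
      rw [this]; exact mul_ne_zero h2 h2
    have ht2 : t + 2 ≠ 0 := by
      intro h; apply h4; linear_combination (t - 2) * h
    have hd : (4 - t ^ 2) / 4 ≠ 0 := div_ne_zero (sub_ne_zero.2 (Ne.symm h4)) h4'
    obtain ⟨y, x, hxy⟩ := exists_rep h2 hd ((t - 2) * (t + 1) / (t + 2))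
    refine ⟨t / (t + 2) + (x - t * y / 2), t / (t + 2) + y, ?_⟩
    have e : (t / (t + 2) + (x - t * y / 2)) ^ 2 + t * (t / (t + 2) + (x - t * y / 2)) *
        (t / (t + 2) + y) + (t / (t + 2) + y) ^ 2 -
        t * ((t / (t + 2) + (x - t * y / 2)) + (t / (t + 2) + y)) + 1 =
        ((4 - t ^ 2) / 4 * y ^ 2 + x ^ 2) - (t - 2) * (t + 1) / (t + 2) := by
      field_simp
      ring
    rw [e, hxy, sub_self]

theorem exists_triple0 [Finite F] {t : F} (h1 : t ^ 2 ≠ 1) (h4 : t ^ 2 ≠ 4) :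
    ∃ B C : Matrix (Fin 2) (Fin 2) F, B.det = 1 ∧ C.det = 1 ∧ B.trace = t ∧ C.trace = t ∧
      B * C = Cm t 1 ∧ Cm t 1 * B ≠ B * Cm t 1 := by
  obtain ⟨x, y, h⟩ := exists_conic h1 h4
  have hdet : (!![x, y - t * (1 - x); y, t - x] : Matrix (Fin 2) (Fin 2) F).det = 1 := by
    rw [Matrix.det_fin_two_of]; linear_combination -h
  refine ⟨!![x, y - t * (1 - x); y, t - x],
    !![t - x, -(y - t * (1 - x)); -y, x] * Cm t 1, hdet, ?_, ?_, ?_, ?_, ?_⟩
  · rw [Matrix.det_mul, Cm, Matrix.det_fin_two_of, Matrix.det_fin_two_of]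
    linear_combination -h
  · rw [Matrix.trace_fin_two_of]; ring
  · rw [Matrix.trace_fin_two]
    simp [Matrix.mul_apply, Fin.sum_univ_two, Cm]
    ring
  · rw [← Matrix.mul_assoc]
    have : (!![x, y - t * (1 - x); y, t - x] : Matrix (Fin 2) (Fin 2) F) *
        !![t - x, -(y - t * (1 - x)); -y, x] = 1 := by
      ext i j
      fin_cases i <;> fin_cases j <;>
        simp [Matrix.mul_apply, Fin.sum_univ_two]
      · linear_combination -h
      · ring
      · ring
      · linear_combination -h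
    rw [this, Matrix.one_mul]
  · intro hcomm
    have e1 := congrFun (congrFun hcomm 0) 0
    have e2 := congrFun (congrFun hcomm 1) 0
    have e3 := congrFun (congrFun hcomm 0) 1
    simp [Matrix.mul_apply, Fin.sum_univ_two, Cm] at e1 e2 e3
    -- `2 y = t (1 - x)` and `2 x = t (1 - y)`
    have k1 : 2 * y = t * (1 - x) := by linear_combination -e1
    have k2 : 2 * x = t * (1 - y) := by linear_combination e2
    have k3 : (t - 2) * (x - y) = 0 := by linear_combination k1 - k2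
    have ht2 : t - 2 ≠ 0 := by
      intro h'; apply h4; linear_combination (t + 2) * h'
    have k4 : x = y := by
      rcases mul_eq_zero.1 k3 with h' | h'
      · exact absurd h' ht2
      · exact sub_eq_zero.1 h'
    subst k4
    have k5 : (2 - t) * (1 + t) = 0 := by
      linear_combination (2 + t) * h + (- (2 + t) * x + t) * (k1)
    rcases mul_eq_zero.1 k5 with h' | h'
    · apply ht2; linear_combination -h'
    · apply h1; linear_combination (t - 1) * h'

theorem exists_triple1 [Finite F] (A : SL(2, F)) (h1 : A.1.trace ^ 2 ≠ 1)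
    (h4 : A.1.trace ^ 2 ≠ 4) : ∃ B C : SL(2, F), A = B * C ∧ B.1.trace = A.1.trace ∧
      C.1.trace = A.1.trace ∧ A * B ≠ B * A := by
  have hns : ¬ (A.1 1 0 = 0 ∧ A.1 0 1 = 0 ∧ A.1 1 1 = A.1 0 0) := by
    rintro ⟨k1, k2, k3⟩
    apply h4
    have hd := A.2
    rw [Matrix.det_fin_two, k1, k2, k3] at hd
    rw [Matrix.trace_fin_two, k3]
    linear_combination 4 * hd
  obtain ⟨Q, hQ, hQA⟩ := exists_comp hns
  rw [A.2] at hQA
  obtain ⟨B, C, hB, hC, tB, tC, hBC, hcomm⟩ := exists_triple0 h1 h4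
  have hu : IsUnit Q.det := isUnit_iff_ne_zero.2 hQ
  have hdet : ∀ X : Matrix (Fin 2) (Fin 2) F, X.det = 1 → (Q * X * Q⁻¹).det = 1 := by
    intro X hX
    rw [Matrix.det_mul, Matrix.det_mul, hX, mul_one, Matrix.det_nonsing_inv,
      Ring.mul_inverse_cancel _ hu]
  have htr : ∀ X : Matrix (Fin 2) (Fin 2) F, (Q * X * Q⁻¹).trace = X.trace := by
    intro X
    rw [Matrix.trace_mul_cycle, Matrix.nonsing_inv_mul _ hu, Matrix.one_mul]
  have hmul : ∀ X Y : Matrix (Fin 2) (Fin 2) F, Q * X * Q⁻¹ * (Q * Y * Q⁻¹) = Q * (X * Y) * Q⁻¹ := by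
    intro X Y
    calc _ = Q * X * (Q⁻¹ * Q) * Y * Q⁻¹ := by simp only [Matrix.mul_assoc]
      _ = _ := by rw [Matrix.nonsing_inv_mul _ hu, Matrix.mul_one]; simp only [Matrix.mul_assoc]
  have hA : A.1 = Q * Cm A.1.trace 1 * Q⁻¹ := by
    rw [← hQA, Matrix.mul_assoc, Matrix.mul_nonsing_inv _ hu, Matrix.mul_one]
  refine ⟨⟨Q * B * Q⁻¹, hdet B hB⟩, ⟨Q * C * Q⁻¹, hdet C hC⟩, ?_, ?_, ?_, ?_⟩
  · apply Subtype.ext
    show A.1 = Q * B * Q⁻¹ * (Q * C * Q⁻¹)
    rw [hmul, hBC]; exact hA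
  · show (Q * B * Q⁻¹).trace = _
    rw [htr, tB]
  · show (Q * C * Q⁻¹).trace = _
    rw [htr, tC]
  · intro h
    apply hcomm
    have h' : A.1 * (Q * B * Q⁻¹) = Q * B * Q⁻¹ * A.1 := congrArg Subtype.val h
    have hinj : ∀ X Y : Matrix (Fin 2) (Fin 2) F, Q * X * Q⁻¹ = Q * Y * Q⁻¹ → X = Y := by
      intro X Y hXY
      have : Q⁻¹ * (Q * X * Q⁻¹) * Q = Q⁻¹ * (Q * Y * Q⁻¹) * Q := by rw [hXY]
      have e : ∀ X : Matrix (Fin 2) (Fin 2) F, Q⁻¹ * (Q * X * Q⁻¹) * Q = X := by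
        intro X
        calc Q⁻¹ * (Q * X * Q⁻¹) * Q = (Q⁻¹ * Q) * X * (Q⁻¹ * Q) := by
              simp only [Matrix.mul_assoc]
          _ = X := by rw [Matrix.nonsing_inv_mul _ hu, Matrix.one_mul, Matrix.mul_one]
      rwa [e, e] at this
    apply hinj
    rw [← hmul, ← hmul, ← hA]; exact h'

theorem trace_sq_ne_four [Finite F] {p : ℕ} [hp : Fact p.Prime] [CharP F p] {A : SL(2, F)}
    (h : (toP F (QuotientGroup.mk A)) ^ p ≠ 1) : A.1.trace ^ 2 ≠ 4 := by
  intro h4
  apply h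
  obtain ⟨e, he, hee⟩ : ∃ e : F, A.1.trace = 2 * e ∧ e ^ 2 = 1 := by
    have h5 : (A.1.trace - 2) * (A.1.trace + 2) = 0 := by linear_combination h4
    rcases mul_eq_zero.1 h5 with h6 | h6
    · exact ⟨1, by linear_combination h6, by ring⟩
    · exact ⟨-1, by linear_combination h6, by ring⟩
  have hN : (A.1 - e • (1 : Matrix (Fin 2) (Fin 2) F)) ^ 2 = 0 := by
    have hA2 := mat_pow2 A.1
    rw [A.2, he] at hA2
    rw [sq, Matrix.sub_mul, Matrix.mul_sub, Matrix.mul_sub, ← sq, hA2]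
    ext i j
    fin_cases i <;> fin_cases j <;> simp <;> first | linear_combination hee | ring
  have hAe : A.1 = e • (1 : Matrix (Fin 2) (Fin 2) F) + (A.1 - e • 1) := by abel
  have hcomm : Commute (e • (1 : Matrix (Fin 2) (Fin 2) F)) (A.1 - e • 1) :=
    (Commute.one_left _).smul_left e
  have hp2 := hp.out.two_le
  have hpow : A.1 ^ p = e ^ p • (1 : Matrix (Fin 2) (Fin 2) F) := by
    rw [hAe, add_pow_char_of_commute _ hcomm, smul_pow, one_pow]
    have : (A.1 - e • (1 : Matrix (Fin 2) (Fin 2) F)) ^ p = 0 := by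
      obtain ⟨k, rfl⟩ : ∃ k, p = 2 + k := ⟨p - 2, by omega⟩
      rw [pow_add, hN, Matrix.zero_mul]
    rw [this, add_zero]
  rw [toP_mk, ← map_pow, ← map_pow, mk_eq_one_iff]
  have e1 : (SpecialLinearGroup.toGL (A ^ p)).1 = A.1 ^ p := rfl
  rw [e1, hpow]
  simp

theorem trace_sq_ne_one {A : SL(2, F)} (h : (toP F (QuotientGroup.mk A)) ^ 3 ≠ 1) :
    A.1.trace ^ 2 ≠ 1 := by
  intro h4
  apply h
  rw [toP_mk, ← map_pow, ← map_pow, mk_eq_one_iff]
  have e1 : (SpecialLinearGroup.toGL (A ^ 3)).1 = A.1 ^ 3 := rfl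
  rw [e1, mat_pow3, A.2, h4]
  simp

/-- an element of `PSL₂` whose order is not three or the characteristic is a product of two
conjugates (in `PGL₂`) outside the cyclic group it generates -/
theorem exists_triple [Finite F] {p : ℕ} [hp : Fact p.Prime] [CharP F p] {h : PSL(2, F)}
    (h3 : h ^ 3 ≠ 1) (hp' : h ^ p ≠ 1) : ∃ g k : PSL(2, F), h = g * k ∧
      (∃ P : PGL(2, F), P * toP F h * P⁻¹ = toP F g) ∧
      (∃ P : PGL(2, F), P * toP F h * P⁻¹ = toP F k) ∧
      (∀ j : ℤ, g ≠ h ^ j) ∧ (∀ j : ℤ, k ≠ h ^ j) := by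
  induction h using QuotientGroup.induction_on with
  | H A =>
    have hne : ∀ n : ℕ, (QuotientGroup.mk A : PSL(2, F)) ^ n ≠ 1 →
        (toP F (QuotientGroup.mk A)) ^ n ≠ 1 := by
      intro n h1 h2
      apply h1
      apply toP_injective
      rw [map_pow, h2, map_one]
    have h1 := trace_sq_ne_one (hne 3 h3)
    have h4 := trace_sq_ne_four (p := p) (hne p hp')
    obtain ⟨B, C, hA, tB, tC, hcomm⟩ := exists_triple1 A h1 h4
    have nons : ∀ X : SL(2, F), X.1.trace = A.1.trace →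
        (ProjGenLinGroup.mk (SpecialLinearGroup.toGL X) : PGL(2, F)) ≠ 1 := by
      intro X hX h5
      rw [mk_eq_one_iff] at h5
      obtain ⟨k1, k2, k3⟩ := h5
      have k1 : X.1 1 0 = 0 := k1
      have k2 : X.1 0 1 = 0 := k2
      have k3 : X.1 1 1 = X.1 0 0 := k3
      apply h4
      rw [← hX]
      have hd := X.2
      rw [Matrix.det_fin_two, k1, k2, k3] at hd
      rw [Matrix.trace_fin_two, k3]
      linear_combination 4 * hd
    have hpow : ∀ (X : SL(2, F)) (j : ℤ), (QuotientGroup.mk X : PSL(2, F)) =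
        (QuotientGroup.mk A) ^ j → A * X = X * A := by
      intro X j hX
      have hX' : (QuotientGroup.mk (A ^ j) : PSL(2, F)) = QuotientGroup.mk X := hX.symm
      rw [QuotientGroup.eq] at hX'
      have hz := Subgroup.mem_center_iff.1 hX' A
      have hXz : X = A ^ j * ((A ^ j)⁻¹ * X) := by group
      rw [hXz]
      calc A * (A ^ j * ((A ^ j)⁻¹ * X)) = A ^ j * (A * ((A ^ j)⁻¹ * X)) := by
            rw [← mul_assoc, ((Commute.refl A).zpow_right j).eq, mul_assoc]
        _ = A ^ j * ((A ^ j)⁻¹ * X) * A := by rw [hz, mul_assoc, mul_assoc, mul_assoc]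
    refine ⟨QuotientGroup.mk B, QuotientGroup.mk C, ?_, ?_, ?_, ?_, ?_⟩
    · rw [hA]; rfl
    · exact conj_of_trace (nons A rfl) (nons B tB) tB.symm (A.2.trans B.2.symm)
    · exact conj_of_trace (nons A rfl) (nons C tC) tC.symm (A.2.trans C.2.symm)
    · intro j hj
      exact hcomm (hpow B j hj)
    · intro j hj
      have h5 := hpow C j hj
      apply hcomm
      have hB : B = A * C⁻¹ := by rw [hA, mul_inv_cancel_right]
      rw [hB]
      have : A * C⁻¹ = C⁻¹ * A := by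
        rw [eq_inv_mul_iff_mul_eq, ← mul_assoc, ← h5, mul_inv_cancel_right]
      rw [mul_assoc, ← this]

end mat

end Cfsg.Agent.Dk
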