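import Mathlib
import Cfsg.Agent.Dk.BinTrip

/-! Binary actions of `PSL₂(q)` whose stabilizer lies in a torus. -/

set_option autoImplicit false

namespace Cfsg.Agent.Dk

open MulAction Matrix Subgroup LinearAlgebra.Projectivization Projectivization
open scoped MatrixGroups
open H81 (pt0 pt1 ptz ptc)

theorem a4_triple : ∃ g k : alternatingGroup (Fin 4), g ≠ 1 ∧ g ^ 3 = 1 ∧ k ≠ 1 ∧ k ^ 3 = 1 ∧
    g * k ≠ 1 ∧ (g * k) ^ 3 = 1 ∧ (g * k) * g ≠ g * (g * k) ∧ (g * k) * k ≠ k * (g * k) := by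
  decide +kernel

section psl

variable {F K : Type*} [Field F] [Field K] [Algebra F K]

attribute [local instance 10] pact sact

variable {p : ℕ} [hc : CharP K p] [IsAlgClosed K] [Finite F] [hp : Fact p.Prime]
include hc hp

theorem pow_ne_of_TS {x y : ℙ K (Fin 2 → K)} (hxy : x ≠ y) {h : PSL(2, F)}
    (hh : h ∈ TS PSL(2, F) x y) (h1 : h ≠ 1) : h ^ p ≠ 1 := by
  have hfin : Finite PSL(2, F) := finite_psl
  intro h2
  have h3 : h ∈ (mobS (p := p) (F := F) (K := K)).U x :=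
    (mobS (p := p) (F := F) (K := K)).mem_U_of_pow (k := 1) hh.1 (by rw [pow_one]; exact h2)
  exact h1 ((mobS (p := p) (F := F) (K := K)).TS_inf_U hxy hh h3)

theorem bin_torus {x y : ℙ K (Fin 2 → K)} (hxy : x ≠ y) {H : Subgroup PSL(2, F)}
    (hH : H ≤ TS PSL(2, F) x y) (hB : Bin PSL(2, F) (PSL(2, F) ⧸ H)) :
    Nat.card H ∣ 3 := by
  have hfin : Finite PSL(2, F) := finite_psl
  have hcp : CharP F p := (algebraMap F K).charP (algebraMap F K).injective p
  have M := mobS (p := p) (F := F) (K := K)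
  have hcyc : IsCyclic H := by
    have h1 := M.cyclic_TS hxy
    exact isCyclic_of_injective (Subgroup.inclusion hH) (Subgroup.inclusion_injective hH)
  obtain ⟨h, hh⟩ := hcyc.exists_generator
  by_cases h3 : (h : PSL(2, F)) ^ 3 = 1
  · have h4 : orderOf h ∣ 3 := orderOf_dvd_of_pow_eq_one (Subtype.ext h3)
    rwa [orderOf_eq_card_of_forall_mem_zpowers hh] at h4
  · exfalso
    have h1 : (h : PSL(2, F)) ≠ 1 := by
      intro h1; apply h3; rw [h1, one_pow]
    obtain ⟨g, k, he, ⟨P, hP⟩, ⟨Q, hQ⟩, hg, hk⟩ := exists_triple (p := p) h3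
      (pow_ne_of_TS (p := p) hxy (hH h.2) h1)
    have key : ∀ (u : PSL(2, F)) (P : PGL(2, F)), P * toP F (h : PSL(2, F)) * P⁻¹ = toP F u →
        (∀ j : ℤ, u ≠ (h : PSL(2, F)) ^ j) → ∃ a : PSL(2, F), u ∈ cj a H ∧ H ⊓ cj a H = ⊥ := by
      intro u P hP hu
      obtain ⟨a, ha⟩ := torus_conj (p := p) hxy hH P
      have h4 : u ∈ cj a H := by
        apply toP_mem_im.1
        rw [← ha, ← hP]
        exact conj_mem_cj.2 (toP_mem_im.2 h.2)
      refine ⟨a, h4, ?_⟩
      by_contra hne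
      have h5 := M.TI0 hxy hH hne
      rw [h5] at h4
      obtain ⟨j, hj⟩ := hh ⟨u, h4⟩
      apply hu j
      exact (congrArg (fun z : H => (z : PSL(2, F))) hj).symm
    obtain ⟨a, ha, ha2⟩ := key g P hP hg
    obtain ⟨b, hb, hb2⟩ := key k Q hQ hk
    apply h1
    apply hB.tri_one (a := 1) (b := a) (c := b) (by rw [cj_one]; exact h.2) ha hb he
    · rw [cj_one]; exact ha2
    · rw [cj_one]; exact hb2

/-- elements of order three are conjugate into a torus subgroup of order three -/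
theorem mem_conj_three {x y : ℙ K (Fin 2 → K)} (hxy : x ≠ y) {H : Subgroup PSL(2, F)}
    (hH : H ≤ TS PSL(2, F) x y) (h3 : Nat.card H = 3) (hp3 : p ≠ 3) {u : PSL(2, F)} (hu1 : u ≠ 1)
    (hu : u ^ 3 = 1) : ∃ a : PSL(2, F), u ∈ cj a H := by
  have hfin : Finite PSL(2, F) := finite_psl
  have hcp : CharP F p := (algebraMap F K).charP (algebraMap F K).injective p
  have M := mobS (p := p) (F := F) (K := K)
  have : Fact (Nat.Prime 3) := ⟨Nat.prime_three⟩
  -- the fixed points of `u`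
  obtain ⟨x', hx'⟩ := M.exists_fix hu1
  have hnU : u ∉ M.U x' := by
    intro h
    have h4 := M.pow_of_mem_U h
    have h5 : u ^ Nat.gcd p 3 = 1 := pow_gcd_eq_one.2 ⟨h4, hu⟩
    rw [(Nat.coprime_primes hp.out Nat.prime_three).2 hp3, pow_one] at h5
    exact hu1 h5
  obtain ⟨y', hxy', hf⟩ : ∃ y', y' ≠ x' ∧ u • y' = y' := by
    rcases M.fix_or hu1 hx' with h | ⟨y', h1, h2⟩
    · exfalso; apply hnU; rw [M.mem_U]; exact Or.inr h
    · refine ⟨y', h1, ?_⟩
      have : y' ∈ fixedBy (ℙ K (Fin 2 → K)) u := by rw [h2]; simp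
      exact this
  have huT : u ∈ TS PSL(2, F) x' y' := ⟨hx', hf⟩
  have hT : TS PSL(2, F) x y ≠ ⊥ := by
    intro h
    have h4 := Subgroup.card_dvd_of_le hH
    rw [h3, h, Subgroup.card_bot] at h4
    omega
  have hT' : TS PSL(2, F) x' y' ≠ ⊥ := by
    intro h
    rw [h, Subgroup.mem_bot] at huT
    exact hu1 huT
  have d1 : 3 ∣ Nat.card (TS PSL(2, F) x y) := by rw [← h3]; exact Subgroup.card_dvd_of_le hH
  have d2 : 3 ∣ Nat.card (TS PSL(2, F) x' y') := by
    have h4 : orderOf u = 3 := orderOf_eq_prime hu hu1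
    rw [← h4]; exact Subgroup.orderOf_dvd_natCard _ huT
  have ht := t_psl (F := F) (K := K) (p := p)
  have htp : 0 < (mobS (p := p) (F := F) (K := K)).t (pt0 K) := by
    rcases Nat.eq_zero_or_pos ((mobS (p := p) (F := F) (K := K)).t (pt0 K)) with h | h
    · rw [h, mul_zero] at ht
      have := Finite.one_lt_card (α := F)
      omega
    · exact h
  -- types
  have ratT : ∀ x y : ℙ K (Fin 2 → K), x ≠ y → TS PSL(2, F) x y ≠ ⊥ →
      x ∈ orbit PSL(2, F) (pt0 K) → Nat.gcd 2 (Nat.card F - 1) * Nat.card (TS PSL(2, F) x y) =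
        Nat.card F - 1 := by
    intro x y hxy hT hx
    rw [(fullS (p := p) (F := F) (K := K)).card_TS hx (mate_rat (p := p) hxy hT hx) hxy, ht]
  have irrT : ∀ x y : ℙ K (Fin 2 → K), x ≠ y → TS PSL(2, F) x y ≠ ⊥ →
      x ∉ orbit PSL(2, F) (pt0 K) → Nat.gcd 2 (Nat.card F - 1) * Nat.card (TS PSL(2, F) x y) =
        Nat.card F + 1 := by
    intro x y hxy hT hx
    have h4 : Nat.card (TS PSL(2, F) x y) * (Nat.card F - 1) =
        (Nat.card F + 1) * (mobS (p := p) (F := F) (K := K)).t (pt0 K) :=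
      ((ambS (F := F) (K := K)).card_TS_irr (p := p) hx hxy hT).1
    apply Nat.eq_of_mul_eq_mul_right htp
    rw [← h4]
    calc Nat.gcd 2 (Nat.card F - 1) * Nat.card (TS PSL(2, F) x y) *
          (mobS (p := p) (F := F) (K := K)).t (pt0 K)
        = Nat.card (TS PSL(2, F) x y) * (Nat.gcd 2 (Nat.card F - 1) *
          (mobS (p := p) (F := F) (K := K)).t (pt0 K)) := by ring
      _ = _ := by rw [ht]
  have hq := Finite.one_lt_card (α := F)
  have type : x ∈ orbit PSL(2, F) (pt0 K) ↔ x' ∈ orbit PSL(2, F) (pt0 K) := by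
    constructor
    · intro h
      by_contra h'
      have e1 := ratT x y hxy hT h
      have e2 := irrT x' y' hxy'.symm hT' h'
      have f1 : 3 ∣ Nat.card F - 1 := by rw [← e1]; exact Dvd.dvd.mul_left d1 _
      have f2 : 3 ∣ Nat.card F + 1 := by rw [← e2]; exact Dvd.dvd.mul_left d2 _
      omega
    · intro h
      by_contra h'
      have e1 := irrT x y hxy hT h'
      have e2 := ratT x' y' hxy'.symm hT' h
      have f1 : 3 ∣ Nat.card F + 1 := by rw [← e1]; exact Dvd.dvd.mul_left d1 _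
      have f2 : 3 ∣ Nat.card F - 1 := by rw [← e2]; exact Dvd.dvd.mul_left d2 _
      omega
  obtain ⟨a, ha1, ha2⟩ := conj_pairs (p := p) hxy hxy'.symm hT hT' type
  refine ⟨a, ?_⟩
  have hle : cj a H ≤ TS PSL(2, F) x' y' := by
    rintro _ ⟨h, hh, rfl⟩
    constructor
    · show (a * h * a⁻¹) • x' = x'
      rw [← ha1, mul_smul, inv_smul_smul, mul_smul, show h • x = x from (hH hh).1]
    · show (a * h * a⁻¹) • y' = y'
      rw [← ha2, mul_smul, inv_smul_smul, mul_smul, show h • y = y from (hH hh).2]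
  exact mem_of_pow (M.cyclic_TS hxy'.symm) hle huT (by rw [card_cj, h3]) hu

theorem bin_three {x y : ℙ K (Fin 2 → K)} (hxy : x ≠ y) {H : Subgroup PSL(2, F)}
    (hH : H ≤ TS PSL(2, F) x y) (h3 : Nat.card H = 3)
    (hB : Bin PSL(2, F) (PSL(2, F) ⧸ H)) : ∃ a : ℕ, Odd a ∧ Nat.card F = 2 ^ a := by
  have hfin : Finite PSL(2, F) := finite_psl
  have := Fintype.ofFinite F
  have hcp : CharP F p := (algebraMap F K).charP (algebraMap F K).injective p
  have M := mobS (p := p) (F := F) (K := K)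
  have : Fact (Nat.Prime 3) := ⟨Nat.prime_three⟩
  have hp3 : p ≠ 3 := by
    intro hp3
    obtain ⟨h, hh⟩ := exists_prime_orderOf_dvd_card' (G := H) 3 (by rw [h3])
    have h1 : (h : PSL(2, F)) ≠ 1 := by
      intro h1
      have : h = 1 := Subtype.ext h1
      rw [this, orderOf_one] at hh; omega
    apply pow_ne_of_TS (p := p) hxy (hH h.2) h1
    have h4 : h ^ 3 = 1 := by rw [← hh]; exact pow_orderOf_eq_one h
    rw [hp3]
    exact congrArg (fun z : H => (z : PSL(2, F))) h4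
  obtain ⟨n, -, hn⟩ := FiniteField.card F p
  by_contra hcon
  obtain ⟨R, ⟨e⟩⟩ := (Cfsg.Agent.S0802.result (F := F) p n hn).2 (by
    rintro ⟨h1, h2⟩
    apply hcon
    exact ⟨n, h2, by rw [Nat.card_eq_fintype_card, hn, h1]⟩)
  obtain ⟨g, k, h1, h2, h4, h5, h6, h7, h8, h9⟩ := a4_triple
  have key : ∀ σ : alternatingGroup (Fin 4), σ ≠ 1 → σ ^ 3 = 1 → ∃ a : PSL(2, F),
      ((e.symm σ : R) : PSL(2, F)) ∈ cj a H := by
    intro σ hσ hσ3
    apply mem_conj_three (p := p) hxy hH h3 hp3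
    · exact ne_one_coe (by rwa [Ne, EmbeddingLike.map_eq_one_iff])
    · exact pow_coe (by rw [← map_pow, hσ3, map_one])
  obtain ⟨a, ha⟩ := key (g * k) h6 h7
  obtain ⟨b, hb⟩ := key g h1 h2
  obtain ⟨c, hc'⟩ := key k h4 h5
  have comm : ∀ (a b : PSL(2, F)) (σ τ : alternatingGroup (Fin 4)),
      ((e.symm σ : R) : PSL(2, F)) ∈ cj a H → ((e.symm τ : R) : PSL(2, F)) ∈ cj b H →
      σ * τ ≠ τ * σ → cj a H ⊓ cj b H = ⊥ := by
    intro a b σ τ hσ hτ hne
    by_contra hcon
    have h10 := M.TI hxy hH hcon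
    rw [← h10] at hτ
    apply hne
    have h11 := M.comm_TS hxy (hH (mem_cj.1 hσ)) (hH (mem_cj.1 hτ))
    have h12 : ((e.symm σ : R) : PSL(2, F)) * ((e.symm τ : R) : PSL(2, F)) =
        ((e.symm τ : R) : PSL(2, F)) * ((e.symm σ : R) : PSL(2, F)) := by
      have := congrArg (fun z => a * z * a⁻¹) h11
      have e1 : ∀ u v : PSL(2, F), a * (a⁻¹ * u * a * (a⁻¹ * v * a)) * a⁻¹ = u * v := by
        intro u v; group
      exact (e1 _ _).symm.trans (this.trans (e1 _ _))
    have h13 : e.symm (σ * τ) = e.symm (τ * σ) := by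
      rw [map_mul, map_mul]; exact Subtype.ext h12
    exact e.symm.injective h13
  have hone : ((e.symm (g * k) : R) : PSL(2, F)) = 1 := by
    apply hB.tri_one ha hb hc'
    · rw [map_mul, Subgroup.coe_mul]
    · exact comm a b (g * k) g ha hb h8
    · exact comm a c (g * k) k ha hc' h9
  exact ne_one_coe (by rwa [Ne, EmbeddingLike.map_eq_one_iff]) hone

end psl

end Cfsg.Agent.Dk
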