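import Mathlib
import Cfsg.Agent.Dk.BinA

/-! Binary actions of `PSL₂(q)` whose stabilizer contains a unipotent element. -/

set_option autoImplicit false

namespace Cfsg.Agent.Dk

open MulAction Matrix Subgroup LinearAlgebra.Projectivization Projectivization
open scoped MatrixGroups
open H81 (pt0 pt1 ptz ptc)

section psl

variable {F K : Type*} [Field F] [Field K] [Algebra F K]

attribute [local instance 10] pact sact

theorem XS_smul_pt0 (a : F) : XS a • pt0 K = pt0 K := XX_smul_pt0 a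

theorem XS_smul_ptz (a : F) (z : K) : XS a • ptz K z = ptz K (z + algebraMap F K a) :=
  XX_smul_ptz a z

theorem XS_add (a b : F) : XS (a + b) = XS a * XS b := by
  apply toP_injective
  rw [map_mul, toP_XS, toP_XS, toP_XS, XX_add]

theorem XS_zero : XS (0 : F) = 1 := by
  apply toP_injective
  rw [toP_XS, XX_zero, map_one]

theorem XS_neg (a : F) : XS (-a) = (XS a)⁻¹ := by
  rw [eq_inv_iff_mul_eq_one, ← XS_add, neg_add_cancel, XS_zero]

theorem XS_inj {a b : F} (h : XS a = XS b) : a = b := by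
  apply XX_inj
  rw [← toP_XS, ← toP_XS, h]

theorem XS_nsmul (n : ℕ) (a : F) : XS ((n : F) * a) = XS a ^ n := by
  induction n with
  | zero => simp [XS_zero]
  | succ n ih => rw [Nat.cast_succ, add_mul, one_mul, XS_add, ih, pow_succ]

variable {p : ℕ} [hc : CharP K p] [IsAlgClosed K] [hp : Fact p.Prime]

theorem ext_psl {u v : PSL(2, F)} (h0 : u • pt0 K = v • pt0 K)
    (hz : ∀ z : K, u • ptz K z = v • ptz K z) : u = v := by
  obtain ⟨p, hp⟩ := CharP.exists K
  have h1 : v⁻¹ * u = 1 := by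
    apply (mobS (p := p) (F := F) (K := K)).eq_one_of_three (a := pt0 K) (b := ptz K 0)
      (c := ptz K 1) (H81.pt0_ne_ptz _) (H81.pt0_ne_ptz _)
      (fun h => zero_ne_one (ptz_eq_iff.1 h))
    · rw [mul_smul, h0, inv_smul_smul]
    · rw [mul_smul, hz, inv_smul_smul]
    · rw [mul_smul, hz, inv_smul_smul]
  rw [inv_mul_eq_one] at h1
  exact h1.symm

/-- elements fixing the point at infinity are affine -/
theorem exists_aff {y : PSL(2, F)} (hy : y • pt0 K = pt0 K) : ∃ m b : F, m ≠ 0 ∧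
    (∀ z : K, y • ptz K z = ptz K (algebraMap F K m * z + algebraMap F K b)) ∧
    ∀ a : F, y * XS a * y⁻¹ = XS (m * a) := by
  obtain ⟨g, hg⟩ := ProjGenLinGroup.mk_surjective (toP F y)
  have hy' : toP F y • pt0 K = pt0 K := hy
  rw [← hg, mk_smul_pt0_iff] at hy'
  have hd : g.1 0 0 * g.1 1 1 ≠ 0 := by
    have h1 : g.1.det ≠ 0 := g.det.ne_zero
    rw [Matrix.det_fin_two, hy', mul_zero, sub_zero] at h1
    exact h1
  have h00 : g.1 0 0 ≠ 0 := left_ne_zero_of_mul hd
  have h11 : g.1 1 1 ≠ 0 := right_ne_zero_of_mul hd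
  have hz : ∀ z : K, y • ptz K z = ptz K (algebraMap F K (g.1 0 0 / g.1 1 1) * z +
      algebraMap F K (g.1 0 1 / g.1 1 1)) := by
    intro z
    have h1 : y • ptz K z = toP F y • ptz K z := rfl
    rw [h1, ← hg, mk_smul_ptz_iff, hy', map_zero, zero_mul, zero_add, map_div₀, map_div₀]
    have h2 : algebraMap F K (g.1 1 1) ≠ 0 := by
      rw [Ne, map_eq_zero]; exact h11
    field_simp
  refine ⟨g.1 0 0 / g.1 1 1, g.1 0 1 / g.1 1 1, div_ne_zero h00 h11, hz, ?_⟩
  intro a
  rw [mul_inv_eq_iff_eq_mul]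
  apply ext_psl (K := K)
  · rw [mul_smul, XS_smul_pt0, hy, mul_smul, hy, XS_smul_pt0]
  · intro z
    rw [mul_smul, XS_smul_ptz, hz, mul_smul, hz, XS_smul_ptz, ptz_eq_iff, map_mul]
    ring

/-- the fixed affine points of a subgroup of the Borel subgroup lie in one coset -/
theorem one_coset [Finite F] {H : Subgroup PSL(2, F)} (hH : ∀ h ∈ H, h • pt0 K = pt0 K)
    {y1 y2 : PSL(2, F)} {s1 s2 : F} (h1 : y1 ∈ H) (h2 : y2 ∈ H) (hn1 : y1 ≠ 1) (hn2 : y2 ≠ 1)
    (f1 : y1 • ptz K (algebraMap F K s1) = ptz K (algebraMap F K s1))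
    (f2 : y2 • ptz K (algebraMap F K s2) = ptz K (algebraMap F K s2)) : XS (s1 - s2) ∈ H := by
  have key : ∀ (y : PSL(2, F)) (s : F), y ∈ H → y ≠ 1 →
      y • ptz K (algebraMap F K s) = ptz K (algebraMap F K s) → ∃ m : F, m - 1 ≠ 0 ∧
      (∀ z : K, y • ptz K z = ptz K (algebraMap F K m * (z - algebraMap F K s) +
        algebraMap F K s)) ∧ ∀ a : F, XS a ∈ H → XS (m * a) ∈ H := by
    intro y s hy hy1 hf
    obtain ⟨m, b, hm, hz, hc⟩ := exists_aff (hH y hy)
    rw [hz, ptz_eq_iff] at hf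
    refine ⟨m, ?_, ?_, ?_⟩
    · intro hm1
      have hm1 : m = 1 := sub_eq_zero.1 hm1
      rw [hm1, map_one, one_mul] at hf
      have hb : algebraMap F K b = 0 := by linear_combination hf
      apply hy1
      apply ext_psl (K := K)
      · rw [one_smul]; exact hH y hy
      · intro z; rw [hz, hm1, map_one, one_mul, hb, add_zero, one_smul]
    · intro z
      rw [hz, ptz_eq_iff]
      linear_combination hf
    · intro a ha
      rw [← hc]; exact H.mul_mem (H.mul_mem hy ha) (H.inv_mem hy)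
  obtain ⟨m1, hm1, hz1, hc1⟩ := key y1 s1 h1 hn1 f1
  obtain ⟨m2, hm2, hz2, hc2⟩ := key y2 s2 h2 hn2 f2
  -- the additive group
  let E : AddSubgroup F :=
    { carrier := {a | XS a ∈ H}
      zero_mem' := by show XS 0 ∈ H; rw [XS_zero]; exact H.one_mem
      add_mem' := by
        intro a b ha hb
        show XS (a + b) ∈ H
        rw [XS_add]; exact H.mul_mem ha hb
      neg_mem' := by
        intro a ha
        show XS (-a) ∈ H
        rw [XS_neg]; exact H.inv_mem ha }
  have hdiv : ∀ m : F, m - 1 ≠ 0 → (∀ a : F, XS a ∈ H → XS (m * a) ∈ H) → ∀ a : F,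
      (m - 1) * a ∈ E → a ∈ E := by
    intro m hm hmE a ha
    let f : E → E := fun x => ⟨(m - 1) * x, by
      have : (m - 1) * (x : F) = m * x - x := by ring
      rw [this]
      exact E.sub_mem (hmE x x.2) x.2⟩
    have hf : Function.Injective f := by
      intro x x' h
      have h' : (m - 1) * (x : F) = (m - 1) * x' := congrArg Subtype.val h
      exact Subtype.ext (mul_left_cancel₀ hm h')
    obtain ⟨x, hx⟩ := (Finite.injective_iff_surjective.1 hf) ⟨_, ha⟩
    have hx' : (m - 1) * (x : F) = (m - 1) * a := congrArg Subtype.val hx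
    rw [← mul_left_cancel₀ hm hx']; exact x.2
  have hcomm : y1 * y2 = XS ((m1 - 1) * ((m2 - 1) * (s1 - s2))) * (y2 * y1) := by
    apply ext_psl (K := K)
    · rw [mul_smul, mul_smul, mul_smul, hH y2 h2, hH y1 h1, hH y2 h2, XS_smul_pt0]
    · intro z
      rw [mul_smul, mul_smul, mul_smul, hz2, hz1, hz1, hz2, XS_smul_ptz, ptz_eq_iff]
      simp only [map_mul, map_sub, map_one]
      ring
  have hmem : (m1 - 1) * ((m2 - 1) * (s1 - s2)) ∈ E := by
    show XS _ ∈ H
    have : XS ((m1 - 1) * ((m2 - 1) * (s1 - s2))) = y1 * y2 * (y2 * y1)⁻¹ := by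
      rw [hcomm, mul_inv_cancel_right]
    rw [this]
    exact H.mul_mem (H.mul_mem h1 h2) (H.inv_mem (H.mul_mem h2 h1))
  exact hdiv m2 hm2 hc2 _ (hdiv m1 hm1 hc1 _ hmem)

/-- the elements for the unipotent triangle -/
theorem exists_uni (h2 : (2 : F) ≠ 0) {e : F} (he : e ≠ 0) : ∃ b c : PSL(2, F),
    XS e = (b * XS (-e) * b⁻¹) * (c * XS (-e) * c⁻¹) ∧ b • pt0 K = ptz K 0 ∧
    c • pt0 K = ptz K (algebraMap F K (-(e / 2))) := by
  have hb : (!![0, -(e / 2); 2 / e, 0] : Matrix (Fin 2) (Fin 2) F).det = 1 := by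
    rw [Matrix.det_fin_two_of]; field_simp; ring
  have hc : (!![1, 0; -(2 / e), 1] : Matrix (Fin 2) (Fin 2) F).det = 1 := by
    rw [Matrix.det_fin_two_of]; ring
  let b : SL(2, F) := ⟨_, hb⟩
  let c : SL(2, F) := ⟨_, hc⟩
  refine ⟨QuotientGroup.mk b, QuotientGroup.mk c, ?_, ?_, ?_⟩
  · have hg : (!![1, 0; 4 / e, 1] : Matrix (Fin 2) (Fin 2) F).det = 1 := by
      rw [Matrix.det_fin_two_of]; ring
    have hk : (!![-1, -e; 4 / e, 3] : Matrix (Fin 2) (Fin 2) F).det = 1 := by
      rw [Matrix.det_fin_two_of]; field_simp; ring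
    let gt : SL(2, F) := ⟨_, hg⟩
    let kt : SL(2, F) := ⟨_, hk⟩
    have h1 : b * H81.xx (-e) * b⁻¹ = gt := by
      rw [mul_inv_eq_iff_eq_mul]
      apply Subtype.ext
      show !![0, -(e / 2); 2 / e, 0] * (H81.xx (-e)).1 = !![1, 0; 4 / e, 1] * !![0, -(e / 2); 2 / e, 0]
      rw [H81.xx_val]
      ext i j
      fin_cases i <;> fin_cases j <;> simp [Matrix.mul_apply, Fin.sum_univ_two] <;>
        field_simp <;> ring
    have h3 : c * H81.xx (-e) * c⁻¹ = kt := by
      rw [mul_inv_eq_iff_eq_mul]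
      apply Subtype.ext
      show !![1, 0; -(2 / e), 1] * (H81.xx (-e)).1 = !![-1, -e; 4 / e, 3] * !![1, 0; -(2 / e), 1]
      rw [H81.xx_val]
      ext i j
      fin_cases i <;> fin_cases j <;> simp [Matrix.mul_apply, Fin.sum_univ_two] <;>
        field_simp <;> ring
    have key : H81.xx e = -((b * H81.xx (-e) * b⁻¹) * (c * H81.xx (-e) * c⁻¹)) := by
      rw [h1, h3]
      apply Subtype.ext
      show (H81.xx e).1 = -(!![1, 0; 4 / e, 1] * !![-1, -e; 4 / e, 3])
      rw [H81.xx_val]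
      ext i j
      fin_cases i <;> fin_cases j <;> simp [Matrix.mul_apply, Fin.sum_univ_two] <;>
        field_simp <;> ring
    have h1 : XS e = QuotientGroup.mk ((b * H81.xx (-e) * b⁻¹) * (c * H81.xx (-e) * c⁻¹)) := by
      unfold XS
      rw [QuotientGroup.eq, key]
      have : (-((b * H81.xx (-e) * b⁻¹) * (c * H81.xx (-e) * c⁻¹)))⁻¹ *
        ((b * H81.xx (-e) * b⁻¹) * (c * H81.xx (-e) * c⁻¹)) = (-1 : SL(2, F)) := by
        rw [inv_mul_eq_iff_eq_mul]; simp
      rw [this]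
      exact Subgroup.mem_center_iff.2 (fun g => by simp)
    exact h1
  · have h1 : (QuotientGroup.mk b : PSL(2, F)) • pt0 K =
      (ProjGenLinGroup.mk (SpecialLinearGroup.toGL b) : PGL(2, F)) • pt0 K := rfl
    rw [h1, mk_smul_pt0_ptz_iff]
    show algebraMap F K 0 = 0 * _
    rw [map_zero, zero_mul]
  · have h1 : (QuotientGroup.mk c : PSL(2, F)) • pt0 K =
      (ProjGenLinGroup.mk (SpecialLinearGroup.toGL c) : PGL(2, F)) • pt0 K := rfl
    rw [h1, mk_smul_pt0_ptz_iff]
    show algebraMap F K 1 = algebraMap F K (-(e / 2)) * algebraMap F K (-(2 / e))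
    rw [← map_mul]
    congr 1
    field_simp

theorem half_mem (h2 : (2 : F) ≠ 0) {H : Subgroup PSL(2, F)} [Finite F] {e : F} (he : XS e ∈ H) :
    XS (e / 2) ∈ H := by
  obtain ⟨p, hp, hc⟩ := exists_char (F := F)
  have hp2 : p ≠ 2 := by
    rintro rfl
    exact h2 CharTwo.two_eq_zero
  have hodd := hp.odd_of_ne_two hp2
  obtain ⟨m, hm⟩ := hodd
  have h1 : ((m + 1 : ℕ) : F) * 2 = 1 := by
    have h3 : ((p : ℕ) : F) = 0 := CharP.cast_eq_zero F p
    rw [hm] at h3
    push_cast at h3 ⊢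
    linear_combination h3
  have h3 : e / 2 = ((m + 1 : ℕ) : F) * e := by
    rw [div_eq_iff h2]
    linear_combination -e * h1
  rw [h3, XS_nsmul]
  exact H.pow_mem he _

theorem bin_uni [Finite F] (h2 : (2 : F) ≠ 0) {H : Subgroup PSL(2, F)}
    (hH : ∀ h ∈ H, h • pt0 K = pt0 K) (hB : Bin PSL(2, F) (PSL(2, F) ⧸ H)) {e : F} (he : e ≠ 0)
    (heH : XS e ∈ H) : (∀ a : F, XS a ∈ H) ∧ ∃ y ∈ H, y ≠ 1 ∧
      ∃ s : F, y • ptz K (algebraMap F K s) = ptz K (algebraMap F K s) := by
  by_contra hcon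
  -- the translation
  obtain ⟨f, hf1, hf2⟩ : ∃ f : F, (∀ y ∈ H, y ≠ 1 → y • ptz K (algebraMap F K (0 - f)) ≠
      ptz K (algebraMap F K (0 - f))) ∧ (∀ y ∈ H, y ≠ 1 →
      y • ptz K (algebraMap F K (-(e / 2) - f)) ≠ ptz K (algebraMap F K (-(e / 2) - f))) := by
    by_cases hex : ∃ y ∈ H, y ≠ 1 ∧
      ∃ s : F, y • ptz K (algebraMap F K s) = ptz K (algebraMap F K s)
    · obtain ⟨y0, hy0, hy1, s0, hs0⟩ := hex
      obtain ⟨d, hd⟩ : ∃ d : F, XS d ∉ H := by
        by_contra hall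
        push Not at hall
        exact hcon ⟨hall, y0, hy0, hy1, s0, hs0⟩
      refine ⟨-s0 + d, ?_, ?_⟩
      · intro y hy hy1' hfix
        have := one_coset hH hy0 hy hy1 hy1' hs0 hfix
        apply hd
        have e1 : s0 - (0 - (-s0 + d)) = d := by ring
        rwa [e1] at this
      · intro y hy hy1' hfix
        have := one_coset hH hy0 hy hy1 hy1' hs0 hfix
        apply hd
        have e1 : s0 - (-(e / 2) - (-s0 + d)) = d + e / 2 := by ring
        rw [e1, XS_add] at this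
        exact (H.mul_mem_cancel_right (half_mem h2 heH)).1 this
    · refine ⟨0, ?_, ?_⟩
      · intro y hy hy1 hfix
        exact hex ⟨y, hy, hy1, _, hfix⟩
      · intro y hy hy1 hfix
        exact hex ⟨y, hy, hy1, _, hfix⟩
  obtain ⟨b, c, hbc, hb0, hc0⟩ := exists_uni (K := K) h2 he
  have hneg : XS (-e) ∈ H := by rw [XS_neg]; exact H.inv_mem heH
  have key : ∀ (b : PSL(2, F)) (r : F), b • pt0 K = ptz K (algebraMap F K r) →
      (∀ y ∈ H, y ≠ 1 → y • ptz K (algebraMap F K (r - f)) ≠ ptz K (algebraMap F K (r - f))) →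
      cj (XS f) H ⊓ cj b H = ⊥ := by
    intro b r hb hr
    rw [Subgroup.eq_bot_iff_forall]
    rintro u ⟨hu1, hu2⟩
    have hu1 := mem_cj.1 hu1
    have hu2 := mem_cj.1 hu2
    have h3 : u • ptz K (algebraMap F K r) = ptz K (algebraMap F K r) := by
      have h4 := hH _ hu2
      rw [mul_smul, mul_smul, inv_smul_eq_iff, hb] at h4
      exact h4
    have h4 : ((XS f)⁻¹ * u * XS f) • ptz K (algebraMap F K (r - f)) =
        ptz K (algebraMap F K (r - f)) := by
      rw [mul_smul, mul_smul, XS_smul_ptz, ← map_add, sub_add_cancel, h3, inv_smul_eq_iff,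
        XS_smul_ptz, ← map_add, sub_add_cancel]
    by_contra hu
    apply hr _ hu1 _ h4
    intro h5
    apply hu
    have h6 : u = XS f * ((XS f)⁻¹ * u * XS f) * (XS f)⁻¹ := by group
    rw [h6, h5]; group
  have h1 : XS e = 1 := by
    apply hB.tri_one (a := XS f) (b := b) (c := c) _ (conj_mem_cj.2 hneg) (conj_mem_cj.2 hneg) hbc
    · exact key b 0 (by rw [hb0, map_zero]) hf1
    · exact key c _ hc0 hf2
    · rw [mem_cj]
      have : (XS f)⁻¹ * XS e * XS f = XS e := by
        rw [← XS_neg, ← XS_add, ← XS_add]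
        congr 1; ring
      rw [this]; exact heH
  apply he
  apply XS_inj
  rw [h1, XS_zero]

end psl

end Cfsg.Agent.Dk
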