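import Mathlib
import Cfsg.Agent.Dk.BinB

/-! Binary actions of `PSL₂(q)` on vectors modulo scalars. -/

set_option autoImplicit false

namespace Cfsg.Agent.Dk

open MulAction Matrix Subgroup LinearAlgebra.Projectivization Projectivization
open scoped MatrixGroups
open H81 (pt0 pt1 ptz ptc)

section vec

variable {F K : Type*} [Field F] [Field K] [Algebra F K] [IsAlgClosed K]

attribute [local instance 10] pact sact

/-- the multiplier set of a subgroup of the Borel subgroup -/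
def Mu (H : Subgroup PSL(2, F)) (e : F) : Prop :=
  ∃ A : SL(2, F), (QuotientGroup.mk A : PSL(2, F)) ∈ H ∧ A.1 1 0 = 0 ∧ A.1 0 0 = e

theorem mk_mem_iff {H : Subgroup PSL(2, F)} (hH : ∀ h ∈ H, h • pt0 K = pt0 K)
    (hU : ∀ a : F, XS a ∈ H) (A : SL(2, F)) :
    (QuotientGroup.mk A : PSL(2, F)) ∈ H ↔ A.1 1 0 = 0 ∧ Mu H (A.1 0 0) := by
  constructor
  · intro h
    have h1 := hH _ h
    have h2 : (ProjGenLinGroup.mk (SpecialLinearGroup.toGL A) : PGL(2, F)) • pt0 K = pt0 K := h1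
    rw [mk_smul_pt0_iff] at h2
    exact ⟨h2, A, h, h2, rfl⟩
  · rintro ⟨h1, A', h2, h3, h4⟩
    have hd := A.2
    rw [Matrix.det_fin_two, h1, mul_zero, sub_zero] at hd
    have hd' := A'.2
    rw [Matrix.det_fin_two, h3, mul_zero, sub_zero, h4] at hd'
    have h00 : A.1 0 0 ≠ 0 := by intro h; rw [h, zero_mul] at hd; exact zero_ne_one hd
    have h11 : A'.1 1 1 = A.1 1 1 := by
      apply mul_left_cancel₀ h00
      rw [hd, hd']
    have hA : A = A' * H81.xx (A.1 1 1 * (A.1 0 1 - A'.1 0 1)) := by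
      apply Subtype.ext
      show A.1 = A'.1 * (H81.xx (A.1 1 1 * (A.1 0 1 - A'.1 0 1))).1
      rw [H81.xx_val]
      ext i j
      fin_cases i <;> fin_cases j
      · simp [Matrix.mul_apply, Fin.sum_univ_two, h4]
      · simp [Matrix.mul_apply, Fin.sum_univ_two, h4]
        linear_combination (-(A.1 0 1 - A'.1 0 1)) * hd
      · simp [Matrix.mul_apply, Fin.sum_univ_two, h1, h3]
      · simp [Matrix.mul_apply, Fin.sum_univ_two, h3, h11]
    rw [hA]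
    exact H.mul_mem h2 (hU _)

theorem mu_one {H : Subgroup PSL(2, F)} : Mu H 1 := ⟨1, H.one_mem, by simp, by simp⟩

theorem Mu.inv {H : Subgroup PSL(2, F)} {e : F} (h : Mu H e) : Mu H e⁻¹ := by
  obtain ⟨A, h1, h2, h3⟩ := h
  have hd := A.2
  rw [Matrix.det_fin_two, h2, mul_zero, sub_zero, h3] at hd
  refine ⟨A⁻¹, H.inv_mem h1, ?_, ?_⟩
  · rw [Matrix.SpecialLinearGroup.coe_inv, Matrix.adjugate_fin_two]
    simp [h2]
  · rw [Matrix.SpecialLinearGroup.coe_inv, Matrix.adjugate_fin_two]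
    show A.1 1 1 = e⁻¹
    exact eq_inv_of_mul_eq_one_right hd

theorem smul_iff {H : Subgroup PSL(2, F)} (hH : ∀ h ∈ H, h • pt0 K = pt0 K)
    (hU : ∀ a : F, XS a ∈ H) (x A A' : SL(2, F)) :
    (QuotientGroup.mk x : PSL(2, F)) •
      (QuotientGroup.mk (QuotientGroup.mk A : PSL(2, F)) : PSL(2, F) ⧸ H) =
      QuotientGroup.mk (QuotientGroup.mk A' : PSL(2, F)) ↔
    ∃ e : F, Mu H e ∧ (x.1 * A.1) 0 0 = e * A'.1 0 0 ∧ (x.1 * A.1) 1 0 = e * A'.1 1 0 := by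
  rw [smul_mk_eq]
  have h1 : (QuotientGroup.mk A' : PSL(2, F))⁻¹ * QuotientGroup.mk x * QuotientGroup.mk A =
      QuotientGroup.mk (A'⁻¹ * x * A) := rfl
  rw [h1, mk_mem_iff hH hU]
  have e1 : (A'⁻¹ * x * A).1 = !![A'.1 1 1, -A'.1 0 1; -A'.1 1 0, A'.1 0 0] * (x.1 * A.1) := by
    rw [← Matrix.mul_assoc]
    show (A'⁻¹).1 * x.1 * A.1 = _
    rw [Matrix.SpecialLinearGroup.coe_inv, Matrix.adjugate_fin_two]
  rw [e1]
  set N := x.1 * A.1 with hN
  have hd := A'.2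
  rw [Matrix.det_fin_two] at hd
  have e00 : (!![A'.1 1 1, -A'.1 0 1; -A'.1 1 0, A'.1 0 0] * N) 0 0 =
      A'.1 1 1 * N 0 0 - A'.1 0 1 * N 1 0 := by
    simp [Matrix.mul_apply, Fin.sum_univ_two]; ring
  have e10 : (!![A'.1 1 1, -A'.1 0 1; -A'.1 1 0, A'.1 0 0] * N) 1 0 =
      -(A'.1 1 0 * N 0 0) + A'.1 0 0 * N 1 0 := by
    simp [Matrix.mul_apply, Fin.sum_univ_two]
  rw [e00, e10]
  constructor
  · rintro ⟨h2, h3⟩
    refine ⟨_, h3, ?_, ?_⟩
    · linear_combination (-(N 0 0)) * hd + A'.1 0 1 * h2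
    · linear_combination (-(N 1 0)) * hd + A'.1 1 1 * h2
  · rintro ⟨e, he, h2, h3⟩
    have h4 : A'.1 1 1 * N 0 0 - A'.1 0 1 * N 1 0 = e := by
      rw [h2, h3]; linear_combination e * hd
    rw [h4]
    refine ⟨?_, he⟩
    rw [h2, h3]; ring

/-- an element of `SL₂` with prescribed action on two vectors -/
theorem exists_map {u0 u1 v0 v1 u0' u1' v0' v1' : F} (hD : u0 * v1 - v0 * u1 ≠ 0)
    (h : u0 * v1 - v0 * u1 = u0' * v1' - v0' * u1') : ∃ x : SL(2, F),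
      x.1 0 0 * u0 + x.1 0 1 * u1 = u0' ∧ x.1 1 0 * u0 + x.1 1 1 * u1 = u1' ∧
      x.1 0 0 * v0 + x.1 0 1 * v1 = v0' ∧ x.1 1 0 * v0 + x.1 1 1 * v1 = v1' := by
  set D := u0 * v1 - v0 * u1 with hDdef
  have hdet : (!![(u0' * v1 - v0' * u1) / D, (v0' * u0 - u0' * v0) / D;
      (u1' * v1 - v1' * u1) / D, (v1' * u0 - u1' * v0) / D] : Matrix (Fin 2) (Fin 2) F).det = 1 := by
    rw [Matrix.det_fin_two_of]
    field_simp
    rw [sq]
    nth_rewrite 1 [h]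
    rw [hDdef]; ring
  refine ⟨⟨_, hdet⟩, ?_, ?_, ?_, ?_⟩
  · show (u0' * v1 - v0' * u1) / D * u0 + (v0' * u0 - u0' * v0) / D * u1 = u0'
    field_simp; rw [hDdef]; ring
  · show (u1' * v1 - v1' * u1) / D * u0 + (v1' * u0 - u1' * v0) / D * u1 = u1'
    field_simp; rw [hDdef]; ring
  · show (u0' * v1 - v0' * u1) / D * v0 + (v0' * u0 - u0' * v0) / D * v1 = v0'
    field_simp; rw [hDdef]; ring
  · show (u1' * v1 - v1' * u1) / D * v0 + (v1' * u0 - u1' * v0) / D * v1 = v1'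
    field_simp; rw [hDdef]; ring

theorem pair_equiv {H : Subgroup PSL(2, F)} (hH : ∀ h ∈ H, h • pt0 K = pt0 K)
    (hU : ∀ a : F, XS a ∈ H) {A B A' B' : SL(2, F)} {e : F} (he : Mu H e)
    (hD : A.1 0 0 * B.1 1 0 - B.1 0 0 * A.1 1 0 ≠ 0)
    (h : A.1 0 0 * B.1 1 0 - B.1 0 0 * A.1 1 0 =
      e * (A'.1 0 0 * B'.1 1 0 - B'.1 0 0 * A'.1 1 0)) :
    ∃ x : PSL(2, F), x • (QuotientGroup.mk (QuotientGroup.mk A : PSL(2, F)) : PSL(2, F) ⧸ H) =
        QuotientGroup.mk (QuotientGroup.mk A' : PSL(2, F)) ∧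
      x • (QuotientGroup.mk (QuotientGroup.mk B : PSL(2, F)) : PSL(2, F) ⧸ H) =
        QuotientGroup.mk (QuotientGroup.mk B' : PSL(2, F)) := by
  obtain ⟨x, h1, h2, h3, h4⟩ := exists_map (u0' := A'.1 0 0) (u1' := A'.1 1 0)
    (v0' := e * B'.1 0 0) (v1' := e * B'.1 1 0) hD (by rw [h]; ring)
  refine ⟨QuotientGroup.mk x, (smul_iff hH hU x A A').2 ⟨1, mu_one, ?_, ?_⟩,
    (smul_iff hH hU x B B').2 ⟨e, he, ?_, ?_⟩⟩
  · rw [Matrix.mul_apply, Fin.sum_univ_two, one_mul]; exact h1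
  · rw [Matrix.mul_apply, Fin.sum_univ_two, one_mul]; exact h2
  · rw [Matrix.mul_apply, Fin.sum_univ_two]; exact h3
  · rw [Matrix.mul_apply, Fin.sum_univ_two]; exact h4

theorem exists_col (u v : F) (h : u ≠ 0 ∨ v ≠ 0) : ∃ A : SL(2, F), A.1 0 0 = u ∧ A.1 1 0 = v := by
  rcases eq_or_ne u 0 with h0 | h0
  · have hv : v ≠ 0 := by tauto
    have hd : (!![u, -v⁻¹; v, 0] : Matrix (Fin 2) (Fin 2) F).det = 1 := by
      rw [Matrix.det_fin_two_of]; field_simp; ring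
    exact ⟨⟨_, hd⟩, rfl, rfl⟩
  · have hd : (!![u, 0; v, u⁻¹] : Matrix (Fin 2) (Fin 2) F).det = 1 := by
      rw [Matrix.det_fin_two_of]; field_simp; ring
    exact ⟨⟨_, hd⟩, rfl, rfl⟩

end vec

theorem Bin.four {G X : Type*} [Group G] [MulAction G X] (hB : Bin G X) (p1 p2 p3 p4 p5 : X)
    (h1 : ∃ x : G, x • p1 = p1 ∧ x • p4 = p5) (h2 : ∃ x : G, x • p2 = p2 ∧ x • p4 = p5)
    (h3 : ∃ x : G, x • p3 = p3 ∧ x • p4 = p5) :
    ∃ x : G, x • p1 = p1 ∧ x • p2 = p2 ∧ x • p3 = p3 ∧ x • p4 = p5 := by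
  obtain ⟨x, hx⟩ := hB 4 ![p1, p2, p3, p4] ![p1, p2, p3, p5] (by norm_num) (by
    intro i j hij
    fin_cases i <;> fin_cases j
    · exact absurd rfl hij
    · exact ⟨1, one_smul _ _, one_smul _ _⟩
    · exact ⟨1, one_smul _ _, one_smul _ _⟩
    · exact h1
    · exact ⟨1, one_smul _ _, one_smul _ _⟩
    · exact absurd rfl hij
    · exact ⟨1, one_smul _ _, one_smul _ _⟩
    · exact h2
    · exact ⟨1, one_smul _ _, one_smul _ _⟩
    · exact ⟨1, one_smul _ _, one_smul _ _⟩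
    · exact absurd rfl hij
    · exact h3
    · obtain ⟨x, h1, h2⟩ := h1; exact ⟨x, h2, h1⟩
    · obtain ⟨x, h1, h2⟩ := h2; exact ⟨x, h2, h1⟩
    · obtain ⟨x, h1, h2⟩ := h3; exact ⟨x, h2, h1⟩
    · exact absurd rfl hij)
  exact ⟨x, hx 0, hx 1, hx 2, hx 3⟩

section vec

variable {F K : Type*} [Field F] [Field K] [Algebra F K] [IsAlgClosed K]

attribute [local instance 10] pact sact

theorem not_bin_four {H : Subgroup PSL(2, F)} (hH : ∀ h ∈ H, h • pt0 K = pt0 K)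
    (hU : ∀ a : F, XS a ∈ H) {al : F} (hal : Mu H al) (hal0 : al ≠ 0) (hal2 : al * al ≠ 1) :
    ¬ Bin PSL(2, F) (PSL(2, F) ⧸ H) := by
  intro hB
  have hal1 : al ≠ 1 := by rintro rfl; exact hal2 (one_mul 1)
  have hinv1 : al⁻¹ ≠ 1 := by
    intro h; apply hal1; rw [← inv_inv al, h, inv_one]
  have hne : al ≠ al⁻¹ := by
    intro h; apply hal2
    nth_rewrite 2 [h]
    exact mul_inv_cancel₀ hal0
  have hai : al⁻¹ ≠ 0 := inv_ne_zero hal0
  have hmm : al * al⁻¹ = 1 := mul_inv_cancel₀ hal0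
  have ha0 : al⁻¹ - 1 ≠ 0 := sub_ne_zero.2 hinv1
  have hb0 : al - 1 ≠ 0 := sub_ne_zero.2 hal1
  obtain ⟨g1, a1, b1⟩ := exists_col (1 : F) 0 (Or.inl one_ne_zero)
  obtain ⟨g2, a2, b2⟩ := exists_col (0 : F) 1 (Or.inr one_ne_zero)
  obtain ⟨g3, a3, b3⟩ := exists_col (1 : F) 1 (Or.inl one_ne_zero)
  obtain ⟨g4, a4, b4⟩ := exists_col (al⁻¹ - 1) (al - 1) (Or.inl ha0)
  obtain ⟨g5, a5, b5⟩ := exists_col ((al⁻¹ - 1) * al) ((al - 1) * al⁻¹)
    (Or.inl (mul_ne_zero ha0 hal0))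
  have p1 := pair_equiv (A := g1) (B := g4) (A' := g1) (B' := g5) hH hU (e := al) hal
    (by rw [a1, b1, a4, b4]; simpa using hb0)
    (by rw [a1, b1, a4, b4, a5, b5]; linear_combination (-(al - 1)) * hmm)
  have p2 := pair_equiv (A := g2) (B := g4) (A' := g2) (B' := g5) hH hU (e := al⁻¹) hal.inv
    (by rw [a2, b2, a4, b4, zero_mul, zero_sub, mul_one]; exact neg_ne_zero.2 ha0)
    (by rw [a2, b2, a4, b4, a5, b5]; linear_combination (al⁻¹ - 1) * hmm)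
  have p3 := pair_equiv (A := g3) (B := g4) (A' := g3) (B' := g5) hH hU (e := 1) mu_one
    (by rw [a3, b3, a4, b4]; intro h; apply hne; linear_combination h)
    (by rw [a3, b3, a4, b4, a5, b5]; ring)
  obtain ⟨x, k1, k2, k3, k4⟩ := hB.four _ _ _ _ _ p1 p2 p3
  induction x using QuotientGroup.induction_on with
  | H x =>
    obtain ⟨e1, -, k1, k1'⟩ := (smul_iff hH hU x g1 g1).1 k1
    obtain ⟨e2, -, k2, k2'⟩ := (smul_iff hH hU x g2 g2).1 k2
    obtain ⟨e3, -, k3, k3'⟩ := (smul_iff hH hU x g3 g3).1 k3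
    obtain ⟨e4, -, k4, k4'⟩ := (smul_iff hH hU x g4 g5).1 k4
    rw [Matrix.mul_apply, Fin.sum_univ_two] at k1 k1' k2 k2' k3 k3' k4 k4'
    rw [a1, b1] at k1 k1'
    rw [a2, b2] at k2 k2'
    rw [a3, b3] at k3 k3'
    rw [a4, b4, a5] at k4
    rw [a4, b4, b5] at k4'
    have m1 : x.1 0 1 = 0 := by linear_combination k2
    have m0 : x.1 1 0 = 0 := by linear_combination k1'
    have m2 : x.1 0 0 = x.1 1 1 := by linear_combination k3 - k3' + m0 - m1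
    have hd := x.2
    rw [Matrix.det_fin_two, m1, m0, ← m2] at hd
    have hx0 : x.1 0 0 ≠ 0 := by intro h; rw [h] at hd; simp at hd
    have n1 : x.1 0 0 = e4 * al := by
      apply mul_right_cancel₀ ha0
      linear_combination k4 - (al - 1) * m1
    have n2 : x.1 0 0 = e4 * al⁻¹ := by
      apply mul_right_cancel₀ hb0
      linear_combination k4' - (al⁻¹ - 1) * m0 + (al - 1) * m2
    have he4 : e4 ≠ 0 := by rintro rfl; rw [zero_mul] at n1; exact hx0 n1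
    apply hne
    apply mul_left_cancel₀ he4
    rw [← n1, ← n2]

end vec

end Cfsg.Agent.Dk
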