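import Mathlib
import Cfsg.Agent.Dk.BinVec
import Cfsg.Agent.Dk.Amb

/-! Binary actions of `PSL₂(q)` with stabilizer in a Borel subgroup. -/

set_option autoImplicit false

namespace Cfsg.Agent.Dk

open MulAction Matrix Subgroup LinearAlgebra.Projectivization Projectivization
open scoped MatrixGroups
open H81 (pt0 pt1 ptz ptc)

section vec

variable {F K : Type*} [Field F] [Field K] [Algebra F K] [IsAlgClosed K]

attribute [local instance 10] pact sact

theorem not_bin_rat {H : Subgroup PSL(2, F)} (hH : ∀ h ∈ H, h • pt0 K = pt0 K)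
    (hU : ∀ a : F, XS a ∈ H) {y : PSL(2, F)} (hy : y ∈ H) (hy1 : y ≠ 1) {s : F}
    (hs : y • ptz K (algebraMap F K s) = ptz K (algebraMap F K s)) :
    ¬ Bin PSL(2, F) (PSL(2, F) ⧸ H) := by
  induction y using QuotientGroup.induction_on with
  | H A =>
    obtain ⟨h10, hMu⟩ := (mk_mem_iff hH hU A).1 hy
    have hd := A.2
    rw [Matrix.det_fin_two, h10, mul_zero, sub_zero] at hd
    have h00 : A.1 0 0 ≠ 0 := by intro h; rw [h, zero_mul] at hd; exact zero_ne_one hd
    refine not_bin_four hH hU hMu h00 ?_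
    intro hsq
    have h11 : A.1 1 1 = A.1 0 0 := by
      apply mul_left_cancel₀ h00
      rw [hd, hsq]
    have hs' : (ProjGenLinGroup.mk (SpecialLinearGroup.toGL A) : PGL(2, F)) •
      ptz K (algebraMap F K s) = ptz K (algebraMap F K s) := hs
    rw [mk_smul_ptz_iff] at hs'
    have hs'' : algebraMap F K (A.1 0 0) * algebraMap F K s + algebraMap F K (A.1 0 1) =
      algebraMap F K s * (algebraMap F K (A.1 1 0) * algebraMap F K s + algebraMap F K (A.1 1 1)) :=
      hs'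
    rw [h10, h11, map_zero, zero_mul, zero_add, mul_comm (algebraMap F K s), add_eq_left,
      map_eq_zero] at hs''
    apply hy1
    apply (QuotientGroup.eq_one_iff A).2
    rw [Matrix.SpecialLinearGroup.mem_center_iff]
    refine ⟨A.1 0 0, by rw [Fintype.card_fin, sq, hsq], ?_⟩
    ext i j
    fin_cases i <;> fin_cases j
    · simp
    · simp [hs'']
    · simp [h10]
    · simp [h11]

theorem prop_vec {u0 u1 v0 v1 : F} (hu : u0 ≠ 0 ∨ u1 ≠ 0) (h : u0 * v1 - v0 * u1 = 0) :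
    ∃ c : F, v0 = c * u0 ∧ v1 = c * u1 := by
  rcases hu with hu | hu
  · refine ⟨v0 / u0, by field_simp, ?_⟩
    field_simp
    linear_combination h
  · refine ⟨v1 / u1, ?_, by field_simp⟩
    field_simp
    linear_combination -h

theorem col_ne (A : SL(2, F)) : A.1 0 0 ≠ 0 ∨ A.1 1 0 ≠ 0 := by
  by_contra h
  push Not at h
  have hd := A.2
  rw [Matrix.det_fin_two, h.1, h.2] at hd
  simp at hd

/-- the action on nonzero vectors is binary -/
theorem bin_vec {H : Subgroup PSL(2, F)} (hH : ∀ h ∈ H, h • pt0 K = pt0 K)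
    (hU : ∀ a : F, XS a ∈ H) (hM : ∀ e : F, Mu H e → e = 1) : Bin PSL(2, F) (PSL(2, F) ⧸ H) := by
  intro n I J hn hp
  have hrep : ∀ x : PSL(2, F) ⧸ H, ∃ A : SL(2, F),
      (QuotientGroup.mk (QuotientGroup.mk A : PSL(2, F)) : PSL(2, F) ⧸ H) = x := by
    intro x
    induction x using QuotientGroup.induction_on with
    | H y =>
      induction y using QuotientGroup.induction_on with
      | H A => exact ⟨A, rfl⟩
  choose A hA using fun i => hrep (I i)
  choose B hB using fun i => hrep (J i)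
  have hiff : ∀ (x : SL(2, F)) (i : Fin n), (QuotientGroup.mk x : PSL(2, F)) • I i = J i ↔
      x.1 0 0 * (A i).1 0 0 + x.1 0 1 * (A i).1 1 0 = (B i).1 0 0 ∧
      x.1 1 0 * (A i).1 0 0 + x.1 1 1 * (A i).1 1 0 = (B i).1 1 0 := by
    intro x i
    rw [← hA, ← hB, smul_iff hH hU, Matrix.mul_apply, Fin.sum_univ_two, Matrix.mul_apply,
      Fin.sum_univ_two]
    constructor
    · rintro ⟨e, he, h1, h2⟩
      have := hM e he
      subst this
      rw [one_mul] at h1 h2
      exact ⟨h1, h2⟩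
    · rintro ⟨h1, h2⟩
      exact ⟨1, mu_one, by rw [one_mul]; exact h1, by rw [one_mul]; exact h2⟩
  have hp' : ∀ i j : Fin n, i ≠ j → ∃ x : SL(2, F),
      (x.1 0 0 * (A i).1 0 0 + x.1 0 1 * (A i).1 1 0 = (B i).1 0 0 ∧
      x.1 1 0 * (A i).1 0 0 + x.1 1 1 * (A i).1 1 0 = (B i).1 1 0) ∧
      (x.1 0 0 * (A j).1 0 0 + x.1 0 1 * (A j).1 1 0 = (B j).1 0 0 ∧
      x.1 1 0 * (A j).1 0 0 + x.1 1 1 * (A j).1 1 0 = (B j).1 1 0) := by
    intro i j hij
    obtain ⟨g, h1, h2⟩ := hp i j hij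
    induction g using QuotientGroup.induction_on with
    | H x => exact ⟨x, (hiff x i).1 h1, (hiff x j).1 h2⟩
  have hdet : ∀ i j : Fin n, (A i).1 0 0 * (A j).1 1 0 - (A j).1 0 0 * (A i).1 1 0 =
      (B i).1 0 0 * (B j).1 1 0 - (B j).1 0 0 * (B i).1 1 0 := by
    intro i j
    by_cases hij : i = j
    · subst hij; ring
    · obtain ⟨x, ⟨h1, h2⟩, h3, h4⟩ := hp' i j hij
      have hd := x.2
      rw [Matrix.det_fin_two] at hd
      rw [← h1, ← h2, ← h3, ← h4]
      linear_combination (-((A i).1 0 0 * (A j).1 1 0 - (A j).1 0 0 * (A i).1 1 0)) * hd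
  by_cases hall : ∀ i j : Fin n, (A i).1 0 0 * (A j).1 1 0 - (A j).1 0 0 * (A i).1 1 0 = 0
  · let i0 : Fin n := ⟨0, by omega⟩
    let i1 : Fin n := ⟨1, by omega⟩
    obtain ⟨x, ⟨h1, h2⟩, -⟩ := hp' i0 i1 (by simp [i0, i1])
    refine ⟨QuotientGroup.mk x, fun k => (hiff x k).2 ?_⟩
    by_cases hk : i0 = k
    · subst hk; exact ⟨h1, h2⟩
    · obtain ⟨y, ⟨h3, h4⟩, h5, h6⟩ := hp' i0 k hk
      obtain ⟨c, hc0, hc1⟩ := prop_vec (col_ne (A i0)) (hall i0 k)
      rw [hc0, hc1] at h5 h6 ⊢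
      constructor
      · rw [← h5]
        linear_combination c * (h1 - h3)
      · rw [← h6]
        linear_combination c * (h2 - h4)
  · push Not at hall
    obtain ⟨i, j, hij⟩ := hall
    obtain ⟨x, h1, h2, h3, h4⟩ := exists_map hij (hdet i j)
    refine ⟨QuotientGroup.mk x, fun k => (hiff x k).2 ?_⟩
    have hd := x.2
    rw [Matrix.det_fin_two] at hd
    have hB0 : (B i).1 0 0 * (B j).1 1 0 - (B j).1 0 0 * (B i).1 1 0 ≠ 0 := by
      rw [← hdet]; exact hij
    set X := x.1 0 0 * (A k).1 0 0 + x.1 0 1 * (A k).1 1 0 with hX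
    set Y := x.1 1 0 * (A k).1 0 0 + x.1 1 1 * (A k).1 1 0 with hY
    have e1 : (B i).1 0 0 * Y - X * (B i).1 1 0 =
        (B i).1 0 0 * (B k).1 1 0 - (B k).1 0 0 * (B i).1 1 0 := by
      rw [← hdet i k, ← h1, ← h2, hX, hY]
      linear_combination ((A i).1 0 0 * (A k).1 1 0 - (A k).1 0 0 * (A i).1 1 0) * hd
    have e2 : (B j).1 0 0 * Y - X * (B j).1 1 0 =
        (B j).1 0 0 * (B k).1 1 0 - (B k).1 0 0 * (B j).1 1 0 := by
      rw [← hdet j k, ← h3, ← h4, hX, hY]
      linear_combination ((A j).1 0 0 * (A k).1 1 0 - (A k).1 0 0 * (A j).1 1 0) * hd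
    constructor
    · apply mul_left_cancel₀ hB0
      linear_combination (B j).1 0 0 * e1 - (B i).1 0 0 * e2
    · apply mul_left_cancel₀ hB0
      linear_combination (B j).1 1 0 * e1 - (B i).1 1 0 * e2

end vec

section syl

variable {F K : Type*} [Field F] [Field K] [Algebra F K] [IsAlgClosed K]
  {p : ℕ} [hc : CharP K p] [hp : Fact p.Prime]

attribute [local instance 10] pact sact

theorem mem_US_pt0 {g : PSL(2, F)} : g ∈ (mobS (p := p) (F := F) (K := K)).U (pt0 K) ↔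
    ∃ a : F, g = XS a := by
  rw [mem_US, mem_U_pt0]
  constructor
  · rintro ⟨a, ha⟩
    exact ⟨a, toP_injective (by rw [toP_XS, ha])⟩
  · rintro ⟨a, rfl⟩
    exact ⟨a, toP_XS a⟩

theorem mu_U [CharP F 2] {e : F}
    (he : Mu ((mobS (p := p) (F := F) (K := K)).U (pt0 K)) e) : e = 1 := by
  obtain ⟨A, h1, h2, h3⟩ := he
  rw [mem_US_pt0] at h1
  obtain ⟨a, ha⟩ := h1
  have ha' : (QuotientGroup.mk A : PSL(2, F)) = QuotientGroup.mk (H81.xx a) := ha
  rw [QuotientGroup.eq, Matrix.SpecialLinearGroup.mem_center_iff] at ha'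
  obtain ⟨r, hr, hr2⟩ := ha'
  rw [Fintype.card_fin] at hr
  have hr1 : r = 1 := by
    have : (r - 1) ^ 2 = 0 := by
      have h2 : (2 : F) = 0 := CharTwo.two_eq_zero
      linear_combination hr + (1 - r) * h2
    have := pow_eq_zero_iff (two_ne_zero) |>.1 this
    exact sub_eq_zero.1 this
  subst hr1
  have h4 : (A⁻¹ * H81.xx a).1 0 0 = 1 := by
    rw [← hr2]; simp
  have h5 : (A⁻¹ * H81.xx a).1 0 0 = A.1 1 1 := by
    show ((A⁻¹).1 * (H81.xx a).1) 0 0 = _
    rw [Matrix.SpecialLinearGroup.coe_inv, Matrix.adjugate_fin_two, H81.xx_val]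
    simp [Matrix.mul_apply, Fin.sum_univ_two]
  have hd := A.2
  rw [Matrix.det_fin_two, h2, mul_zero, sub_zero, ← h5, h4, mul_one, h3] at hd
  exact hd

theorem bin_sylow [Finite F] [CharP F 2] (P : Sylow 2 PSL(2, F)) :
    Bin PSL(2, F) (PSL(2, F) ⧸ (P : Subgroup PSL(2, F))) := by
  let K := AlgebraicClosure F
  have : CharP K 2 := charP_of_injective_algebraMap (algebraMap F K).injective 2
  have : Fact (Nat.Prime 2) := ⟨Nat.prime_two⟩
  let M := mobS (p := 2) (F := F) (K := K)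
  have hne : M.U (pt0 K) ≠ ⊥ := (fullS (p := 2) (F := F) (K := K)).1
  obtain ⟨Q, hQ⟩ := M.exists_sylow hne
  obtain ⟨g, hg⟩ := MulAction.exists_smul_eq PSL(2, F) Q P
  have h1 : cj g (M.U (pt0 K)) = P := by
    rw [← hQ, ← hg, Sylow.coe_subgroup_smul]
    rfl
  rw [← h1]
  apply Bin.cj
  apply bin_vec (K := K)
  · intro h hh
    exact M.smul_of_mem_U hh
  · intro a
    exact mem_US_pt0.2 ⟨a, rfl⟩
  · intro e he
    exact mu_U he

end syl

end Cfsg.Agent.Dk
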