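import Mathlib
import Cfsg.Agent.Dk.BinSyl

/-! Binary actions of `PSL₂(2^a)`, `a` odd, with stabilizer of order three. -/

set_option autoImplicit false

namespace Cfsg.Agent.Dk

open MulAction Matrix Subgroup
open scoped MatrixGroups

section gen

variable {G : Type*} [Group G]

theorem bin_of_card_three {H : Subgroup G} (hH : Nat.card H = 3)
    (key : ∀ u v : G, u ≠ 1 → v ≠ 1 → u ^ 3 = 1 → v ^ 3 = 1 → (u * v) ^ 3 = 1 → u * v ≠ 1 → u = v) :
    Bin G (G ⧸ H) := by
  have hp3 : Fact (Nat.Prime 3) := ⟨Nat.prime_three⟩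
  have hcard : ∀ x : G ⧸ H, Nat.card (stabilizer G x) = 3 := by
    intro x
    induction x using QuotientGroup.induction_on with
    | H a =>
      have h1 : stabilizer G (QuotientGroup.mk a : G ⧸ H) = cj a H := by
        ext g
        rw [mem_stabilizer_iff, smul_mk_self]
      rw [h1, card_cj, hH]
  have hst : ∀ (x : G ⧸ H) (g : G), g • x = x → g ^ 3 = 1 := by
    intro x g hg
    have h1 := pow_card_eq_one' (G := stabilizer G x) (x := ⟨g, hg⟩)
    rw [hcard] at h1
    exact congrArg Subtype.val h1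
  have hTI : ∀ (x y : G ⧸ H) (g g' : G), g ≠ 1 → g • x = x → g • y = y → g' • x = x →
      g' • y = y := by
    intro x y g g' hg1 hgx hgy hg'
    have h1 : (⟨g', hg'⟩ : stabilizer G x) ∈ Subgroup.zpowers (⟨g, hgx⟩ : stabilizer G x) :=
      mem_zpowers_of_prime_card (hcard x) (fun h => hg1 (congrArg Subtype.val h))
    obtain ⟨k, hk⟩ := h1
    have h2 : g ^ k = g' := congrArg Subtype.val hk
    rw [← h2]
    have h3 : g ∈ stabilizer G y := hgy
    exact (stabilizer G y).zpow_mem h3 k
  -- two base points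
  have core2 : ∀ (n : ℕ) (I J : Fin n → G ⧸ H),
      (∀ i j : Fin n, i ≠ j → ∃ g : G, g • I i = J i ∧ g • I j = J j) → ∀ i0 j0 : Fin n,
      I i0 = J i0 → I j0 = J j0 → (∀ g : G, g • I i0 = I i0 → g • I j0 = I j0 → g = 1) →
      ∀ i, I i = J i := by
    intro n I J hp i0 j0 h0 h1 hno k
    by_cases hk0 : i0 = k
    · rw [← hk0]; exact h0
    by_cases hk1 : j0 = k
    · rw [← hk1]; exact h1
    obtain ⟨g, hg0, hgk⟩ := hp i0 k hk0
    obtain ⟨h, hh0, hhk⟩ := hp j0 k hk1
    rw [← h0] at hg0
    rw [← h1] at hh0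
    by_cases hg1 : g = 1
    · rw [← hgk, hg1, one_smul]
    by_cases hh1 : h = 1
    · rw [← hhk, hh1, one_smul]
    exfalso
    have hu : g⁻¹ • I i0 = I i0 := by rw [inv_smul_eq_iff, hg0]
    have huv : (g⁻¹ * h) • I k = I k := by rw [mul_smul, hhk, inv_smul_eq_iff, hgk]
    have huv1 : g⁻¹ * h ≠ 1 := by
      intro h2
      rw [inv_mul_eq_one] at h2
      subst h2
      exact hg1 (hno _ hg0 hh0)
    have h3 := key g⁻¹ h (fun h2 => hg1 (inv_eq_one.1 h2)) hh1 (hst _ _ hu) (hst _ _ hh0)
      (hst _ _ huv) huv1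
    rw [h3] at hu
    exact hh1 (hno _ hu hh0)
  have core : ∀ (n : ℕ) (I J : Fin n → G ⧸ H),
      (∀ i j : Fin n, i ≠ j → ∃ g : G, g • I i = J i ∧ g • I j = J j) → ∀ i0 : Fin n,
      I i0 = J i0 → ∃ g : G, ∀ i, g • I i = J i := by
    intro n I J hp i0 h0
    by_cases hall : ∀ j, ∀ g : G, g • I i0 = I i0 → g • I j = I j
    · refine ⟨1, fun j => ?_⟩
      rw [one_smul]
      by_cases hj : i0 = j
      · rw [← hj]; exact h0
      · obtain ⟨g, hg0, hgj⟩ := hp i0 j hj
        rw [← h0] at hg0
        rw [← hgj, hall j g hg0]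
    · push Not at hall
      obtain ⟨j0, g0, hg0, hgj⟩ := hall
      have hj : i0 ≠ j0 := by
        rintro rfl; exact hgj hg0
      obtain ⟨g, hga, hgb⟩ := hp i0 j0 hj
      refine ⟨g, core2 n (fun i => g • I i) J ?_ i0 j0 hga hgb ?_⟩
      · intro i j hij
        obtain ⟨k, hk1, hk2⟩ := hp i j hij
        exact ⟨k * g⁻¹, by rw [mul_smul, inv_smul_smul, hk1], by rw [mul_smul, inv_smul_smul, hk2]⟩
      · intro k hk1 hk2
        by_contra hk
        have e1 : (g⁻¹ * k * g) • I i0 = I i0 := by
          rw [mul_smul, mul_smul, inv_smul_eq_iff]; exact hk1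
        have e2 : (g⁻¹ * k * g) • I j0 = I j0 := by
          rw [mul_smul, mul_smul, inv_smul_eq_iff]; exact hk2
        refine hgj (hTI _ _ (g⁻¹ * k * g) g0 ?_ e1 e2 hg0)
        intro h2
        apply hk
        have : k = g * (g⁻¹ * k * g) * g⁻¹ := by group
        rw [this, h2]; group
  intro n I J hn hp
  let i0 : Fin n := ⟨0, by omega⟩
  let i1 : Fin n := ⟨1, by omega⟩
  obtain ⟨g, hg, -⟩ := hp i0 i1 (by simp [i0, i1])
  obtain ⟨k, hk⟩ := core n (fun i => g • I i) J (by
    intro i j hij
    obtain ⟨k, hk1, hk2⟩ := hp i j hij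
    exact ⟨k * g⁻¹, by rw [mul_smul, inv_smul_smul, hk1], by rw [mul_smul, inv_smul_smul, hk2]⟩) i0
    hg
  exact ⟨k * g, fun i => by rw [mul_smul]; exact hk i⟩

end gen

section mat

variable {F : Type*} [Field F] [CharP F 2]

theorem sq_of_three {A : Matrix (Fin 2) (Fin 2) F} (hd : A.det = 1) (h3 : A ^ 3 = 1) (h1 : A ≠ 1) :
    A * A + A + 1 = 0 := by
  have h2 : (2 : F) = 0 := CharTwo.two_eq_zero
  rw [Matrix.det_fin_two] at hd
  have hcube : ∀ i j, (A * A * A) i j = (1 : Matrix (Fin 2) (Fin 2) F) i j := by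
    intro i j
    rw [← h3, pow_succ, pow_two]
  have h00 := hcube 0 0
  have h01 := hcube 0 1
  have h10 := hcube 1 0
  have h11 := hcube 1 1
  simp only [Matrix.mul_apply, Fin.sum_univ_two, Matrix.one_apply_eq] at h00 h11
  simp [Matrix.mul_apply, Fin.sum_univ_two] at h01 h10
  set a := A 0 0
  set b := A 0 1
  set c := A 1 0
  set d := A 1 1
  have ht : a + d = 1 := by
    by_contra ht
    have ht' : a + d + 1 ≠ 0 := by
      intro h
      apply ht
      linear_combination h - h2
    have ht2 : (a + d + 1) * (a + d + 1) ≠ 0 := mul_ne_zero ht' ht'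
    have hb : b = 0 := by
      apply (mul_eq_zero.1 (_ : (a + d + 1) * (a + d + 1) * b = 0)).resolve_left ht2
      linear_combination h01 + b * hd + (b * (a + d + 1)) * h2
    have hc : c = 0 := by
      apply (mul_eq_zero.1 (_ : (a + d + 1) * (a + d + 1) * c = 0)).resolve_left ht2
      linear_combination h10 + c * hd + (c * (a + d + 1)) * h2
    rw [hb, hc] at hd h00 h11
    have had : a * d = 1 := by linear_combination hd
    have ha3 : a * a * a = 1 := by linear_combination h00
    have hd3 : d * d * d = 1 := by linear_combination h11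
    have hdd : a = d * d := by
      calc a = a * (d * d * d) := by rw [hd3, mul_one]
        _ = (a * d) * (d * d) := by ring
        _ = d * d := by rw [had, one_mul]
    have h5 : (d + 1) * (a + d + 1) = 0 := by
      rw [hdd]
      linear_combination hd3 + (d * d + d + 1) * h2
    have hd1 : d = 1 := by
      have := (mul_eq_zero.1 h5).resolve_right ht'
      linear_combination this - h2
    have ha1 : a = 1 := by rw [hdd, hd1, one_mul]
    apply h1
    ext i j
    fin_cases i <;> fin_cases j
    · simpa using ha1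
    · simpa using hb
    · simpa using hc
    · simpa using hd1
  ext i j
  fin_cases i <;> fin_cases j <;> simp only [Matrix.add_apply, Matrix.mul_apply, Fin.sum_univ_two,
    Matrix.zero_apply, Fin.zero_eta, Fin.mk_one, Fin.isValue, Matrix.one_apply_eq, ne_eq,
    zero_ne_one, not_false_eq_true, Matrix.one_apply_ne, one_ne_zero]
  · show a * a + b * c + a + 1 = 0
    linear_combination a * ht - hd + a * h2
  · show a * b + b * d + b + 0 = 0
    linear_combination b * ht + b * h2
  · show c * a + d * c + c + 0 = 0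
    linear_combination c * ht + c * h2
  · show c * b + d * d + d + 1 = 0
    linear_combination d * ht - hd + d * h2

theorem mat_three (hF : ∀ l : F, l * l + l + 1 ≠ 0) {u v : Matrix (Fin 2) (Fin 2) F}
    (hu : u * u + u + 1 = 0) (hv : v * v + v + 1 = 0)
    (huv : (u * v) * (u * v) + u * v + 1 = 0) : u = v := by
  have h2 : ∀ x : Matrix (Fin 2) (Fin 2) F, x + x = 0 := by
    intro x
    rw [← two_nsmul]
    ext i j
    simp [CharTwo.two_eq_zero]
  have hu' : u * u = u + 1 := by
    have : u * u = (u * u + u + 1) + (u + 1) - (u + u) - (1 + 1) := by abel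
    rw [this, hu, h2, h2]; abel
  have hv' : v * v = v + 1 := by
    have : v * v = (v * v + v + 1) + (v + 1) - (v + v) - (1 + 1) := by abel
    rw [this, hv, h2, h2]; abel
  have huv' : (u * v) * (u * v) = u * v + 1 := by
    have : (u * v) * (u * v) = ((u * v) * (u * v) + u * v + 1) + (u * v + 1) - (u * v + u * v) -
      (1 + 1) := by abel
    rw [this, huv, h2, h2]; abel
  -- (u+1)(uv)(uv)(v+1) = vu ...
  have hinv : (u + 1) * u = 1 := by
    rw [add_mul, hu', one_mul]
    have : u + 1 + u = 1 + (u + u) := by abel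
    rw [this, h2, add_zero]
  have hinv' : v * (v + 1) = 1 := by
    rw [mul_add, hv', mul_one]
    have : v + 1 + v = 1 + (v + v) := by abel
    rw [this, h2, add_zero]
  have hvu : v * u = u + v + u * v := by
    have h3 : (u + 1) * ((u * v) * (u * v)) * (v + 1) = v * u := by
      calc (u + 1) * ((u * v) * (u * v)) * (v + 1) = ((u + 1) * u) * (v * u) * (v * (v + 1)) := by
            noncomm_ring
        _ = v * u := by rw [hinv, hinv', one_mul, mul_one]
    rw [huv'] at h3
    have h4 : (u + 1) * (u * v + 1) * (v + 1) = ((u + 1) * u) * (v * (v + 1)) + (u + 1) * (v + 1) := by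
      noncomm_ring
    rw [h4, hinv, hinv', one_mul] at h3
    rw [← h3]
    have h5 : (1 : Matrix (Fin 2) (Fin 2) F) + (u + 1) * (v + 1) = u + v + u * v + (1 + 1) := by
      noncomm_ring
    rw [h5, h2, add_zero]
  by_contra hne
  set w := u + v with hw
  have hw0 : w ≠ 0 := by
    intro h
    apply hne
    have : u = (u + v) + v - (v + v) := by abel
    rw [this, ← hw, h, h2]; simp
  have hww : w * w = 0 := by
    have : w * w = u * u + v * v + u * v + v * u := by rw [hw]; noncomm_ring
    rw [this, hu', hv', hvu]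
    have : u + 1 + (v + 1) + u * v + (w + u * v) = (w + w) + (1 + 1) + (u * v + u * v) := by
      rw [hw]; abel
    rw [this, h2 w, h2 1, h2 (u * v)]; simp
  have huw : u * w = w * (u + 1) := by
    have e1 : u * w = u * u + u * v := by rw [hw]; noncomm_ring
    have e2 : w * (u + 1) = u * u + v * u + w := by rw [hw]; noncomm_ring
    rw [e1, e2, hvu]
    have : u * u + (w + u * v) + w = u * u + u * v + (w + w) := by abel
    rw [this, h2, add_zero]
  have hdet : w.det = 0 := by
    have := congrArg Matrix.det hww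
    rw [Matrix.det_mul, Matrix.det_zero] at this
    exact mul_self_eq_zero.1 this
  rw [Matrix.det_fin_two] at hdet
  -- a nonzero column
  obtain ⟨j, hj⟩ : ∃ j, w 0 j ≠ 0 ∨ w 1 j ≠ 0 := by
    by_contra h
    push Not at h
    apply hw0
    ext i j
    fin_cases i
    · exact (h j).1
    · exact (h j).2
  have hcol : w 0 j * (w * (u + 1)) 1 j - (w * (u + 1)) 0 j * w 1 j = 0 := by
    rw [Matrix.mul_apply, Matrix.mul_apply, Fin.sum_univ_two, Fin.sum_univ_two]
    fin_cases j
    · simp only [Fin.zero_eta, Fin.isValue]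
      linear_combination ((u + 1) 1 0) * hdet
    · simp only [Fin.mk_one, Fin.isValue]
      linear_combination (-((u + 1) 0 1)) * hdet
  obtain ⟨l, hl0, hl1⟩ := prop_vec hj hcol
  rw [← huw, Matrix.mul_apply, Fin.sum_univ_two] at hl0 hl1
  have hrow : ∀ i, (u * u + u + 1) i 0 * w 0 j + (u * u + u + 1) i 1 * w 1 j = 0 := by
    intro i; rw [hu]; simp
  have hr0 := hrow 0
  have hr1 := hrow 1
  simp only [Matrix.add_apply, Matrix.mul_apply, Fin.sum_univ_two, Matrix.one_apply_eq, ne_eq,
    zero_ne_one, not_false_eq_true, Matrix.one_apply_ne, one_ne_zero] at hr0 hr1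
  apply hF l
  rcases hj with hj | hj
  · apply (mul_eq_zero.1 (_ : (l * l + l + 1) * w 0 j = 0)).resolve_right hj
    linear_combination hr0 - u 0 0 * hl0 - u 0 1 * hl1 - l * hl0 - hl0
  · apply (mul_eq_zero.1 (_ : (l * l + l + 1) * w 1 j = 0)).resolve_right hj
    linear_combination hr1 - u 1 0 * hl0 - u 1 1 * hl1 - l * hl1 - hl1

end mat

section psl

variable {F : Type*} [Field F] [CharP F 2]

theorem center_two {A : SL(2, F)} (h : A ∈ Subgroup.center SL(2, F)) : A = 1 := by
  rw [Matrix.SpecialLinearGroup.mem_center_iff] at h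
  obtain ⟨r, hr, hr2⟩ := h
  rw [Fintype.card_fin] at hr
  have hr1 : r = 1 := by
    have : (r - 1) ^ 2 = 0 := by
      have h2 : (2 : F) = 0 := CharTwo.two_eq_zero
      linear_combination hr + (1 - r) * h2
    have := pow_eq_zero_iff (two_ne_zero) |>.1 this
    exact sub_eq_zero.1 this
  apply Subtype.ext
  rw [← hr2, hr1]; simp

theorem psl_three (hF : ∀ l : F, l * l + l + 1 ≠ 0) (u v : PSL(2, F)) (hu1 : u ≠ 1) (hv1 : v ≠ 1)
    (hu : u ^ 3 = 1) (hv : v ^ 3 = 1) (huv : (u * v) ^ 3 = 1) (huv1 : u * v ≠ 1) : u = v := by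
  induction u using QuotientGroup.induction_on with
  | H A =>
    induction v using QuotientGroup.induction_on with
    | H B =>
      have key : ∀ C : SL(2, F), (QuotientGroup.mk C : PSL(2, F)) ≠ 1 →
          (QuotientGroup.mk C : PSL(2, F)) ^ 3 = 1 → C.1 * C.1 + C.1 + 1 = 0 := by
        intro C hC1 hC
        have h1 : (QuotientGroup.mk (C ^ 3) : PSL(2, F)) = 1 := hC
        rw [QuotientGroup.eq_one_iff] at h1
        have h2 := center_two h1
        apply sq_of_three C.2
        · exact congrArg Subtype.val h2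
        · intro h3
          apply hC1
          have : C = 1 := Subtype.ext h3
          rw [this]; rfl
      have h3 := mat_three hF (key A hu1 hu) (key B hv1 hv) (key (A * B) huv1 huv)
      rw [Subtype.ext h3]

theorem bin_three_two [Finite F] {a : ℕ} (ha : Odd a) (hF : Nat.card F = 2 ^ a)
    {H : Subgroup PSL(2, F)} (hH : Nat.card H = 3) : Bin PSL(2, F) (PSL(2, F) ⧸ H) := by
  have : Fintype F := Fintype.ofFinite F
  refine bin_of_card_three hH (fun u v h1 h2 h3 h4 h5 h6 => psl_three ?_ u v h1 h2 h3 h4 h5 h6)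
  intro l hl
  have hl3 : l ^ 3 = 1 := by linear_combination (l - 1) * hl
  have hl1 : l ≠ 1 := by
    rintro rfl
    have h2 : (2 : F) = 0 := CharTwo.two_eq_zero
    have : (1 : F) = 0 := by linear_combination hl - h2
    exact one_ne_zero this
  have hl0 : l ≠ 0 := by rintro rfl; simp at hl3
  have h1 : orderOf (Units.mk0 l hl0) = 3 := by
    apply orderOf_eq_prime
    · apply Units.ext
      simpa using hl3
    · intro h
      apply hl1
      have := congrArg Units.val h
      simpa using this
  have h2 := orderOf_dvd_natCard (Units.mk0 l hl0)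
  rw [h1, Nat.card_units, hF] at h2
  obtain ⟨m, rfl⟩ := ha
  have h3 : 2 ^ (2 * m + 1) % 3 = 2 := by
    rw [pow_succ, pow_mul, Nat.mul_mod, Nat.pow_mod]
    norm_num
  have h4 : 0 < 2 ^ (2 * m + 1) := by positivity
  generalize 2 ^ (2 * m + 1) = N at h2 h3 h4
  omega

end psl

end Cfsg.Agent.Dk
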