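import Mathlib
import Cfsg.Agent.Dk.BinThree

/-! Binary actions of `PSL₂(q)` with stabilizer of odd order. -/

set_option autoImplicit false

namespace Cfsg.Agent.Dk

open MulAction Matrix Subgroup LinearAlgebra.Projectivization Projectivization
open scoped MatrixGroups
open H81 (pt0 pt1 ptz ptc)

section gen

variable {p : ℕ} {Γ X K : Type*} [Group Γ] [MulAction Γ X] [Field K] (M : Mob p Γ X K)
include M

theorem Mob.fix_le_TS [Finite Γ] [Fact p.Prime] [CharP K p] {H : Subgroup Γ} {z : X}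
    (hH : ∀ h ∈ H, h • z = z) (hb : H ≠ ⊥)
    (hU : ∀ u ∈ H, u ∈ M.U z → u = 1) : ∃ y, z ≠ y ∧ H ≤ TS Γ z y := by
  have hbot : (M.subgroup H).U z = ⊥ := by
    rw [Subgroup.eq_bot_iff_forall]
    intro u hu
    exact Subtype.ext (hU u u.2 (M.mem_U_subgroup.1 hu))
  have hcyc : IsCyclic (stabilizer H z) := (M.subgroup H).stab_cyclic hbot
  obtain ⟨g, hg⟩ := hcyc.exists_generator
  have htop : ∀ h : H, h ∈ stabilizer H z := fun h => hH h h.2
  have hgen : ∀ x ∈ H, ∃ k : ℤ, (g : Γ) ^ k = x := by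
    intro x hx
    obtain ⟨k, hk⟩ := hg ⟨⟨x, hx⟩, htop _⟩
    exact ⟨k, congrArg (fun z : stabilizer H z => ((z : H) : Γ)) hk⟩
  have hg1 : (g : Γ) ≠ 1 := by
    intro h
    apply hb
    rw [Subgroup.eq_bot_iff_forall]
    intro x hx
    obtain ⟨k, h1⟩ := hgen x hx
    rw [← h1, h, _root_.one_zpow]
  have hgz : (g : Γ) • z = z := hH _ g.1.2
  rcases M.fix_or hg1 hgz with h | ⟨y, hy, hy2⟩
  · exact absurd (hU _ g.1.2 (M.mem_U.2 (Or.inr h))) hg1
  · refine ⟨y, hy.symm, ?_⟩
    intro x hx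
    obtain ⟨k, h1⟩ := hgen x hx
    rw [← h1]
    apply (TS Γ z y).zpow_mem
    refine ⟨hgz, ?_⟩
    have : y ∈ fixedBy X (g : Γ) := by rw [hy2]; simp
    exact this

end gen

section psl

variable {F K : Type*} [Field F] [Field K] [Algebra F K] [IsAlgClosed K] [Finite F]
  {p : ℕ} [hc : CharP K p] [hp : Fact p.Prime]

attribute [local instance 10] pact sact

/-- the stabilizer is contained in a Borel subgroup and contains its unipotent radical -/
theorem not_bin_borel {H : Subgroup PSL(2, F)} {z : ℙ K (Fin 2 → K)} (hH : ∀ h ∈ H, h • z = z)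
    (hne : (mobS (p := p) (F := F) (K := K)).U z ≠ ⊥)
    (hle : (mobS (p := p) (F := F) (K := K)).U z ≤ H) {y : PSL(2, F)} (hy : y ∈ H)
    (hyU : y ∉ (mobS (p := p) (F := F) (K := K)).U z) : ¬ Bin PSL(2, F) (PSL(2, F) ⧸ H) := by
  intro hB
  have hfin : Finite PSL(2, F) := finite_psl
  have M := mobS (p := p) (F := F) (K := K)
  have hF := fullS (p := p) (F := F) (K := K)
  obtain ⟨g, hg⟩ := M.exists_smul_eq hne hF.1
  have hfix : ∀ h ∈ cj g H, h • pt0 K = pt0 K := by
    intro h hh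
    have h1 := hH _ (mem_cj.1 hh)
    rw [mul_smul, mul_smul, hg, inv_smul_eq_iff, hg] at h1
    exact h1
  have hXS : ∀ a : F, XS a ∈ cj g H := by
    intro a
    rw [mem_cj]
    apply hle
    have h1 : XS a ∈ M.U (g • z) := by rw [hg]; exact mem_US_pt0.2 ⟨a, rfl⟩
    apply (M.conj_mem_U g).1
    have : g * (g⁻¹ * XS a * g) * g⁻¹ = XS a := by group
    rw [this]; exact h1
  have hy' : g * y * g⁻¹ ∉ M.U (pt0 K) := by
    rw [← hg]; exact fun h => hyU ((M.conj_mem_U g).1 h)
  have hyf := hfix _ (conj_mem_cj.2 hy)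
  obtain ⟨z', hz', hne', hfz⟩ := hF.mate (mem_orbit_self _) hyf hy'
  rw [orbitS_pt0, mem_Rat] at hz'
  rcases hz' with h | ⟨s, rfl⟩
  · exact hne' h
  · refine not_bin_rat hfix hXS (conj_mem_cj.2 hy) ?_ hfz (hB.cj g)
    intro h
    apply hy'
    rw [h]
    exact (M.U (pt0 K)).one_mem

theorem not_bin_uni {H : Subgroup PSL(2, F)} (h2 : (2 : F) ≠ 0) {z : ℙ K (Fin 2 → K)}
    (hH : ∀ h ∈ H, h • z = z) {u : PSL(2, F)} (hu : u ∈ H) (hu1 : u ≠ 1)
    (huU : u ∈ (mobS (p := p) (F := F) (K := K)).U z) : ¬ Bin PSL(2, F) (PSL(2, F) ⧸ H) := by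
  intro hB
  have hfin : Finite PSL(2, F) := finite_psl
  have M := mobS (p := p) (F := F) (K := K)
  have hF := fullS (p := p) (F := F) (K := K)
  have hne : M.U z ≠ ⊥ := by
    intro h
    rw [h, Subgroup.mem_bot] at huU
    exact hu1 huU
  obtain ⟨g, hg⟩ := M.exists_smul_eq hne hF.1
  have hfix : ∀ h ∈ cj g H, h • pt0 K = pt0 K := by
    intro h hh
    have h1 := hH _ (mem_cj.1 hh)
    rw [mul_smul, mul_smul, hg, inv_smul_eq_iff, hg] at h1
    exact h1
  have hu' : g * u * g⁻¹ ∈ M.U (pt0 K) := by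
    rw [← hg]; exact (M.conj_mem_U g).2 huU
  obtain ⟨e, he⟩ := mem_US_pt0.1 hu'
  have he0 : e ≠ 0 := by
    rintro rfl
    rw [XS_zero, conj_eq_one_iff] at he
    exact hu1 he
  obtain ⟨hall, y, hy, hy1, s, hs⟩ := bin_uni h2 hfix (hB.cj g) he0
    (by rw [← he]; exact conj_mem_cj.2 hu)
  exact not_bin_rat hfix hall hy hy1 hs (hB.cj g)

theorem even_card_PSLs (K0 : Subfield F) : 2 ∣ Nat.card (PSLs K0) := by
  have h1 := card_PSLs K0
  have h2 : 1 < Nat.card K0 := one_lt_card_sub K0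
  obtain ⟨n, hn⟩ : ∃ n, Nat.card K0 = n + 2 := ⟨Nat.card K0 - 2, by omega⟩
  rw [hn] at h1
  have e1 : n + 2 - 1 = n + 1 := rfl
  rw [e1] at h1
  rcases Nat.even_or_odd n with he | ho
  · have hg : Nat.gcd 2 (n + 1) = 1 := by
      rw [Nat.coprime_iff_gcd_eq_one.symm]
      exact (Nat.coprime_two_left).2 he.add_one
    rw [hg, one_mul] at h1
    rw [h1]
    obtain ⟨m, rfl⟩ := he
    exact ⟨(m + 1) * ((m + m + 1) * (m + m + 2 + 1)), by ring⟩
  · have hg : Nat.gcd 2 (n + 1) = 2 := by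
      apply Nat.gcd_eq_left
      exact ho.add_one.two_dvd
    rw [hg] at h1
    obtain ⟨m, rfl⟩ := ho
    have : 2 * Nat.card (PSLs K0) = 2 * (2 * ((2 * m + 1 + 2) * ((m + 1) * (m + 2)))) := by
      rw [h1]; ring
    have h3 := Nat.eq_of_mul_eq_mul_left (by norm_num) this
    exact ⟨_, h3⟩

theorem bin_odd (K : Type*) [Field K] [Algebra F K] [IsAlgClosed K] [CharP K p]
    {H : Subgroup PSL(2, F)} (hH1 : H ≠ ⊥) (hodd : ¬ 2 ∣ Nat.card H)
    (hB : Bin PSL(2, F) (PSL(2, F) ⧸ H)) :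
    (∃ a : ℕ, Odd a ∧ Nat.card F = 2 ^ a) ∧ Nat.card H = 3 := by
  have hfin : Finite PSL(2, F) := finite_psl
  have M := mobS (p := p) (F := F) (K := K)
  have hF := fullS (p := p) (F := F) (K := K)
  rcases (ambS (F := F) (K := K)).list (p := p) hH1 with h | h | h | h | h | h
  · obtain ⟨z, hz⟩ := h
    by_cases hU : ∀ u ∈ H, u ∈ M.U z → u = 1
    · obtain ⟨y, hzy, hle⟩ := M.fix_le_TS hz hH1 hU
      have h3 := bin_torus (p := p) hzy hle hB
      have hc1 : Nat.card H ≠ 1 := by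
        rw [Ne, Subgroup.card_eq_one]; exact hH1
      have hc3 : Nat.card H = 3 := by
        rcases (Nat.dvd_prime Nat.prime_three).1 h3 with h | h
        · exact absurd h hc1
        · exact h
      exact ⟨bin_three (p := p) hzy hle hc3 hB, hc3⟩
    · exfalso
      push Not at hU
      obtain ⟨u, hu, huU, hu1⟩ := hU
      refine not_bin_uni (p := p) ?_ hz hu hu1 huU hB
      intro h2
      apply hodd
      have hpF : CharP F p := (algebraMap F K).charP (algebraMap F K).injective p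
      have hp2 : p = 2 := by
        have : p ∣ 2 := by
          rw [← CharP.cast_eq_zero_iff F p]; exact_mod_cast h2
        exact (Nat.prime_dvd_prime_iff_eq hp.out Nat.prime_two).1 this
      have h3 : orderOf u = p := by
        apply orderOf_eq_prime _ hu1
        exact M.pow_of_mem_U huU
      have h4 : p ∣ Nat.card H := by
        have := Subgroup.orderOf_dvd_natCard H hu
        rwa [h3] at this
      rwa [hp2] at h4
  · exfalso
    obtain ⟨z, -, hz⟩ := h
    apply hodd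
    have := card_orbit_mul (Γ := H) z
    rw [hz] at this
    exact ⟨_, this.symm⟩
  · rw [h.2.1] at hodd; omega
  · rw [h.2.1] at hodd; omega
  · rw [h.2.1] at hodd; omega
  · exfalso
    obtain ⟨z, -, h3, g, K1, h4, h5, -, -⟩ := h
    have hc : Nat.card (cj g (H.map (toP F))) = Nat.card H := by
      rw [card_cj]
      exact Nat.card_congr (H.equivMapOfInjective _ toP_injective).toEquiv.symm
    apply hodd
    rw [← hc]
    have h6 := even_card_PSLs K1
    have : Finite PGL(2, F) := finite_pgl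
    rcases h5 with h5 | h5
    · rw [h5]
      exact h6.trans (Subgroup.card_dvd_of_le (PSLs_le_PGLs K1))
    · rw [h5]; exact h6

end psl

end Cfsg.Agent.Dk
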