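import Mathlib
import Cfsg.Agent.Dk.BinOdd

/-! Binary actions of `PSL₂(q)`: involutions of the stabilizer. -/

set_option autoImplicit false

namespace Cfsg.Agent.Dk

open MulAction Matrix Subgroup LinearAlgebra.Projectivization Projectivization
open scoped MatrixGroups Pointwise
open H81 (pt0 pt1 ptz ptc)

section gen

variable {G : Type*} [Group G] [Finite G]

theorem Bin.inv_mem {H : Subgroup G} (hB : Bin G (G ⧸ H))
    (hconj : ∀ t t' : G, t ≠ 1 → t * t = 1 → t' ≠ 1 → t' * t' = 1 → ∃ a : G, a * t * a⁻¹ = t')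
    {t s : G} (ht : t ∈ H) (ht1 : t ≠ 1) (htt : t * t = 1) (hss : s * s = 1)
    (hc : t * s = s * t) : s ∈ H := by
  by_cases hs1 : s = 1
  · rw [hs1]; exact H.one_mem
  by_cases hts : t = s
  · rw [← hts]; exact ht
  have hf : ∀ y : G, y ≠ 1 → y * y = 1 →
      (fixedBy (G ⧸ H) y).ncard = (fixedBy (G ⧸ H) t).ncard := by
    intro y hy1 hy
    obtain ⟨a, ha⟩ := hconj t y ht1 htt hy1 hy
    rw [← ha, ← smul_fixedBy, Set.ncard_smul_set]
  have h1 : (QuotientGroup.mk 1 : G ⧸ H) ∈ fixedBy (G ⧸ H) t := by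
    rw [mem_fixedBy, smul_mk_self, cj_one]; exact ht
  have h2 := hB.fix hf ht1 htt hs1 hss hts hc h1
  rw [mem_fixedBy, smul_mk_self, cj_one] at h2
  exact h2

omit [Finite G] in
theorem zpow_invol {t : G} (ht : t * t = 1) (k : ℤ) : t ^ k = 1 ∨ t ^ k = t := by
  have h2 : t ^ (2 : ℤ) = 1 := by rw [zpow_two, ht]
  rcases Int.even_or_odd' k with ⟨l, hl | hl⟩
  · left; rw [hl, _root_.zpow_mul, h2, _root_.one_zpow]
  · right; rw [hl, _root_.zpow_add, _root_.zpow_mul, h2, _root_.one_zpow, one_mul, _root_.zpow_one]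

end gen

section mob

variable {p : ℕ} {Γ X K : Type*} [Group Γ] [MulAction Γ X] [Field K] (M : Mob p Γ X K)
include M

theorem Mob.swap_sq {x y : X} (hxy : x ≠ y) {s : Γ} (h1 : s • x = y) (h2 : s • y = x) :
    s * s = 1 := by
  have hs1 : s ≠ 1 := by
    rintro rfl
    rw [one_smul] at h1
    exact hxy h1
  obtain ⟨z, hz⟩ := M.exists_fix hs1
  have hzx : z ≠ x := by
    rintro rfl
    exact hxy (hz.symm.trans h1)
  have hzy : z ≠ y := by
    rintro rfl
    exact hxy (h2.symm.trans hz)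
  apply M.eq_one_of_three hzx hzy hxy
  · rw [mul_smul, hz, hz]
  · rw [mul_smul, h1, h2]
  · rw [mul_smul, h2, h1]

theorem Mob.swap_comm {x y : X} (hxy : x ≠ y) {s : Γ} (h1 : s • x = y) (h2 : s • y = x) {t : Γ}
    (ht : t ∈ TS Γ x y) (htt : t * t = 1) : t * s = s * t := by
  have h3 := M.swap_sq hxy h1 h2
  have h4 : (t * s) * (t * s) = 1 := by
    apply M.swap_sq hxy
    · rw [mul_smul, h1, ht.2]
    · rw [mul_smul, h2, ht.1]
  calc t * s = (t * t) * (t * s) * (s * s) := by rw [htt, h3, one_mul, mul_one]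
    _ = t * ((t * (t * s) * s) * s) := by group
    _ = t * ((t * t) * (s * s) * s) := by group
    _ = t * s := by rw [htt, h3, one_mul, one_mul]
    _ = ((t * s) * (t * s)) * (s⁻¹ * t⁻¹) := by group
    _ = s⁻¹ * t⁻¹ := by rw [h4, one_mul]
    _ = s * t := by
      rw [inv_eq_of_mul_eq_one_left h3, inv_eq_of_mul_eq_one_left htt]

end mob

section psl

variable {F K : Type*} [Field F] [Field K] [Algebra F K] [IsAlgClosed K] [Finite F]
  {p : ℕ} [hc : CharP K p] [hp : Fact p.Prime]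

attribute [local instance 10] pact sact

theorem inv_pair (K : Type*) [Field K] [Algebra F K] [IsAlgClosed K] [CharP K p]
    (h2 : (2 : F) ≠ 0) {t : PSL(2, F)} (ht : t ≠ 1) (htt : t * t = 1) :
    ∃ x y : ℙ K (Fin 2 → K), x ≠ y ∧ t ∈ TS PSL(2, F) x y := by
  have hfin : Finite PSL(2, F) := finite_psl
  have M := mobS (p := p) (F := F) (K := K)
  have hpF : CharP F p := (algebraMap F K).charP (algebraMap F K).injective p
  obtain ⟨x, hx⟩ := M.exists_fix ht
  rcases M.fix_or ht hx with h | ⟨y, hy, hy2⟩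
  · exfalso
    have h1 : t ^ p = 1 := M.pow_of_mem_U (M.mem_U.2 (Or.inr h))
    have h3 : orderOf t = p := orderOf_eq_prime h1 ht
    have h4 : orderOf t ∣ 2 := orderOf_dvd_of_pow_eq_one (by rw [sq, htt])
    rw [h3] at h4
    have hp2 : p = 2 := (Nat.prime_dvd_prime_iff_eq hp.out Nat.prime_two).1 h4
    apply h2
    have := CharP.cast_eq_zero F p
    rw [hp2] at this
    exact_mod_cast this
  · refine ⟨x, y, hy.symm, hx, ?_⟩
    have : y ∈ fixedBy (ℙ K (Fin 2 → K)) t := by rw [hy2]; simp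
    exact this

include hc hp in
/-- orders of the two point stabilizers -/
theorem card_TS_pair (h2 : (2 : F) ≠ 0) {x y : ℙ K (Fin 2 → K)} (hxy : x ≠ y)
    (h : TS PSL(2, F) x y ≠ ⊥) :
    (∃ s : PSL(2, F), s • x = y ∧ s • y = x) ∧
    ((x ∈ orbit PSL(2, F) (pt0 K) ∧ 2 * Nat.card (TS PSL(2, F) x y) + 1 = Nat.card F) ∨
     (x ∉ orbit PSL(2, F) (pt0 K) ∧ 2 * Nat.card (TS PSL(2, F) x y) = Nat.card F + 1)) := by
  have hfin : Finite PSL(2, F) := finite_psl
  have M := mobS (p := p) (F := F) (K := K)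
  have hF := fullS (p := p) (F := F) (K := K)
  have hq1 : 1 < Nat.card F := Finite.one_lt_card
  have ho : ¬ 2 ∣ Nat.card F := by
    intro hd
    have := Fintype.ofFinite F
    have hpF : CharP F p := (algebraMap F K).charP (algebraMap F K).injective p
    obtain ⟨n, -, hn⟩ := FiniteField.card F p
    rw [Nat.card_eq_fintype_card, hn] at hd
    have h3 := Nat.prime_two.dvd_of_dvd_pow hd
    have hp2 : p = 2 := ((Nat.prime_dvd_prime_iff_eq Nat.prime_two hp.out).1 h3).symm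
    apply h2
    have := CharP.cast_eq_zero F p
    rw [hp2] at this
    exact_mod_cast this
  have ht := t_psl (p := p) (F := F) (K := K)
  have hg : Nat.gcd 2 (Nat.card F - 1) = 2 := by
    apply Nat.gcd_eq_left; omega
  rw [hg] at ht
  by_cases hx : x ∈ orbit PSL(2, F) (pt0 K)
  · have hy := mate_rat (p := p) hxy h hx
    refine ⟨hF.swap hx hy hxy, Or.inl ⟨hx, ?_⟩⟩
    rw [hF.card_TS hx hy hxy]
    omega
  · obtain ⟨h3, -, h4⟩ := (ambS (F := F) (K := K)).card_TS_irr (p := p) hx hxy h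
    refine ⟨h4, Or.inr ⟨hx, ?_⟩⟩
    have h3' : Nat.card (TS PSL(2, F) x y) * (Nat.card F - 1) =
      (Nat.card F + 1) * (mobS (p := p) (F := F) (K := K)).t (pt0 K) := h3
    have h5 : 0 < Nat.card F - 1 := by omega
    apply Nat.eq_of_mul_eq_mul_right h5
    calc 2 * Nat.card (TS PSL(2, F) x y) * (Nat.card F - 1) =
        2 * (Nat.card (TS PSL(2, F) x y) * (Nat.card F - 1)) := by ring
      _ = (Nat.card F + 1) * (2 * (mobS (p := p) (F := F) (K := K)).t (pt0 K)) := by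
        rw [h3']; ring
      _ = _ := by rw [ht]

theorem inv_conj_odd (h2 : (2 : F) ≠ 0) (t t' : PSL(2, F)) (ht : t ≠ 1) (htt : t * t = 1)
    (ht' : t' ≠ 1) (htt' : t' * t' = 1) : ∃ a : PSL(2, F), a * t * a⁻¹ = t' := by
  obtain ⟨p, hp, hpF⟩ := exists_char (F := F)
  have : Fact p.Prime := ⟨hp⟩
  let K := AlgebraicClosure F
  have : CharP K p := charP_of_injective_algebraMap (algebraMap F K).injective p
  have hfin : Finite PSL(2, F) := finite_psl
  have M := mobS (p := p) (F := F) (K := K)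
  obtain ⟨x, y, hxy, hT⟩ := inv_pair (p := p) K h2 ht htt
  obtain ⟨x', y', hxy', hT'⟩ := inv_pair (p := p) K h2 ht' htt'
  have hb : ∀ (x y : ℙ K (Fin 2 → K)) (t : PSL(2, F)), t ∈ TS PSL(2, F) x y → t ≠ 1 → t * t = 1 →
      TS PSL(2, F) x y ≠ ⊥ ∧ 2 ∣ Nat.card (TS PSL(2, F) x y) := by
    intro x y t h ht htt
    refine ⟨?_, ?_⟩
    · intro h1; rw [h1, Subgroup.mem_bot] at h; exact ht h
    · have h1 : orderOf t = 2 := orderOf_eq_prime (by rw [sq, htt]) ht
      have h3 := Subgroup.orderOf_dvd_natCard (TS PSL(2, F) x y) h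
      rwa [h1] at h3
  obtain ⟨b1, d1⟩ := hb x y t hT ht htt
  obtain ⟨b2, d2⟩ := hb x' y' t' hT' ht' htt'
  obtain ⟨-, c1⟩ := card_TS_pair (p := p) h2 hxy b1
  obtain ⟨-, c2⟩ := card_TS_pair (p := p) h2 hxy' b2
  have hiff : x ∈ orbit PSL(2, F) (pt0 K) ↔ x' ∈ orbit PSL(2, F) (pt0 K) := by
    rcases c1 with ⟨e1, f1⟩ | ⟨e1, f1⟩ <;> rcases c2 with ⟨e2, f2⟩ | ⟨e2, f2⟩
    · exact ⟨fun _ => e2, fun _ => e1⟩
    · exfalso; omega
    · exfalso; omega
    · exact ⟨fun h => absurd h e1, fun h => absurd h e2⟩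
  obtain ⟨a, ha1, ha2⟩ := conj_pairs (p := p) hxy hxy' b1 b2 hiff
  refine ⟨a, ?_⟩
  have h3 : a * t * a⁻¹ ∈ TS PSL(2, F) x' y' := by
    constructor
    · show (a * t * a⁻¹) • x' = x'
      rw [← ha1, mul_smul, inv_smul_smul, mul_smul, show t • x = x from hT.1]
    · show (a * t * a⁻¹) • y' = y'
      rw [← ha2, mul_smul, inv_smul_smul, mul_smul, show t • y = y from hT.2]
  have h4 : a * t * a⁻¹ ≠ 1 := by rwa [Ne, conj_eq_one_iff]
  have h5 : (a * t * a⁻¹) * (a * t * a⁻¹) = 1 := by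
    calc (a * t * a⁻¹) * (a * t * a⁻¹) = a * (t * t) * a⁻¹ := by group
      _ = 1 := by rw [htt]; group
  -- the involution of a cyclic group is unique
  have hcyc := M.cyclic_TS hxy'
  have h6 : (⟨a * t * a⁻¹, h3⟩ : TS PSL(2, F) x' y') ∈
      Subgroup.zpowers (⟨t', hT'⟩ : TS PSL(2, F) x' y') := by
    have h7 : Nat.card (Subgroup.zpowers (⟨t', hT'⟩ : TS PSL(2, F) x' y')) = 2 := by
      rw [Nat.card_zpowers]
      apply orderOf_eq_prime
      · rw [sq]; exact Subtype.ext htt'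
      · exact fun h => ht' (congrArg Subtype.val h)
    have h8 := mem_of_pow (T := (⊤ : Subgroup (TS PSL(2, F) x' y')))
      (H := Subgroup.zpowers (⟨t', hT'⟩ : TS PSL(2, F) x' y')) ?_ le_top
      (u := ⟨a * t * a⁻¹, h3⟩) (Subgroup.mem_top _) h7 ?_
    · exact h8
    · exact Subgroup.topEquiv.isCyclic.2 hcyc
    · rw [sq]; exact Subtype.ext h5
  obtain ⟨k, hk⟩ := h6
  have hk' : t' ^ k = a * t * a⁻¹ := congrArg Subtype.val hk
  rcases zpow_invol htt' k with h9 | h9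
  · exfalso
    apply h4
    rw [← hk', h9]
  · rw [← hk', h9]

end psl

end Cfsg.Agent.Dk
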