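import Mathlib
import Cfsg.Agent.Dk.BinInv

/-! Binary actions of `PSL₂(q)`, `q` odd, with stabilizer of even order. -/

set_option autoImplicit false

namespace Cfsg.Agent.Dk

open MulAction Matrix Subgroup LinearAlgebra.Projectivization Projectivization
open scoped MatrixGroups Pointwise
open H81 (pt0 pt1 ptz ptc)

section small

theorem cent_A4 : ∃ σ : alternatingGroup (Fin 4), σ ≠ 1 ∧ σ * σ = 1 ∧
    Fintype.card {τ : alternatingGroup (Fin 4) // τ * σ = σ * τ} < 8 := by
  refine ⟨⟨Equiv.swap 0 1 * Equiv.swap 2 3, by rw [Equiv.Perm.mem_alternatingGroup]; decide⟩,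
    by decide, by decide, ?_⟩
  decide +kernel

theorem cent_S4 : ∃ σ : Equiv.Perm (Fin 4), σ ≠ 1 ∧ σ * σ = 1 ∧
    Fintype.card {τ : Equiv.Perm (Fin 4) // τ * σ = σ * τ} < 8 := by
  refine ⟨Equiv.swap 0 1, by decide, by decide, ?_⟩
  decide +kernel

theorem cent_A5 : ∃ σ : alternatingGroup (Fin 5), σ ≠ 1 ∧ σ * σ = 1 ∧
    Fintype.card {τ : alternatingGroup (Fin 5) // τ * σ = σ * τ} < 8 := by
  refine ⟨⟨Equiv.swap 0 1 * Equiv.swap 2 3, by rw [Equiv.Perm.mem_alternatingGroup]; decide⟩,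
    by decide, by decide, ?_⟩
  decide +kernel

theorem no_small {G P : Type*} [Group G] [Group P] [Fintype P] [DecidableEq P] {H : Subgroup G}
    [Finite G]
    (e : H ≃* P) (hex : ∃ σ : P, σ ≠ 1 ∧ σ * σ = 1 ∧ Fintype.card {τ : P // τ * σ = σ * τ} < 8)
    (hH : ∀ t ∈ H, t ≠ 1 → t * t = 1 → ∃ D : Subgroup G, D ≤ H ∧ 8 ≤ Nat.card D ∧
      ∀ d ∈ D, t * d = d * t) : False := by
  obtain ⟨σ, h1, h2, h3⟩ := hex
  have ht1 : ((e.symm σ : H) : G) ≠ 1 := by
    intro h
    have h4 : e.symm σ = 1 := Subtype.ext h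
    rw [EmbeddingLike.map_eq_one_iff] at h4
    exact h1 h4
  have htt : ((e.symm σ : H) : G) * ((e.symm σ : H) : G) = 1 := by
    rw [← Subgroup.coe_mul, ← map_mul, h2, map_one, Subgroup.coe_one]
  obtain ⟨D, hD, h8, hc⟩ := hH _ (e.symm σ).2 ht1 htt
  let f : D → {τ : P // τ * σ = σ * τ} := fun d => ⟨e ⟨d, hD d.2⟩, by
    have h5 : (⟨d, hD d.2⟩ : H) * e.symm σ = e.symm σ * ⟨d, hD d.2⟩ :=
      Subtype.ext (hc d d.2).symm
    have h6 := congrArg e h5
    rwa [map_mul, map_mul, e.apply_symm_apply] at h6⟩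
  have hf : Function.Injective f := by
    intro a b hab
    have h5 := e.injective (congrArg Subtype.val hab)
    exact Subtype.ext (congrArg (fun z : H => (z : G)) h5)
  have h6 := Nat.card_le_card_of_injective f hf
  rw [Nat.card_eq_fintype_card (α := {τ : P // τ * σ = σ * τ})] at h6
  omega

end small

section psl

variable {F K : Type*} [Field F] [Field K] [Algebra F K] [IsAlgClosed K] [Finite F]
  {p : ℕ} [hc : CharP K p] [hp : Fact p.Prime]

attribute [local instance 10] pact sact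

include hc hp in
theorem DS_le_of_bin (h2 : (2 : F) ≠ 0) {H : Subgroup PSL(2, F)}
    (hB : Bin PSL(2, F) (PSL(2, F) ⧸ H)) {t : PSL(2, F)} (ht : t ∈ H) (ht1 : t ≠ 1)
    (htt : t * t = 1) {x y : ℙ K (Fin 2 → K)} (hxy : x ≠ y) (hT : t ∈ TS PSL(2, F) x y) :
    DS PSL(2, F) x y ≤ H := by
  have hfin : Finite PSL(2, F) := finite_psl
  have M := mobS (p := p) (F := F) (K := K)
  have hb : TS PSL(2, F) x y ≠ ⊥ := by
    intro h1; rw [h1, Subgroup.mem_bot] at hT; exact ht1 hT
  obtain ⟨⟨s, hs1, hs2⟩, -⟩ := card_TS_pair (p := p) h2 hxy hb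
  have hsw : ∀ g : PSL(2, F), g • x = y → g • y = x → g ∈ H := by
    intro g h3 h4
    exact hB.inv_mem (inv_conj_odd h2) ht ht1 htt (M.swap_sq hxy h3 h4)
      (M.swap_comm hxy h3 h4 hT htt)
  have hsH := hsw s hs1 hs2
  intro g hg
  rcases hg with ⟨h3, h4⟩ | ⟨h3, h4⟩
  · have h5 : s * g ∈ H := by
      apply hsw
      · rw [mul_smul, h3, hs1]
      · rw [mul_smul, h4, hs2]
    exact (H.mul_mem_cancel_left hsH).1 h5
  · exact hsw g h3 h4

/-- the stabilizer of an odd characteristic action has odd order -/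
theorem bin_even_odd (K : Type*) [Field K] [Algebra F K] [IsAlgClosed K] [CharP K p]
    (h2 : (2 : F) ≠ 0) (hq : 7 ≤ Nat.card F) {H : Subgroup PSL(2, F)}
    (hH : H ≠ ⊤) (hev : 2 ∣ Nat.card H) (hB : Bin PSL(2, F) (PSL(2, F) ⧸ H)) : False := by
  have hfin : Finite PSL(2, F) := finite_psl
  have hfin' : Finite PGL(2, F) := finite_pgl
  have M := mobS (p := p) (F := F) (K := K)
  have : Fact (Nat.Prime 2) := ⟨Nat.prime_two⟩
  obtain ⟨⟨t, ht⟩, ho⟩ := exists_prime_orderOf_dvd_card' (G := H) 2 hev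
  have ho' : orderOf t = 2 := (Subgroup.orderOf_coe (⟨t, ht⟩ : H)).trans ho
  have ht1 : t ≠ 1 := by
    rintro rfl
    rw [orderOf_one] at ho'; omega
  have htt : t * t = 1 := by
    have := pow_orderOf_eq_one t
    rwa [ho', sq] at this
  have hbot : H ≠ ⊥ := by
    rintro rfl
    exact ht1 (Subgroup.mem_bot.1 ht)
  -- the pair of an involution
  have hpair : ∀ t ∈ H, t ≠ 1 → t * t = 1 → ∃ x y : ℙ K (Fin 2 → K), x ≠ y ∧
      t ∈ TS PSL(2, F) x y ∧ DS PSL(2, F) x y ≤ H ∧ (∃ s : PSL(2, F), s • x = y ∧ s • y = x) ∧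
      4 ≤ Nat.card (TS PSL(2, F) x y) ∧ Nat.card (DS PSL(2, F) x y) =
        2 * Nat.card (TS PSL(2, F) x y) ∧ (2 * Nat.card (TS PSL(2, F) x y) + 1 = Nat.card F ∨
        2 * Nat.card (TS PSL(2, F) x y) = Nat.card F + 1) ∧ 2 ∣ Nat.card (TS PSL(2, F) x y) := by
    intro t ht ht1 htt
    obtain ⟨x, y, hxy, hT⟩ := inv_pair (p := p) K h2 ht1 htt
    have hb : TS PSL(2, F) x y ≠ ⊥ := by
      intro h1; rw [h1, Subgroup.mem_bot] at hT; exact ht1 hT
    have hd : 2 ∣ Nat.card (TS PSL(2, F) x y) := by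
      have h1 : orderOf t = 2 := orderOf_eq_prime (by rw [sq, htt]) ht1
      have h3 := Subgroup.orderOf_dvd_natCard (TS PSL(2, F) x y) hT
      rwa [h1] at h3
    obtain ⟨⟨s, hs1, hs2⟩, hcard⟩ := card_TS_pair (p := p) h2 hxy hb
    refine ⟨x, y, hxy, hT, DS_le_of_bin (p := p) h2 hB ht ht1 htt hxy hT, ⟨s, hs1, hs2⟩, ?_,
      (M.DS_dihedral hxy hs1 hs2).2, ?_, hd⟩
    · rcases hcard with ⟨-, h⟩ | ⟨-, h⟩ <;> omega
    · rcases hcard with ⟨-, h⟩ | ⟨-, h⟩
      · exact Or.inl h
      · exact Or.inr h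
  -- no point is fixed by all involutions
  have hfixall : ∀ z : ℙ K (Fin 2 → K), ¬ ∀ t ∈ H, t ≠ 1 → t * t = 1 → t • z = z := by
    intro z hz
    obtain ⟨x, y, hxy, hT, hD, ⟨s, hs1, hs2⟩, -⟩ := hpair t ht ht1 htt
    have hsH : s ∈ H := hD (Or.inr ⟨hs1, hs2⟩)
    have hs0 : s ≠ 1 := by
      rintro rfl; rw [one_smul] at hs1; exact hxy hs1
    have h3 := hz s hsH hs0 (M.swap_sq hxy hs1 hs2)
    have h4 := hz t ht ht1 htt
    rcases M.mem_pair hxy hT ht1 h4 with rfl | rfl
    · exact hxy (h3.symm.trans hs1)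
    · exact hxy (hs2.symm.trans h3)
  have hD8 : ∀ t ∈ H, t ≠ 1 → t * t = 1 → ∃ D : Subgroup PSL(2, F), D ≤ H ∧ 8 ≤ Nat.card D ∧
      ∀ d ∈ D, t * d = d * t := by
    intro t ht ht1 htt
    obtain ⟨x, y, hxy, hT, hD, ⟨s, hs1, hs2⟩, h4, h5, -⟩ := hpair t ht ht1 htt
    refine ⟨DS PSL(2, F) x y, hD, by omega, ?_⟩
    intro d hd
    rcases hd with hd | hd
    · exact M.comm_TS hxy hT hd
    · exact M.swap_comm hxy hd.1 hd.2 hT htt
  rcases (ambS (F := F) (K := K)).list (p := p) hbot with h | h | h | h | h | h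
  · obtain ⟨z, hz⟩ := h
    exact hfixall z (fun t ht _ _ => hz t ht)
  · obtain ⟨z, -, hz⟩ := h
    apply hfixall z
    intro t ht ht1 htt
    obtain ⟨x, y, hxy, hT, hD, -, h4, -⟩ := hpair t ht ht1 htt
    obtain ⟨w, hw1, hw2, -⟩ := orbit_pair hz
    obtain ⟨c, hc⟩ := (M.cyclic_TS hxy).exists_generator
    have hco := orderOf_eq_card_of_forall_mem_zpowers hc
    have hcc : (c : PSL(2, F)) * c ≠ 1 := by
      intro h1
      have h3 : orderOf c ∣ 2 := orderOf_dvd_of_pow_eq_one (by rw [sq]; exact Subtype.ext h1)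
      have := Nat.le_of_dvd (by norm_num) h3
      omega
    have hcH : (c : PSL(2, F)) ∈ H := hD (TS_le_DS x y c.2)
    have horb : ∀ v ∈ orbit H z, (c : PSL(2, F)) • v ∈ orbit H z := by
      rintro _ ⟨h, rfl⟩
      exact ⟨⟨c, hcH⟩ * h, mul_smul _ _ _⟩
    rw [hw2] at horb
    have hz1 := horb z (by simp)
    have hw1' := horb w (by simp)
    have hccz : ((c : PSL(2, F)) * c) • z = z := by
      rw [mul_smul]
      rcases hz1 with h1 | h1
      · rw [h1, h1]
      · have h1 : (c : PSL(2, F)) • z = w := h1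
        rw [h1]
        rcases hw1' with h3 | h3
        · exact h3
        · exfalso
          have h3 : (c : PSL(2, F)) • w = w := h3
          exact hw1 (smul_left_cancel _ (h3.trans h1.symm))
    rcases M.mem_pair hxy ((TS PSL(2, F) x y).mul_mem c.2 c.2) hcc hccz with rfl | rfl
    · exact hT.1
    · exact hT.2
  · obtain ⟨-, -, ⟨e⟩⟩ := h
    exact no_small e cent_A4 hD8
  · obtain ⟨-, -, ⟨e⟩⟩ := h
    exact no_small e cent_S4 hD8
  · obtain ⟨-, -, ⟨e⟩⟩ := h
    exact no_small e cent_A5 hD8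
  · obtain ⟨z, hF, h3, g, K1, h4, h5, h6, h7⟩ := h
    obtain ⟨x, y, hxy, hT, hD, ⟨s, hs1, hs2⟩, hm4, hDm, hmq, hm2⟩ := hpair t ht ht1 htt
    set m := Nat.card (TS PSL(2, F) x y) with hm
    have hpF : CharP F p := (algebraMap F K).charP (algebraMap F K).injective p
    have hpq : p ∣ Nat.card F := char_dvd_card hp.out
    have hpm : ¬ p ∣ m := by
      intro h
      have hp1 := hp.out.one_lt
      rcases hmq with h1 | h1
      · have h8 : p ∣ 2 * m + 1 := by rw [h1]; exact hpq
        have h9 : p ∣ 1 := (Nat.dvd_add_right (Dvd.dvd.mul_left h 2)).1 h8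
        have := Nat.le_of_dvd one_pos h9
        omega
      · have h8 : p ∣ Nat.card F + 1 := by rw [← h1]; exact Dvd.dvd.mul_left h 2
        have h9 : p ∣ 1 := (Nat.dvd_add_right hpq).1 h8
        have := Nat.le_of_dvd one_pos h9
        omega
    have hTH : TS PSL(2, F) x y ≤ H := (TS_le_DS x y).trans hD
    have hC : Nat.card ((TS PSL(2, F) x y).subgroupOf H) = m :=
      Nat.card_congr (Subgroup.subgroupOfEquivOfLe hTH).toEquiv
    have hdvd := hF.card_dvd (C := (TS PSL(2, F) x y).subgroupOf H) (z := x)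
      (fun c hc => (Subgroup.mem_subgroupOf.1 hc).1) (by rw [hC]; exact hpm)
    rw [hC] at hdvd
    have hcardH := (M.subgroup H).card_eq_orbit z
    rw [hF.hN] at hcardH
    have htlt := (M.subgroup H).t_lt hF.hU
    have hq1 : Nat.card ((M.subgroup H).U z) = Nat.card K1 := h7.symm
    have hq1' : Nat.card (((ambS (F := F) (K := K)).mob (p := p)).subgroup H |>.U z) =
      Nat.card K1 := h7.symm
    rw [hq1'] at hdvd hcardH htlt
    set q1 := Nat.card K1 with hq1def
    set t' := (((ambS (F := F) (K := K)).mob (p := p)).subgroup H).t z with ht'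
    have htlt' : t' ≤ q1 - 1 := htlt
    have hcardH' : (q1 + 1) * (q1 * t') = Nat.card H := hcardH
    have hHpos : 0 < Nat.card H := Nat.card_pos
    have htpos : 0 < t' := by
      rcases Nat.eq_zero_or_pos t' with h | h
      · rw [h, mul_zero, mul_zero] at hcardH'; omega
      · exact h
    have hq13 : 3 ≤ q1 := by rw [← hq1]; exact h3
    have hmle : m ≤ q1 + 1 := by
      rcases hdvd with h | ⟨m', hm1, hm'⟩
      · have := Nat.le_of_dvd htpos h
        omega
      · have h8 : m' * (q1 - 1) ≤ (q1 + 1) * (q1 - 1) := by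
          rw [hm']; exact Nat.mul_le_mul_left _ htlt'
        have h9 : m' ≤ q1 + 1 := Nat.le_of_mul_le_mul_right h8 (by omega)
        have h10 : 0 < m' := by
          rcases Nat.eq_zero_or_pos m' with h | h
          · rw [h, zero_mul] at hm'
            have : 0 < (q1 + 1) * t' := by positivity
            omega
          · exact h
        have := Nat.le_of_dvd h10 hm1
        omega
    have hcardim : Nat.card (cj g (H.map (toP F))) = Nat.card H := by
      rw [card_cj]
      exact Nat.card_congr (H.equivMapOfInjective _ toP_injective).toEquiv.symm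
    obtain ⟨r, hr⟩ := exists_pow_card K1
    rw [← hq1def] at hr
    by_cases hr1 : r ≤ 1
    · have hr1' : r = 1 := by
        rcases Nat.eq_zero_or_pos r with h | h
        · rw [h, pow_zero] at hr; omega
        · omega
      rw [hr1', pow_one] at hr
      have hK1 : K1 = ⊤ := eq_top_of_card hr
      have hle : PSLr F ≤ cj g (H.map (toP F)) := by
        rcases h5 with h5 | h5
        · rw [h5, hK1, PGLs_top]; exact le_top
        · rw [h5, hK1, PSLs_top]
      have h8 := Subgroup.card_le_of_le hle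
      rw [hcardim, ← im_top] at h8
      have h9 : Nat.card (im (⊤ : Subgroup PSL(2, F))) = Nat.card PSL(2, F) := by
        rw [← Nat.card_congr (imEquiv (⊤ : Subgroup PSL(2, F))).toEquiv]
        exact Nat.card_congr Subgroup.topEquiv.toEquiv
      rw [h9] at h8
      exact hH (Subgroup.eq_top_of_le_card _ h8)
    · have hr2 : q1 ^ 2 ≤ Nat.card F := by
        rw [← hr]; exact Nat.pow_le_pow_right (by omega) (by omega)
      have hq2 : Nat.card F ≤ 2 * m + 1 := by
        rcases hmq with h | h <;> omega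
      have hq13' : q1 = 3 := by
        by_contra hne
        have h4 : 4 ≤ q1 := by omega
        nlinarith
      rw [hq13'] at hr2 hmle hcardH' htlt'
      have hF9 : Nat.card F = 9 := by
        rw [hq13'] at hr
        have h8 : Nat.card F ≤ 9 := by omega
        omega
      have hm4' : m = 4 := by
        obtain ⟨k, hk⟩ := hm2
        omega
      have h8 : Nat.card (DS PSL(2, F) x y) ∣ Nat.card H := Subgroup.card_dvd_of_le hD
      rw [hDm, hm4'] at h8
      have ht2 : t' = 2 := by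
        have : t' = 1 ∨ t' = 2 := by omega
        rcases this with h | h
        · exfalso
          rw [h] at hcardH'
          rw [← hcardH'] at h8
          omega
        · exact h
      rw [ht2] at hcardH'
      have hY : Nat.card (orbit H z) = 4 := by
        have := hF.hN
        rw [hq1', hq13'] at this
        exact this
      have hfo := finite_orbit (Γ := H) z
      obtain ⟨e⟩ := perm_sym (G := H) (Y := orbit H z) 4 hY (by
        intro h hh
        by_contra hne
        have h10 := (M.subgroup H).hfix h hne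
        have h11 : (orbit H z : Set (ℙ K (Fin 2 → K))) ⊆ fixedBy (ℙ K (Fin 2 → K)) h := by
          intro v hv
          exact congrArg Subtype.val (hh ⟨v, hv⟩)
        have h12 := Set.ncard_le_ncard h11 h10.1
        rw [← Nat.card_coe_set_eq (orbit H z), hY] at h12
        rcases h10.2 with h13 | h13 <;> omega) (by rw [← hcardH']; rfl)
      exact no_small e cent_S4 hD8

end psl

end Cfsg.Agent.Dk
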