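import Mathlib
import Cfsg.Agent.Dk.BinEv

/-! Binary actions of `PSL₂(q)`, `q` even, with stabilizer of even order. -/

set_option autoImplicit false

namespace Cfsg.Agent.Dk

open MulAction Matrix Subgroup LinearAlgebra.Projectivization Projectivization
open scoped MatrixGroups Pointwise
open H81 (pt0 pt1 ptz ptc)

section psl

variable {F K : Type*} [Field F] [Field K] [Algebra F K] [IsAlgClosed K] [Finite F]

attribute [local instance 10] pact sact

theorem XS_conj_two [CharP F 2] {e : F} (he : e ≠ 0) :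
    ∃ d : PSL(2, F), d * XS 1 * d⁻¹ = XS e := by
  have hev : Even (Nat.card F) := by
    have := char_dvd_card (F := F) Nat.prime_two
    exact even_iff_two_dvd.2 this
  have h1 : DD e he ∈ PSLr F := by rw [PSLr_eq_top_of_even hev]; exact Subgroup.mem_top _
  rw [← toP_range] at h1
  obtain ⟨d, hd⟩ := h1
  refine ⟨d, toP_injective ?_⟩
  rw [map_mul, map_mul, map_inv, hd, toP_XS, toP_XS, mul_inv_eq_iff_eq_mul]
  apply eq_of_three (K := AlgebraicClosure F)
  · rw [mul_smul, mul_smul, XX_smul_pt0, DD_smul_pt0, XX_smul_pt0]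
  · rw [mul_smul, mul_smul, XX_smul_ptz, DD_smul_ptz, DD_smul_ptz, XX_smul_ptz, ptz_eq_iff]
    simp
  · rw [mul_smul, mul_smul, XX_smul_ptz, DD_smul_ptz, DD_smul_ptz, XX_smul_ptz, ptz_eq_iff]
    simp; ring

theorem inv_mem_U [CharP K 2] {t : PSL(2, F)} (ht : t ≠ 1) (htt : t * t = 1) :
    ∃ z : ℙ K (Fin 2 → K), t ∈ (mobS (p := 2) (F := F) (K := K)).U z := by
  have hfin : Finite PSL(2, F) := finite_psl
  have : Fact (Nat.Prime 2) := ⟨Nat.prime_two⟩
  have M := mobS (p := 2) (F := F) (K := K)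
  obtain ⟨z, hz⟩ := M.exists_fix ht
  exact ⟨z, M.mem_U_of_pow hz (k := 1) (by rw [pow_one, sq, htt])⟩

theorem inv_conj_two [CharP F 2] (t t' : PSL(2, F)) (ht : t ≠ 1) (htt : t * t = 1)
    (ht' : t' ≠ 1) (htt' : t' * t' = 1) : ∃ a : PSL(2, F), a * t * a⁻¹ = t' := by
  have hfin : Finite PSL(2, F) := finite_psl
  let K := AlgebraicClosure F
  have : CharP K 2 := charP_of_injective_algebraMap (algebraMap F K).injective 2
  have : Fact (Nat.Prime 2) := ⟨Nat.prime_two⟩
  have M := mobS (p := 2) (F := F) (K := K)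
  have hF := fullS (p := 2) (F := F) (K := K)
  have key : ∀ t : PSL(2, F), t ≠ 1 → t * t = 1 → ∃ a : PSL(2, F), a * XS 1 * a⁻¹ = t := by
    intro t ht htt
    obtain ⟨z, hz⟩ := inv_mem_U (K := K) ht htt
    have hne : M.U z ≠ ⊥ := by
      intro h
      rw [h, Subgroup.mem_bot] at hz
      exact ht hz
    obtain ⟨g, hg⟩ := M.exists_smul_eq hne hF.1
    have h1 : g * t * g⁻¹ ∈ M.U (pt0 K) := by rw [← hg]; exact (M.conj_mem_U g).2 hz
    obtain ⟨e, he⟩ := mem_US_pt0.1 h1
    have he0 : e ≠ 0 := by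
      rintro rfl
      rw [XS_zero, conj_eq_one_iff] at he
      exact ht he
    obtain ⟨d, hd⟩ := XS_conj_two he0
    refine ⟨g⁻¹ * d, ?_⟩
    calc g⁻¹ * d * XS 1 * (g⁻¹ * d)⁻¹ = g⁻¹ * (d * XS 1 * d⁻¹) * g := by group
      _ = g⁻¹ * (g * t * g⁻¹) * g := by rw [hd, he]
      _ = t := by group
  obtain ⟨a, ha⟩ := key t ht htt
  obtain ⟨b, hb⟩ := key t' ht' htt'
  refine ⟨b * a⁻¹, ?_⟩
  rw [← ha, ← hb]; group

theorem bin_even_two (h4 : 4 ≤ Nat.card F) [CharP F 2] {H : Subgroup PSL(2, F)}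
    (hH : H ≠ ⊤) (hev : 2 ∣ Nat.card H) (hB : Bin PSL(2, F) (PSL(2, F) ⧸ H)) :
    ∃ P : Sylow 2 PSL(2, F), H = P := by
  have hfin : Finite PSL(2, F) := finite_psl
  have hfin' : Finite PGL(2, F) := finite_pgl
  let K := AlgebraicClosure F
  have : CharP K 2 := charP_of_injective_algebraMap (algebraMap F K).injective 2
  have : Fact (Nat.Prime 2) := ⟨Nat.prime_two⟩
  have M := mobS (p := 2) (F := F) (K := K)
  obtain ⟨⟨t, ht⟩, ho⟩ := exists_prime_orderOf_dvd_card' (G := H) 2 hev
  have ho' : orderOf t = 2 := (Subgroup.orderOf_coe (⟨t, ht⟩ : H)).trans ho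
  have ht1 : t ≠ 1 := by
    rintro rfl
    rw [orderOf_one] at ho'; omega
  have htt : t * t = 1 := by
    have := pow_orderOf_eq_one t
    rwa [ho', sq] at this
  have hbot : H ≠ ⊥ := by
    rintro rfl
    exact ht1 (Subgroup.mem_bot.1 ht)
  have hUle : ∀ (z : ℙ K (Fin 2 → K)) (t : PSL(2, F)), t ∈ H → t ≠ 1 → t ∈ M.U z → M.U z ≤ H := by
    intro z t ht ht1 htU s hs
    have h2 : ∀ u ∈ M.U z, u * u = 1 := by
      intro u hu
      rw [← sq]; exact M.pow_of_mem_U hu
    refine hB.inv_mem inv_conj_two ht ht1 (h2 t htU) (h2 s hs) ?_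
    have h3 := h2 _ ((M.U z).mul_mem htU hs)
    calc t * s = (t * t) * (t * s) * (s * s) := by rw [h2 t htU, h2 s hs, one_mul, mul_one]
      _ = t * ((t * (t * s) * s) * s) := by group
      _ = t * ((t * t) * (s * s) * s) := by group
      _ = t * s := by rw [h2 t htU, h2 s hs, one_mul, one_mul]
      _ = ((t * s) * (t * s)) * (s⁻¹ * t⁻¹) := by group
      _ = s⁻¹ * t⁻¹ := by rw [h3, one_mul]
      _ = s * t := by
        rw [inv_eq_of_mul_eq_one_left (h2 s hs), inv_eq_of_mul_eq_one_left (h2 t htU)]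
  obtain ⟨z, hz⟩ := inv_mem_U (K := K) ht1 htt
  have hle := hUle z t ht ht1 hz
  have hne : M.U z ≠ ⊥ := by
    intro h
    rw [h, Subgroup.mem_bot] at hz
    exact ht1 hz
  have hcU : ∀ z : ℙ K (Fin 2 → K), M.U z ≠ ⊥ → Nat.card (M.U z) = Nat.card F := by
    intro z hne
    obtain ⟨g, hg⟩ := M.exists_smul_eq hne (fullS (p := 2) (F := F) (K := K)).1
    rw [← M.card_U_smul g z, hg]
    exact card_US_pt0
  by_cases hfix : ∀ h ∈ H, h • z = z
  · by_cases hHU : H ≤ M.U z
    · obtain ⟨P, hP⟩ := M.exists_sylow hne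
      exact ⟨P, by rw [hP]; exact le_antisymm hHU hle⟩
    · exfalso
      obtain ⟨y, hy, hyU⟩ := SetLike.not_le_iff_exists.1 hHU
      exact not_bin_borel (p := 2) hfix hne hle hy hyU hB
  · exfalso
    rcases (ambS (F := F) (K := K)).list (p := 2) hbot with h | h | h | h | h | h
    · obtain ⟨z', hz'⟩ := h
      have h1 : z' = z := M.eq_of_mem_U hz ht1 (hz' t ht)
      rw [← h1] at hfix
      exact hfix hz'
    · obtain ⟨z', hU, hz'⟩ := h
      have hU' : ((M.subgroup H)).U z' = ⊥ := hU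
      have h1 := card_orbit_mul (Γ := M.U z) z'
      have hmem : ∀ g : M.U z, (g : PSL(2, F)) • z' ∈ orbit H z' := fun g =>
        ⟨⟨g, hle g.2⟩, rfl⟩
      have h2 : orbit (M.U z) z' ⊆ orbit H z' := by
        rintro _ ⟨g, rfl⟩
        exact hmem g
      have hfo := finite_orbit (Γ := H) z'
      have h3 : Nat.card (orbit (M.U z) z') ≤ 2 :=
        (Nat.card_mono hfo h2).trans hz'.le
      have h4' : 1 < Nat.card (stabilizer (M.U z) z') := by
        rw [hcU z hne] at h1
        by_contra hcon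
        have : Nat.card (orbit (M.U z) z') * Nat.card (stabilizer (M.U z) z') ≤ 2 * 1 :=
          Nat.mul_le_mul h3 (by omega)
        omega
      rw [Subgroup.one_lt_card_iff_ne_bot] at h4'
      obtain ⟨u, hu⟩ := (stabilizer (M.U z) z').ne_bot_iff_exists_ne_one.1 h4'
      have hu1 : ((u : M.U z) : PSL(2, F)) ≠ 1 := fun h => hu (Subtype.ext (Subtype.ext h))
      have h5 : z' = z := M.eq_of_mem_U u.1.2 hu1 u.2
      have h6 : (⟨t, ht⟩ : H) ∈ (M.subgroup H).U z' := by
        rw [M.mem_U_subgroup, h5]; exact hz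
      rw [hU', Subgroup.mem_bot] at h6
      exact ht1 (congrArg Subtype.val h6)
    · exact h.1 (by norm_num)
    · exact h.1 (by norm_num)
    · rcases h.1 with h | h
      · exact h (by norm_num)
      · omega
    · obtain ⟨z', hF, h3, g, K1, h4', h5, h6, h7⟩ := h
      have hF1 : (M.subgroup H).U z' ≠ ⊥ := hF.1
      obtain ⟨u, hu⟩ := ((M.subgroup H).U z').ne_bot_iff_exists_ne_one.1 hF1
      have hu1 : ((u : H) : PSL(2, F)) ≠ 1 := fun h => hu (Subtype.ext (Subtype.ext h))
      have huU : ((u : H) : PSL(2, F)) ∈ M.U z' := M.mem_U_subgroup.1 u.2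
      have hle' := hUle z' _ u.1.2 hu1 huU
      have hne' : M.U z' ≠ ⊥ := by
        intro h
        rw [h, Subgroup.mem_bot] at huU
        exact hu1 huU
      have hc1 : Nat.card ((M.subgroup H).U z') = Nat.card (M.U z') := by
        refine Nat.card_eq_of_bijective (f := fun v : (M.subgroup H).U z' =>
          (⟨v.1.1, M.mem_U_subgroup.1 v.2⟩ : M.U z')) ⟨?_, ?_⟩
        · intro a b hab
          exact Subtype.ext (Subtype.ext (congrArg (fun z : M.U z' => (z : PSL(2, F))) hab))
        · rintro ⟨v, hv⟩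
          exact ⟨⟨⟨v, hle' hv⟩, M.mem_U_subgroup.2 hv⟩, rfl⟩
      have hK1 : K1 = ⊤ := by
        apply eq_top_of_card
        rw [h7]
        exact hc1.trans (hcU z' hne')
      have hcardim : Nat.card (cj g (H.map (toP F))) = Nat.card H := by
        rw [card_cj]
        exact Nat.card_congr (H.equivMapOfInjective _ toP_injective).toEquiv.symm
      have hle2 : PSLr F ≤ cj g (H.map (toP F)) := by
        rcases h5 with h5 | h5
        · rw [h5, hK1, PGLs_top]; exact le_top
        · rw [h5, hK1, PSLs_top]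
      have h8 := Subgroup.card_le_of_le hle2
      rw [hcardim, ← im_top] at h8
      have h9 : Nat.card (im (⊤ : Subgroup PSL(2, F))) = Nat.card PSL(2, F) := by
        rw [← Nat.card_congr (imEquiv (⊤ : Subgroup PSL(2, F))).toEquiv]
        exact Nat.card_congr Subgroup.topEquiv.toEquiv
      rw [h9] at h8
      exact hH (Subgroup.eq_top_of_le_card _ h8)

end psl

/-- binary coset actions of `PSL₂(q)` -/
theorem binary_iff {F : Type*} [Field F] [Fintype F] (h4 : 4 ≤ Fintype.card F)
    (h5 : Fintype.card F ≠ 5) (H : Subgroup PSL(2, F)) (hH : H ≠ ⊤) :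
    Bin PSL(2, F) (PSL(2, F) ⧸ H) ↔
      (H = ⊥ ∨ ((∃ a : ℕ, Fintype.card F = 2 ^ a) ∧ ∃ P : Sylow 2 PSL(2, F), H = P) ∨
        ((∃ a : ℕ, Odd a ∧ Fintype.card F = 2 ^ a) ∧ Nat.card H = 3)) := by
  obtain ⟨p, hpr, hp⟩ := exists_char (F := F)
  have : Fact p.Prime := ⟨hpr⟩
  let K := AlgebraicClosure F
  have hKp : CharP K p := charP_of_injective_algebraMap (algebraMap F K).injective p
  have hcard : Nat.card F = Fintype.card F := Nat.card_eq_fintype_card
  have hchar2 : ∀ a : ℕ, Fintype.card F = 2 ^ a → CharP F 2 := by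
    intro a ha
    obtain ⟨n, -, hn⟩ := FiniteField.card F p
    have h1 : p ∣ 2 ^ a := by
      rw [← ha, hn]
      exact dvd_pow_self p n.ne_zero
    have h2 := hpr.dvd_of_dvd_pow h1
    have h3 : p = 2 := (Nat.prime_dvd_prime_iff_eq hpr Nat.prime_two).1 h2
    rw [← h3]; exact hp
  constructor
  · intro hB
    by_cases hbot : H = ⊥
    · exact Or.inl hbot
    right
    by_cases hev : 2 ∣ Nat.card H
    · left
      by_cases h2 : (2 : F) = 0
      · have hc2 : CharP F 2 := CharTwo.of_one_ne_zero_of_two_eq_zero one_ne_zero h2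
        refine ⟨?_, bin_even_two (by rw [hcard]; exact h4) hH hev hB⟩
        obtain ⟨n, -, hn⟩ := FiniteField.card F 2
        exact ⟨n, hn⟩
      · exfalso
        refine bin_even_odd (p := p) K h2 ?_ hH hev hB
        rw [hcard]
        have h6 : Fintype.card F ≠ 4 := by
          intro h
          apply h2
          have hc2 : CharP F 2 := hchar2 2 (by rw [h]; rfl)
          exact CharTwo.two_eq_zero
        have h7 : Fintype.card F ≠ 6 := by
          intro h
          obtain ⟨n, hnp, hn⟩ := FiniteField.card F p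
          rw [h] at hn
          have h8 : p ∣ 6 := by rw [hn]; exact dvd_pow_self p n.ne_zero
          have h9 : p = 2 ∨ p = 3 := by
            have h10 : p ∣ 2 * 3 := h8
            rcases hpr.dvd_mul.1 h10 with h | h
            · left; exact (Nat.prime_dvd_prime_iff_eq hpr Nat.prime_two).1 h
            · right; exact (Nat.prime_dvd_prime_iff_eq hpr Nat.prime_three).1 h
          rcases h9 with h9 | h9
          · subst h9
            have h10 : 3 ∣ 2 ^ (n : ℕ) := by rw [← hn]; norm_num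
            have := Nat.prime_three.dvd_of_dvd_pow h10
            omega
          · subst h9
            have h10 : 2 ∣ 3 ^ (n : ℕ) := by rw [← hn]; norm_num
            have := Nat.prime_two.dvd_of_dvd_pow h10
            omega
        omega
    · right
      have := bin_odd (p := p) K hbot hev hB
      rwa [hcard] at this
  · rintro (h | ⟨⟨a, ha⟩, P, hP⟩ | ⟨⟨a, ha, hF⟩, h3⟩)
    · rw [h]; exact bin_bot
    · have := hchar2 a ha
      rw [hP]; exact bin_sylow P
    · have := hchar2 a hF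
      exact bin_three_two ha (by rw [hcard, hF]) h3

end Cfsg.Agent.Dk
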