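import Mathlib
import Cfsg.Agent.Dk.BinInv
import Cfsg.Agent.Dk.DihMax

/-! Redundant Sylow subgroups of `PSL₂(q)`. -/

set_option autoImplicit false

namespace Cfsg.Agent.Dk

open MulAction Matrix Subgroup LinearAlgebra.Projectivization Projectivization
open scoped MatrixGroups Pointwise
open H81 (pt0 pt1 ptz ptc)

/-- some Sylow subgroup is redundant -/
def Red (r : ℕ) (G : Type*) [Group G] : Prop :=
  ∃ Q : Sylow r G, ∀ x : G, (∃ k : ℕ, orderOf x = r ^ k) → ∃ P : Sylow r G, P ≠ Q ∧ x ∈ P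

section gen

variable {G : Type*} [Group G] [Finite G] {r : ℕ} [Fact r.Prime]

omit [Fact r.Prime] [Finite G] in
theorem sylow_eq_of_le {P Q : Sylow r G} (h : (Q : Subgroup G) ≤ P) : P = Q :=
  Sylow.ext (Q.3 P.2 h)

theorem not_red_of_cyclic {Q : Sylow r G} (hQ : IsCyclic Q)
    (h : ∀ x : G, (∃ k : ℕ, orderOf x = r ^ k) → ∃ P : Sylow r G, P ≠ Q ∧ x ∈ P) : False := by
  obtain ⟨g, hg⟩ := hQ.exists_generator
  obtain ⟨k, hk⟩ := IsPGroup.iff_card.1 Q.2
  have ho : orderOf (g : G) = r ^ k := by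
    rw [Subgroup.orderOf_coe, orderOf_eq_card_of_forall_mem_zpowers hg]
    exact hk
  obtain ⟨P, hPQ, hP⟩ := h g ⟨k, ho⟩
  apply hPQ
  apply sylow_eq_of_le
  intro x hx
  obtain ⟨j, hj⟩ := hg ⟨x, hx⟩
  have : (g : G) ^ j = x := congrArg Subtype.val hj
  rw [← this]
  exact (P : Subgroup G).zpow_mem hP j

omit [Finite G] in
theorem order_of_mem {P : Subgroup G} (hP : IsPGroup r P) {x : G} (hx : x ∈ P) :
    ∃ k : ℕ, orderOf x = r ^ k := by
  obtain ⟨k, hk⟩ := IsPGroup.iff_orderOf.1 hP ⟨x, hx⟩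
  exact ⟨k, by rw [← hk]; exact (Subgroup.orderOf_coe (⟨x, hx⟩ : P))⟩

omit [Finite G] in
theorem isPGroup_zpowers {x : G} {k : ℕ} (hx : orderOf x = r ^ k) :
    IsPGroup r (Subgroup.zpowers x) := by
  apply IsPGroup.of_card (n := k)
  rw [Nat.card_zpowers, hx]

theorem mem_of_map {G' : Type*} [Group G'] {f : G →* G'} (hc : f.ker ≤ center G) (P : Sylow r G)
    {x : G} (hx : ∃ k, orderOf x = r ^ k) (h : f x ∈ (P : Subgroup G).map f) : x ∈ P := by
  obtain ⟨y, hy, hyx⟩ := h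
  obtain ⟨k, hk⟩ := hx
  obtain ⟨l, hl⟩ := order_of_mem P.2 hy
  have hcc : x * y⁻¹ ∈ center G := by
    apply hc
    rw [MonoidHom.mem_ker, map_mul, map_inv, hyx, mul_inv_cancel]
  have hcomm : ∀ g : G, g * (x * y⁻¹) = (x * y⁻¹) * g := Subgroup.mem_center_iff.1 hcc
  have hxy : Commute x y⁻¹ := by
    have h1 := hcomm y
    have h2 : y * x = x * y := by
      calc y * x = (y * (x * y⁻¹)) * y := by group
        _ = ((x * y⁻¹) * y) * y := by rw [h1]
        _ = x * y := by group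
    exact (show Commute y x from h2).symm.inv_right
  have hord : (x * y⁻¹) ^ r ^ (k + l) = 1 := by
    rw [hxy.mul_pow]
    have h1 : x ^ r ^ (k + l) = 1 := by
      rw [pow_add, pow_mul, ← hk, pow_orderOf_eq_one, one_pow]
    have h2 : y⁻¹ ^ r ^ (k + l) = 1 := by
      rw [pow_add, mul_comm, pow_mul, ← hl, inv_pow, pow_orderOf_eq_one, inv_one, one_pow]
    rw [h1, h2, one_mul]
  obtain ⟨j, -, hj⟩ := (Nat.dvd_prime_pow Fact.out).1 (orderOf_dvd_of_pow_eq_one hord)
  have hnor : (Subgroup.zpowers (x * y⁻¹)).Normal := by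
    refine ⟨fun n hn g => ?_⟩
    obtain ⟨i, rfl⟩ := hn
    have h1 : (x * y⁻¹) ^ i ∈ center G := (center G).zpow_mem hcc i
    have h2 := Subgroup.mem_center_iff.1 h1 g
    refine ⟨i, ?_⟩
    show (x * y⁻¹) ^ i = g * (x * y⁻¹) ^ i * g⁻¹
    rw [h2]; group
  have hle : Subgroup.zpowers (x * y⁻¹) ≤ (P : Subgroup G) :=
    (isPGroup_zpowers hj).le_sylow_of_normal P
  have h3 : x = (x * y⁻¹) * y := by group
  rw [h3]
  exact (P : Subgroup G).mul_mem (hle (Subgroup.mem_zpowers _)) hy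

theorem red_of_central {G' : Type*} [Group G'] {f : G →* G'} (hf : Function.Surjective f)
    (hc : f.ker ≤ center G) : Red r G ↔ Red r G' := by
  have : Finite G' := Finite.of_surjective f hf
  have hmap : ∀ P : Sylow r G, ((P.mapSurjective hf : Sylow r G') : Subgroup G') =
      (P : Subgroup G).map f := fun P => P.coe_mapSurjective hf
  constructor
  · rintro ⟨Q, hQ⟩
    refine ⟨Q.mapSurjective hf, ?_⟩
    rintro x' ⟨k, hk⟩
    obtain ⟨P0', hP0'⟩ := (isPGroup_zpowers hk).exists_le_sylow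
    obtain ⟨P0, rfl⟩ := Sylow.mapSurjective_surjective hf r P0'
    have hx' : x' ∈ (P0.mapSurjective hf : Subgroup G') := hP0' (Subgroup.mem_zpowers x')
    rw [hmap] at hx'
    obtain ⟨x, hx, rfl⟩ := hx'
    obtain ⟨P, hPQ, hxP⟩ := hQ x (order_of_mem P0.2 hx)
    refine ⟨P.mapSurjective hf, ?_, ?_⟩
    · intro heq
      apply hPQ
      have h1 := congrArg (fun Z : Sylow r G' => (Z : Subgroup G')) heq
      simp only [hmap] at h1
      apply (sylow_eq_of_le _).symm
      intro y hy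
      apply mem_of_map hc Q (order_of_mem P.2 hy)
      rw [← h1]
      exact ⟨y, hy, rfl⟩
    · have h2 : f x ∈ (P.mapSurjective hf : Subgroup G') := by
        rw [hmap]; exact ⟨x, hxP, rfl⟩
      exact h2
  · rintro ⟨Q', hQ'⟩
    obtain ⟨Q, rfl⟩ := Sylow.mapSurjective_surjective hf r Q'
    refine ⟨Q, ?_⟩
    rintro x ⟨k, hk⟩
    have h1 : orderOf (f x) ∣ r ^ k := by rw [← hk]; exact orderOf_map_dvd f x
    obtain ⟨j, -, hj⟩ := (Nat.dvd_prime_pow Fact.out).1 h1
    obtain ⟨P', hPQ, hxP⟩ := hQ' (f x) ⟨j, hj⟩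
    obtain ⟨P, rfl⟩ := Sylow.mapSurjective_surjective hf r P'
    refine ⟨P, ?_, ?_⟩
    · rintro rfl; exact hPQ rfl
    · apply mem_of_map hc P ⟨k, hk⟩
      rw [← hmap]; exact hxP

end gen

section mob

variable {p : ℕ} {Γ X K : Type*} [Group Γ] [MulAction Γ X] [Field K] (M : Mob p Γ X K)
include M

theorem Mob.mem_DS_of_comm {x y : X} (hxy : x ≠ y) {t g : Γ} (ht : t ∈ TS Γ x y) (ht1 : t ≠ 1)
    (h : g * t = t * g) : g ∈ DS Γ x y := by
  have h1 : t • (g • x) = g • x := by rw [← mul_smul, ← h, mul_smul, ht.1]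
  have h2 : t • (g • y) = g • y := by rw [← mul_smul, ← h, mul_smul, ht.2]
  have h3 : g • x ≠ g • y := fun h => hxy (smul_left_cancel g h)
  rcases M.mem_pair hxy ht ht1 h1 with h4 | h4 <;> rcases M.mem_pair hxy ht ht1 h2 with h5 | h5
  · exact absurd (h4.trans h5.symm) h3
  · exact Or.inl ⟨h4, h5⟩
  · exact Or.inr ⟨h4, h5⟩
  · exact absurd (h4.trans h5.symm) h3

theorem Mob.exists_pair [Fact p.Prime] {r : ℕ} (hr : r.Prime) (hrp : r ≠ p) {g : Γ} (hg : g ≠ 1)
    {k : ℕ} (hk : orderOf g = r ^ k) : ∃ x y : X, x ≠ y ∧ g ∈ TS Γ x y := by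
  obtain ⟨x, hx⟩ := M.exists_fix hg
  rcases M.fix_or hg hx with h | ⟨y, hy, hy2⟩
  · exfalso
    have h1 : g ^ p = 1 := M.pow_of_mem_U (M.mem_U.2 (Or.inr h))
    have h3 : orderOf g = p := orderOf_eq_prime h1 hg
    have h4 : p ∣ r ^ k := by rw [← hk, h3]
    have h5 := (Nat.prime_dvd_prime_iff_eq Fact.out hr).1 ((Fact.out : p.Prime).dvd_of_dvd_pow h4)
    exact hrp h5.symm
  · refine ⟨x, y, hy.symm, hx, ?_⟩
    have : y ∈ fixedBy X g := by rw [hy2]; simp
    exact this

/-- Sylow subgroups for an odd prime different from the characteristic are cyclic -/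
theorem Mob.sylow_cyclic [Finite Γ] [Fact p.Prime] [CharP K p] {r : ℕ} [hr : Fact r.Prime]
    (hrp : r ≠ p) (hr2 : r ≠ 2) {Q : Subgroup Γ} (hQ : IsPGroup r Q) : IsCyclic Q := by
  by_cases hb : Q = ⊥
  · rw [hb]; infer_instance
  have hn : Nontrivial Q := (Subgroup.nontrivial_iff_ne_bot Q).2 hb
  have hc := hQ.center_nontrivial
  obtain ⟨z, hz⟩ := exists_ne (1 : center Q)
  have hz1 : (z.1.1 : Γ) ≠ 1 := fun h => hz (Subtype.ext (Subtype.ext h))
  obtain ⟨k, hk⟩ := order_of_mem hQ z.1.2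
  obtain ⟨x, y, hxy, ht⟩ := M.exists_pair hr.out hrp hz1 hk
  have hle : Q ≤ TS Γ x y := by
    intro g hg
    have h1 := (mem_center_iff.1 z.2) ⟨g, hg⟩
    have h2 : g * z.1.1 = z.1.1 * g := congrArg Subtype.val h1
    rcases M.mem_DS_of_comm hxy ht hz1 h2 with h3 | h3
    · exact h3
    · have h4 := M.swap_sq hxy h3.1 h3.2
      obtain ⟨j, hj⟩ := order_of_mem hQ hg
      have h5 : orderOf g ∣ 2 := orderOf_dvd_of_pow_eq_one (by rw [sq, h4])
      rw [hj] at h5
      have h6 : g = 1 := by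
        rw [← orderOf_eq_one_iff, hj]
        rcases (Nat.dvd_prime Nat.prime_two).1 h5 with h | h
        · exact h
        · exfalso
          rcases Nat.eq_zero_or_pos j with h0 | h0
          · rw [h0] at h; simp at h
          · have : r ∣ 2 := by rw [← h]; exact dvd_pow_self _ (by omega)
            exact hr2 ((Nat.prime_dvd_prime_iff_eq hr.out Nat.prime_two).1 this)
      rw [h6]; exact (TS Γ x y).one_mem
  have h1 := M.cyclic_TS hxy
  exact isCyclic_of_injective (Subgroup.inclusion hle) (Subgroup.inclusion_injective hle)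

end mob

section psl

variable {F : Type*} [Field F] [Finite F]

attribute [local instance 10] pact sact

/-- the case of an odd field and the prime two: redundancy -/
theorem red_two (h2 : (2 : F) ≠ 0) (h3 : ¬ ∃ k : ℕ, Nat.card F + 1 = 2 ^ k)
    (h4 : ¬ ∃ k : ℕ, Nat.card F = 2 ^ k + 1) : Red 2 PSL(2, F) := by
  obtain ⟨p, hp, hpF⟩ := exists_char (F := F)
  have : Fact p.Prime := ⟨hp⟩
  let K := AlgebraicClosure F
  have : CharP K p := charP_of_injective_algebraMap (algebraMap F K).injective p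
  have : Fact (Nat.Prime 2) := ⟨Nat.prime_two⟩
  have hfin : Finite PSL(2, F) := finite_psl
  have M := mobS (p := p) (F := F) (K := K)
  have hp2 : 2 ≠ p := by
    rintro rfl
    exact h2 CharTwo.two_eq_zero
  have key : ∀ g : PSL(2, F), g ≠ 1 → (∃ k : ℕ, orderOf g = 2 ^ k) →
      ∃ P P' : Sylow 2 PSL(2, F), P ≠ P' ∧ g ∈ P ∧ g ∈ P' := by
    rintro g hg ⟨k, hk⟩
    obtain ⟨x, y, hxy, hT⟩ := M.exists_pair Nat.prime_two hp2 hg hk
    have hb : TS PSL(2, F) x y ≠ ⊥ := by
      intro h1; rw [h1, Subgroup.mem_bot] at hT; exact hg hT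
    obtain ⟨⟨s, hs1, hs2⟩, hcard⟩ := card_TS_pair (p := p) h2 hxy hb
    -- an element of odd order
    obtain ⟨r, hr, hr2, hrd⟩ : ∃ r : ℕ, r.Prime ∧ r ≠ 2 ∧ r ∣ Nat.card (TS PSL(2, F) x y) := by
      by_contra hcon
      push Not at hcon
      have h5 : Nat.card (TS PSL(2, F) x y) =
          2 ^ (Nat.card (TS PSL(2, F) x y)).primeFactorsList.length := by
        apply Nat.eq_prime_pow_of_unique_prime_dvd (Nat.card_pos.ne')
        intro d hd hdd
        by_contra hne
        exact hcon d hd hne hdd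
      rcases hcard with ⟨-, h6⟩ | ⟨-, h6⟩
      · apply h4
        refine ⟨(Nat.card (TS PSL(2, F) x y)).primeFactorsList.length + 1, ?_⟩
        rw [← h6, pow_succ, ← h5]; ring
      · apply h3
        refine ⟨(Nat.card (TS PSL(2, F) x y)).primeFactorsList.length + 1, ?_⟩
        rw [← h6, pow_succ, ← h5]; ring
    have : Fact r.Prime := ⟨hr⟩
    obtain ⟨c, hc⟩ := exists_prime_orderOf_dvd_card' (G := TS PSL(2, F) x y) r hrd
    have hco : orderOf (c : PSL(2, F)) = r := by rw [Subgroup.orderOf_coe, hc]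
    have hgc : g * (c : PSL(2, F)) = c * g := M.comm_TS hxy hT c.2
    -- the Sylow subgroup
    have hzs : IsPGroup 2 (Subgroup.zpowers s) := by
      have h5 := M.swap_sq hxy hs1 hs2
      have hs0 : s ≠ 1 := by rintro rfl; rw [one_smul] at hs1; exact hxy hs1
      exact isPGroup_zpowers (k := 1) (by
        rw [pow_one]; exact orderOf_eq_prime (by rw [sq, h5]) hs0)
    have hinv : ∀ u ∈ TS PSL(2, F) x y, s * u * s⁻¹ = u⁻¹ := by
      intro u hu
      have h5 := M.swap_sq hxy hs1 hs2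
      have h6 : (s * u) * (s * u) = 1 := by
        apply M.swap_sq hxy
        · rw [mul_smul, hu.1, hs1]
        · rw [mul_smul, hu.2, hs2]
      have h7 : s⁻¹ = s := inv_eq_of_mul_eq_one_left h5
      rw [h7, eq_inv_iff_mul_eq_one]
      rw [← h6]; group
    have hnorm : Subgroup.zpowers s ≤ Subgroup.normalizer (Subgroup.zpowers g : Set PSL(2, F)) := by
      rw [Subgroup.zpowers_le, Subgroup.mem_normalizer_iff]
      intro u
      constructor
      · rintro ⟨j, rfl⟩
        refine ⟨-j, ?_⟩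
        show g ^ (-j) = s * g ^ j * s⁻¹
        rw [hinv _ ((TS PSL(2, F) x y).zpow_mem hT j), _root_.zpow_neg]
      · rintro ⟨j, hj⟩
        have hj : g ^ j = s * u * s⁻¹ := hj
        refine ⟨-j, ?_⟩
        have h5 : u = s⁻¹ * g ^ j * s := by rw [hj]; group
        have h6 := hinv _ ((TS PSL(2, F) x y).zpow_mem hT (-j))
        show g ^ (-j) = u
        have h7 : s * u * s⁻¹ = s * g ^ (-j) * s⁻¹ := by
          rw [h6, ← hj, _root_.zpow_neg, inv_inv]
        exact (mul_left_cancel (mul_right_cancel h7)).symm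
    obtain ⟨P, hP⟩ := ((isPGroup_zpowers hk).to_sup_of_normal_left' hzs hnorm).exists_le_sylow
    have hgP : g ∈ P := hP (Subgroup.mem_sup_left (Subgroup.mem_zpowers g))
    have hsP : s ∈ P := hP (Subgroup.mem_sup_right (Subgroup.mem_zpowers s))
    have hcP : (((c : PSL(2, F)) • P : Sylow 2 PSL(2, F)) : Subgroup PSL(2, F)) =
        cj (c : PSL(2, F)) (P : Subgroup PSL(2, F)) := Sylow.coe_subgroup_smul
    refine ⟨P, (c : PSL(2, F)) • P, ?_, hgP, ?_⟩
    · intro heq
      have h5 : (c : PSL(2, F)) * s * (c : PSL(2, F))⁻¹ ∈ (P : Subgroup PSL(2, F)) := by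
        rw [heq, hcP]
        exact conj_mem_cj.2 hsP
      have h6 : (c : PSL(2, F)) * s * (c : PSL(2, F))⁻¹ * s⁻¹ ∈ (P : Subgroup PSL(2, F)) :=
        (P : Subgroup PSL(2, F)).mul_mem h5 ((P : Subgroup PSL(2, F)).inv_mem hsP)
      have h7 : (c : PSL(2, F)) * s * (c : PSL(2, F))⁻¹ * s⁻¹ = (c : PSL(2, F)) ^ 2 := by
        have h8 := hinv _ ((TS PSL(2, F) x y).inv_mem c.2)
        rw [inv_inv] at h8
        calc (c : PSL(2, F)) * s * (c : PSL(2, F))⁻¹ * s⁻¹ =
            c * (s * (c : PSL(2, F))⁻¹ * s⁻¹) := by group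
          _ = _ := by rw [h8, sq]
      rw [h7] at h6
      obtain ⟨j, hj⟩ := order_of_mem P.2 h6
      have h8 : orderOf ((c : PSL(2, F)) ^ 2) ∣ r := by
        rw [← hco]; exact orderOf_pow_dvd 2
      rw [hj] at h8
      have hj0 : j = 0 := by
        by_contra hne
        have h9 : 2 ∣ r := (dvd_pow_self 2 hne).trans h8
        exact hr2 ((Nat.prime_dvd_prime_iff_eq Nat.prime_two hr).1 h9).symm
      rw [hj0, pow_zero, orderOf_eq_one_iff] at hj
      have h9 : orderOf (c : PSL(2, F)) ∣ 2 := orderOf_dvd_of_pow_eq_one hj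
      rw [hco] at h9
      exact hr2 ((Nat.prime_dvd_prime_iff_eq hr Nat.prime_two).1 h9)
    · have h5 : g ∈ cj (c : PSL(2, F)) (P : Subgroup PSL(2, F)) := by
        have h6 : g = c * g * (c : PSL(2, F))⁻¹ := by rw [← hgc]; group
        rw [h6]
        exact conj_mem_cj.2 hgP
      rw [← hcP] at h5
      exact h5
  obtain ⟨z, w, hzw, -, s, hs1, hs2⟩ := exists_irr_psl (F := F) K (p := p)
  have hss := M.swap_sq hzw hs1 hs2
  have hs0 : s ≠ 1 := by rintro rfl; rw [one_smul] at hs1; exact hzw hs1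
  have hso : orderOf s = 2 ^ 1 := by
    rw [pow_one]; exact orderOf_eq_prime (by rw [sq, hss]) hs0
  obtain ⟨Q⟩ : Nonempty (Sylow 2 PSL(2, F)) := inferInstance
  refine ⟨Q, ?_⟩
  have key2 : ∀ g : PSL(2, F), (∃ k : ℕ, orderOf g = 2 ^ k) →
      ∃ P P' : Sylow 2 PSL(2, F), P ≠ P' ∧ g ∈ P ∧ g ∈ P' := by
    intro g hg
    by_cases hg1 : g = 1
    · obtain ⟨P, P', h5, -⟩ := key s hs0 ⟨1, hso⟩
      rw [hg1]
      exact ⟨P, P', h5, (P : Subgroup PSL(2, F)).one_mem, (P' : Subgroup PSL(2, F)).one_mem⟩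
    · exact key g hg1 hg
  intro g hg
  obtain ⟨P, P', h5, h6, h7⟩ := key2 g hg
  by_cases h8 : P = Q
  · exact ⟨P', by rw [← h8]; exact h5.symm, h7⟩
  · exact ⟨P, h8, h6⟩

/-- the converse, in odd characteristic -/
theorem not_red_two (h2 : (2 : F) ≠ 0) (hF : (∃ k : ℕ, Nat.card F + 1 = 2 ^ k) ∨
    ∃ k : ℕ, Nat.card F = 2 ^ k + 1) : ¬ Red 2 PSL(2, F) := by
  obtain ⟨p, hp, hpF⟩ := exists_char (F := F)
  have : Fact p.Prime := ⟨hp⟩
  let K := AlgebraicClosure F
  have : CharP K p := charP_of_injective_algebraMap (algebraMap F K).injective p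
  have : Fact (Nat.Prime 2) := ⟨Nat.prime_two⟩
  have hfin : Finite PSL(2, F) := finite_psl
  have M := mobS (p := p) (F := F) (K := K)
  have hp2 : 2 ≠ p := by
    rintro rfl
    exact h2 CharTwo.two_eq_zero
  have hq3 : 3 ≤ Nat.card F := by
    have h1 : 1 < Nat.card F := Finite.one_lt_card
    have h3 : Nat.card F ≠ 2 := by
      intro h
      have : 2 ∣ Nat.card F := by rw [h]
      exact hp2 (eq_char_of_prime hp Nat.prime_two this)
    omega
  rintro ⟨Q, hQ⟩
  -- the structure of the Sylow subgroups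
  have hsyl : ∀ P : Sylow 2 PSL(2, F), ∃ x y : ℙ K (Fin 2 → K), x ≠ y ∧
      (P : Subgroup PSL(2, F)) = DS PSL(2, F) x y ∧ 2 ∣ Nat.card (TS PSL(2, F) x y) ∧
      Nat.card (DS PSL(2, F) x y) = 2 * Nat.card (TS PSL(2, F) x y) := by
    intro P
    have hPb : (P : Subgroup PSL(2, F)) ≠ ⊥ := by
      obtain ⟨z, w, hzw, -, s, hs1, hs2⟩ := exists_irr_psl (F := F) K (p := p)
      have hss := M.swap_sq hzw hs1 hs2
      have hs0 : s ≠ 1 := by rintro rfl; rw [one_smul] at hs1; exact hzw hs1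
      have hso : orderOf s = 2 := orderOf_eq_prime (by rw [sq, hss]) hs0
      intro hb
      have h5 := P.card_eq_multiplicity
      rw [hb, Subgroup.card_bot] at h5
      have h6 : 2 ∣ Nat.card PSL(2, F) := by
        have := orderOf_dvd_natCard s
        rwa [hso] at this
      have h7 : 1 ≤ (Nat.card PSL(2, F)).factorization 2 :=
        (Nat.prime_two.dvd_iff_one_le_factorization Nat.card_pos.ne').1 h6
      have h8 : 2 ^ 1 ≤ 2 ^ (Nat.card PSL(2, F)).factorization 2 :=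
        Nat.pow_le_pow_right (by norm_num) h7
      omega
    have hn : Nontrivial P := (Subgroup.nontrivial_iff_ne_bot _).2 hPb
    have hc := P.2.center_nontrivial
    obtain ⟨z0, hz0⟩ := exists_ne (1 : center P)
    obtain ⟨z, hz, hzo⟩ : ∃ z : PSL(2, F), (z ∈ (P : Subgroup PSL(2, F)) ∧
        ∀ g ∈ (P : Subgroup PSL(2, F)), g * z = z * g) ∧ orderOf z = 2 := by
      have h5 : 2 ∣ Nat.card (center P) := by
        have h6 := P.2.to_subgroup (center P)
        obtain ⟨n, hn⟩ := IsPGroup.iff_card.1 h6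
        rw [hn]
        apply dvd_pow_self
        rintro rfl
        rw [pow_zero, Nat.card_eq_one_iff_unique] at hn
        exact hz0 (hn.1.elim _ _)
      obtain ⟨u, hu⟩ := exists_prime_orderOf_dvd_card' (G := center P) 2 h5
      refine ⟨u.1.1, ⟨u.1.2, ?_⟩, ?_⟩
      · intro g hg
        have h1 := (mem_center_iff.1 u.2) ⟨g, hg⟩
        exact congrArg Subtype.val h1
      · have h7 : orderOf (u.1.1 : PSL(2, F)) = orderOf u := by
          rw [Subgroup.orderOf_coe, Subgroup.orderOf_coe]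
        exact h7.trans hu
    have hz1 : z ≠ 1 := by
      rintro rfl; rw [orderOf_one] at hzo; omega
    obtain ⟨x, y, hxy, hT⟩ := M.exists_pair Nat.prime_two hp2 hz1 (k := 1) (by rw [hzo]; rfl)
    have hb : TS PSL(2, F) x y ≠ ⊥ := by
      intro h1; rw [h1, Subgroup.mem_bot] at hT; exact hz1 hT
    obtain ⟨⟨s, hs1, hs2⟩, hcard⟩ := card_TS_pair (p := p) h2 hxy hb
    have hd : 2 ∣ Nat.card (TS PSL(2, F) x y) := by
      have h3 := Subgroup.orderOf_dvd_natCard (TS PSL(2, F) x y) hT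
      rwa [hzo] at h3
    have hDm := (M.DS_dihedral hxy hs1 hs2).2
    refine ⟨x, y, hxy, ?_, hd, hDm⟩
    have hle : (P : Subgroup PSL(2, F)) ≤ DS PSL(2, F) x y := fun g hg =>
      M.mem_DS_of_comm hxy hT hz1 (hz.2 g hg)
    have hDp : IsPGroup 2 (DS PSL(2, F) x y) := by
      have hex : ∃ j, Nat.card (DS PSL(2, F) x y) = 2 ^ j := by
        rw [hDm]
        rcases hF with ⟨k, hk⟩ | ⟨k, hk⟩ <;> rcases hcard with ⟨-, h5⟩ | ⟨-, h5⟩
        · -- q = 2^k - 1, rational : 2m + 1 + 1 = 2^k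
          exfalso
          have h6 : 2 ^ 2 ∣ 2 ^ k := by
            apply pow_dvd_pow
            by_contra hlt
            have : k = 0 ∨ k = 1 := by omega
            rcases this with h | h <;> rw [h] at hk <;> omega
          rw [← hk, ← h5] at h6
          omega
        · exact ⟨k, by rw [h5, hk]⟩
        · exact ⟨k, by omega⟩
        · -- q = 2^k + 1, 2 m = 2^k + 2
          rcases Nat.lt_or_ge k 2 with h6 | h6
          · have : k = 0 ∨ k = 1 := by omega
            rcases this with h | h <;> rw [h] at hk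
            · omega
            · exact ⟨2, by omega⟩
          · exfalso
            have h7 : 2 ^ 2 ∣ 2 ^ k := pow_dvd_pow 2 h6
            omega
      obtain ⟨j, hj⟩ := hex
      exact IsPGroup.of_card hj
    exact (P.3 hDp hle).symm
  obtain ⟨x, y, hxy, hQD, hev, hDm⟩ := hsyl Q
  obtain ⟨g, hg, hgo⟩ := M.exists_gen hxy
  obtain ⟨P, hPQ, hgP⟩ := hQ g (order_of_mem Q.2 (by rw [hQD]; exact TS_le_DS x y hg))
  obtain ⟨x', y', hxy', hPD, hev', hDm'⟩ := hsyl P
  apply hPQ
  have hcPQ : Nat.card (P : Subgroup PSL(2, F)) = Nat.card (Q : Subgroup PSL(2, F)) :=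
    Nat.card_congr (Sylow.equiv P Q).toEquiv
  by_cases hm : Nat.card (TS PSL(2, F) x y) = 2
  · -- P is abelian
    have hg1 : g ≠ 1 := by
      rintro rfl; rw [orderOf_one] at hgo; omega
    have hP4 : Nat.card (P : Subgroup PSL(2, F)) = 2 ^ 2 := by
      rw [hcPQ, hQD, hDm, hm]; rfl
    have hcomm := IsPGroup.commutative_of_card_eq_prime_sq hP4
    have hle : (P : Subgroup PSL(2, F)) ≤ Q := by
      intro u hu
      rw [hQD]
      apply M.mem_DS_of_comm hxy hg hg1
      exact congrArg Subtype.val (hcomm ⟨u, hu⟩ ⟨g, hgP⟩)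
    exact (sylow_eq_of_le hle).symm
  · have hgg : g * g ≠ 1 := by
      intro h5
      have h6 : orderOf g ∣ 2 := orderOf_dvd_of_pow_eq_one (by rw [sq, h5])
      have h7 := Nat.le_of_dvd (by norm_num) h6
      have h8 := Nat.le_of_dvd (Nat.card_pos) hev
      omega
    have hgP' : g ∈ (P : Subgroup PSL(2, F)) := hgP
    rw [hPD] at hgP'
    have hggT : g * g ∈ TS PSL(2, F) x' y' := by
      rcases hgP' with ⟨h5, h6⟩ | ⟨h5, h6⟩
      · exact ⟨by show (g * g) • x' = x'; rw [mul_smul, h5, h5],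
          by show (g * g) • y' = y'; rw [mul_smul, h6, h6]⟩
      · exact ⟨by show (g * g) • x' = x'; rw [mul_smul, h5, h6],
          by show (g * g) • y' = y'; rw [mul_smul, h6, h5]⟩
    have hggT' : g * g ∈ TS PSL(2, F) x y := (TS PSL(2, F) x y).mul_mem hg hg
    apply Sylow.ext
    rw [hPD, hQD]
    rcases M.mem_pair hxy' hggT hgg hggT'.1 with h5 | h5 <;>
      rcases M.mem_pair hxy' hggT hgg hggT'.2 with h6 | h6
    · exact absurd (h5.trans h6.symm) hxy
    · rw [h5, h6]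
    · rw [h5, h6]
      ext u
      rw [mem_DS, mem_DS]
      tauto
    · exact absurd (h5.trans h6.symm) hxy

/-- redundant Sylow subgroups of `PSL₂(q)` -/
theorem red_psl (r : ℕ) [hr : Fact r.Prime] : Red r PSL(2, F) ↔
    (r = 2 ∧ (¬ ∃ k : ℕ, Nat.card F + 1 = 2 ^ k) ∧ (¬ ∃ k : ℕ, Nat.card F = 2 ^ k) ∧
      ¬ ∃ k : ℕ, Nat.card F = 2 ^ k + 1) := by
  obtain ⟨p, hp, hpF⟩ := exists_char (F := F)
  have : Fact p.Prime := ⟨hp⟩
  let K := AlgebraicClosure F
  have : CharP K p := charP_of_injective_algebraMap (algebraMap F K).injective p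
  have hfin : Finite PSL(2, F) := finite_psl
  have M := mobS (p := p) (F := F) (K := K)
  have hne : M.U (pt0 K) ≠ ⊥ := (fullS (p := p) (F := F) (K := K)).1
  constructor
  · intro hR
    by_cases hrp : r = p
    · exfalso
      subst hrp
      obtain ⟨Q, hQ⟩ := hR
      obtain ⟨Q0, hQ0⟩ := M.exists_sylow hne
      obtain ⟨g, hg⟩ := MulAction.exists_smul_eq PSL(2, F) Q0 Q
      have h1 : (Q : Subgroup PSL(2, F)) = M.U (g • pt0 K) := by
        rw [← M.map_U, ← hQ0, ← hg, Sylow.coe_subgroup_smul]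
        rfl
      have hne' : M.U (g • pt0 K) ≠ ⊥ := by
        rw [← Subgroup.one_lt_card_iff_ne_bot, M.card_U_smul]
        exact (Subgroup.one_lt_card_iff_ne_bot _).2 hne
      obtain ⟨u, hu⟩ := (M.U (g • pt0 K)).ne_bot_iff_exists_ne_one.1 hne'
      have hu1 : (u : PSL(2, F)) ≠ 1 := fun h => hu (Subtype.ext h)
      obtain ⟨P, hPQ, huP⟩ := hQ u (order_of_mem Q.2 (by rw [h1]; exact u.2))
      apply hPQ
      have hPb : (P : Subgroup PSL(2, F)) ≠ ⊥ := by
        intro h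
        have huP' : (u : PSL(2, F)) ∈ (P : Subgroup PSL(2, F)) := huP
        rw [h, Subgroup.mem_bot] at huP'
        exact hu1 huP'
      obtain ⟨w, hw⟩ := M.exists_le_U P.2 hPb
      have h2 : w = g • pt0 K := (M.eq_of_mem_U (hw huP) hu1 (M.smul_of_mem_U u.2)).symm
      rw [h2, ← h1] at hw
      exact (sylow_eq_of_le hw).symm
    · by_cases hr2 : r = 2
      · subst hr2
        refine ⟨rfl, ?_⟩
        have h2 : (2 : F) ≠ 0 := by
          intro h
          have : CharP F 2 := CharTwo.of_one_ne_zero_of_two_eq_zero one_ne_zero h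
          exact hrp (CharP.eq F this hpF)
        have h3 := fun h => not_red_two h2 h hR
        refine ⟨fun h => h3 (Or.inl h), ?_, fun h => h3 (Or.inr h)⟩
        rintro ⟨k, hk⟩
        apply hrp
        have h4 := char_dvd_card (F := F) hp
        rw [hk] at h4
        exact ((Nat.prime_dvd_prime_iff_eq hp Nat.prime_two).1 (hp.dvd_of_dvd_pow h4)).symm
      · exfalso
        obtain ⟨Q, hQ⟩ := hR
        exact not_red_of_cyclic (M.sylow_cyclic hrp hr2 Q.2) hQ
  · rintro ⟨rfl, h3, h4, h5⟩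
    apply red_two _ h3 h5
    intro h
    have h6 : CharP F 2 := CharTwo.of_one_ne_zero_of_two_eq_zero one_ne_zero h
    apply h4
    have := Fintype.ofFinite F
    obtain ⟨n, -, hn⟩ := FiniteField.card F 2
    exact ⟨n, by rw [Nat.card_eq_fintype_card, hn]⟩

theorem red_sl (r : ℕ) [hr : Fact r.Prime] : Red r SL(2, F) ↔
    (r = 2 ∧ (¬ ∃ k : ℕ, Nat.card F + 1 = 2 ^ k) ∧ (¬ ∃ k : ℕ, Nat.card F = 2 ^ k) ∧
      ¬ ∃ k : ℕ, Nat.card F = 2 ^ k + 1) := by
  have := Fintype.ofFinite F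
  rw [← red_psl]
  exact red_of_central (f := QuotientGroup.mk' (center SL(2, F))) (QuotientGroup.mk'_surjective _)
    (by rw [QuotientGroup.ker_mk'])

end psl

end Cfsg.Agent.Dk
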