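import Mathlib
import Cfsg.Agent.Dk.BinEvTwo
import Cfsg.Agent.Dk.Red
import Cfsg.Agent.Dk.Coat
import Cfsg.Agent.Dk.MinSimple

/-! Solubilizers in `PSL₂(2^p)`. -/

set_option autoImplicit false

namespace Cfsg.Agent.Dk

open MulAction Matrix Subgroup LinearAlgebra.Projectivization Projectivization
open scoped MatrixGroups Pointwise
open H81 (pt0 pt1 ptz ptc)

/-- two elements generate a solvable subgroup -/
def Sv {G : Type*} [Group G] (x y : G) : Prop :=
  Group.IsSolvable (Subgroup.closure ({x, y} : Set G))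

section gen

variable {G : Type*} [Group G]

theorem sv_of_le {x y : G} {L : Subgroup G} (hL : Group.IsSolvable L) (hx : x ∈ L) (hy : y ∈ L) :
    Sv x y := by
  have hle : Subgroup.closure ({x, y} : Set G) ≤ L := by
    rw [Subgroup.closure_le]
    rintro _ (rfl | rfl)
    · exact hx
    · exact hy
  exact solvable_of_solvable_injective (f := Subgroup.inclusion hle)
    (Subgroup.inclusion_injective hle)

theorem sv_mul {x y : G} (h : Sv x (x * y)) : Sv x y := by
  refine sv_of_le h (Subgroup.subset_closure (by simp)) ?_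
  have h1 : x⁻¹ * (x * y) ∈ Subgroup.closure ({x, x * y} : Set G) :=
    mul_mem (inv_mem (Subgroup.subset_closure (by simp))) (Subgroup.subset_closure (by simp))
  rwa [inv_mul_cancel_left] at h1

end gen

section mob

variable {p : ℕ} {Γ X K : Type*} [Group Γ] [MulAction Γ X] [Field K] [Finite Γ]
  [Fact p.Prime] [CharP K p] (M : Mob p Γ X K)
include M

theorem Mob.sv_of_fix {x y : Γ} {z : X} (hx : x • z = z) (hy : y • z = z) : Sv x y :=
  sv_of_le (M.solvable_stab z) hx hy

theorem Mob.solvable_DS {z w : X} (hzw : z ≠ w) : Group.IsSolvable (DS Γ z w) := by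
  by_cases hs : ∃ s : Γ, s • z = w ∧ s • w = z
  · obtain ⟨s, h1, h2⟩ := hs
    have h3 : Nat.card (orbit (DS Γ z w) z) = 2 := by
      have e : orbit (DS Γ z w) z = {z, w} := by
        ext y
        constructor
        · rintro ⟨⟨g, hg⟩, rfl⟩
          rcases hg with hg | hg
          · exact Or.inl hg.1
          · exact Or.inr hg.1
        · rintro (rfl | rfl)
          · exact mem_orbit_self _
          · exact ⟨⟨s, Or.inr ⟨h1, h2⟩⟩, h1⟩
      rw [e, Nat.card_coe_set_eq, Set.ncard_pair hzw]
    exact M.solvable_dih h3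
  · have hle : DS Γ z w ≤ stabilizer Γ z := by
      rintro g (hg | hg)
      · exact hg.1
      · exact absurd ⟨g, hg⟩ hs
    have h1 := M.solvable_stab z
    exact solvable_of_solvable_injective (f := Subgroup.inclusion hle)
      (Subgroup.inclusion_injective hle)

theorem Mob.sv_of_DS {x y : Γ} {z w : X} (hzw : z ≠ w) (hx : x ∈ DS Γ z w) (hy : y ∈ DS Γ z w) :
    Sv x y := sv_of_le (M.solvable_DS hzw) hx hy

theorem Mob.sv_invol {x y : Γ} (hx : x * x = 1) (hy : y * y = 1) : Sv x y := by
  by_cases hu : x * y = 1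
  · have : y = x := by
      calc y = (x * x) * y := by rw [hx, one_mul]
        _ = x * (x * y) := by group
        _ = x := by rw [hu, mul_one]
    subst this
    by_cases hx1 : y = 1
    · subst hx1
      have h1 : Group.IsSolvable (⊥ : Subgroup Γ) := inferInstance
      exact sv_of_le h1 (Subgroup.one_mem _) (Subgroup.one_mem _)
    · obtain ⟨z, hz⟩ := M.exists_fix hx1
      exact M.sv_of_fix hz hz
  · obtain ⟨a, ha⟩ := M.exists_fix hu
    have hya : y • a = x • a := by
      have h1 : x • (y • a) = a := by rw [← mul_smul]; exact ha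
      calc y • a = (x * x) • (y • a) := by rw [hx, one_smul]
        _ = x • (x • (y • a)) := by rw [mul_smul]
        _ = x • a := by rw [h1]
    have hxxa : x • x • a = a := by rw [← mul_smul, hx, one_smul]
    have hyya : y • x • a = a := by rw [← hya, ← mul_smul, hy, one_smul]
    by_cases hxa : x • a = a
    · exact M.sv_of_fix hxa (hya.trans hxa)
    · exact M.sv_of_DS (z := a) (w := x • a) (Ne.symm hxa) (Or.inr ⟨rfl, hxxa⟩)
        (Or.inr ⟨hya, hyya⟩)

end mob

section psl

variable {F K : Type*} [Field F] [Field K] [Algebra F K] [IsAlgClosed K] [Finite F]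

attribute [local instance 10] pact sact

/-- solvable subgroups of `PSL₂(2^p)` -/
theorem solvable_two [CharP K 2] {n : ℕ} (hn : n.Prime) (hF : Nat.card F = 2 ^ n)
    {L : Subgroup PSL(2, F)} (hL : L ≠ ⊥) (hs : Group.IsSolvable L) :
    (∃ z : ℙ K (Fin 2 → K), ∀ l ∈ L, l • z = z) ∨
      ∃ z w : ℙ K (Fin 2 → K), z ≠ w ∧ L ≤ DS PSL(2, F) z w := by
  have hfin : Finite PSL(2, F) := finite_psl
  have : Fact (Nat.Prime 2) := ⟨Nat.prime_two⟩
  have hn2 := hn.two_le
  have h4 : 4 ≤ Nat.card F := by
    rw [hF]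
    calc 4 = 2 ^ 2 := rfl
      _ ≤ 2 ^ n := Nat.pow_le_pow_right (by norm_num) hn2
  rcases (ambS (F := F) (K := K)).list (p := 2) hL with h | h | h | h | h | h
  · exact Or.inl h
  · right
    obtain ⟨z, -, hz⟩ := h
    obtain ⟨w, hw1, hw2, -⟩ := orbit_pair hz
    refine ⟨z, w, hw1.symm, ?_⟩
    intro l hl
    have horb : ∀ v ∈ orbit L z, l • v ∈ orbit L z := by
      rintro _ ⟨h, rfl⟩
      exact ⟨⟨l, hl⟩ * h, mul_smul _ _ _⟩
    rw [hw2] at horb
    have h1 := horb z (by simp)
    have h2 := horb w (by simp)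
    have h3 : l • z ≠ l • w := fun h => hw1 (smul_left_cancel l h).symm
    rcases h1 with h1 | h1 <;> rcases h2 with h2 | h2
    · exact absurd (h1.trans h2.symm) h3
    · exact Or.inl ⟨h1, h2⟩
    · exact Or.inr ⟨h1, h2⟩
    · exact absurd (h1.trans h2.symm) h3
  · exact absurd (by norm_num) h.1
  · exact absurd (by norm_num) h.1
  · rcases h.1 with h | h
    · exact absurd (by norm_num) h
    · omega
  · exfalso
    obtain ⟨z, hFull, h3, g, K1, h4', h5, h6, h7⟩ := h
    have hK1 : K1 = ⊤ := by
      apply eq_top_of_card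
      obtain ⟨m, hm⟩ := exists_pow_card K1
      have h8 : 3 ≤ Nat.card K1 := by rw [h7]; exact h3
      rw [hF] at hm ⊢
      obtain ⟨j, hj, hj2⟩ : ∃ j, j ≤ n ∧ Nat.card K1 = 2 ^ j := by
        have h9 : Nat.card K1 ∣ 2 ^ n := by
          rw [← hm]
          apply dvd_pow_self
          rintro rfl
          rw [pow_zero] at hm
          have : 1 < 2 ^ n := Nat.one_lt_two_pow (by omega)
          omega
        exact (Nat.dvd_prime_pow Nat.prime_two).1 h9
      rw [hj2, ← pow_mul] at hm
      have h10 := Nat.pow_right_injective (le_refl 2) hm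
      have h11 : j ∣ n := ⟨m, h10.symm⟩
      rcases (Nat.dvd_prime hn).1 h11 with h12 | h12
      · rw [hj2, h12] at h8; omega
      · rw [hj2, h12]
    rw [hK1] at h5
    have hLtop : L = ⊤ := eq_top_of_im (PSLr_le_of_cj h5)
    rw [hLtop] at hs
    exact (ambS (F := F) (K := K)).not_solvable h4
      (solvable_of_surjective (f := (Subgroup.topEquiv (G := PSL(2, F))).toMonoidHom)
        (Subgroup.topEquiv (G := PSL(2, F))).surjective)

end psl

end Cfsg.Agent.Dk
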