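import Mathlib
import Cfsg.Agent.Dk.Sol

/-! Solubilizers in `PSL₂(2^p)`: the counts. -/

set_option autoImplicit false

namespace Cfsg.Agent.Dk

open MulAction Matrix Subgroup LinearAlgebra.Projectivization Projectivization
open scoped MatrixGroups Pointwise
open H81 (pt0 pt1 ptz ptc)

section psl

variable {F : Type*} [Field F] [Finite F]

attribute [local instance 10] pact sact

/-- the number of elements of order one or two -/
theorem card_invol_two [CharP F 2] :
    {y : PSL(2, F) | y * y = 1}.ncard = Nat.card F ^ 2 := by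
  have := Fintype.ofFinite F
  have h2 : (2 : F) = 0 := CharTwo.two_eq_zero
  have hsq : ∀ a : F, ∃ b : F, b * b = a := by
    intro a
    obtain ⟨b, hb⟩ := FiniteField.isSquare_of_char_two (F := F)
      (ringChar.eq F 2 ▸ rfl) a
    exact ⟨b, hb.symm⟩
  choose r hr using hsq
  have hdet : ∀ b c : F, (!![r (1 + b * c), b; c, r (1 + b * c)] :
      Matrix (Fin 2) (Fin 2) F).det = 1 := by
    intro b c
    rw [Matrix.det_fin_two_of, hr]; ring
  let m : F × F → SL(2, F) := fun v => ⟨_, hdet v.1 v.2⟩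
  have hmm : ∀ v, m v * m v = 1 := by
    intro v
    apply Subtype.ext
    show !![r (1 + v.1 * v.2), v.1; v.2, r (1 + v.1 * v.2)] *
      !![r (1 + v.1 * v.2), v.1; v.2, r (1 + v.1 * v.2)] = (1 : Matrix (Fin 2) (Fin 2) F)
    have h1 := hr (1 + v.1 * v.2)
    ext i j
    fin_cases i <;> fin_cases j <;> simp [Matrix.mul_apply, Fin.sum_univ_two]
    · linear_combination h1 + v.1 * v.2 * h2
    · linear_combination (r (1 + v.1 * v.2) * v.1) * h2
    · linear_combination (r (1 + v.1 * v.2) * v.2) * h2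
    · linear_combination h1 + v.1 * v.2 * h2
  have hcard : Nat.card (F × F) = Nat.card {y : PSL(2, F) | y * y = 1} := by
    refine Nat.card_eq_of_bijective (f := fun v => ⟨QuotientGroup.mk (m v), ?_⟩) ⟨?_, ?_⟩
    · show (QuotientGroup.mk (m v * m v) : PSL(2, F)) = 1
      rw [hmm]; rfl
    · intro v w hvw
      have h3 : (QuotientGroup.mk (m v) : PSL(2, F)) = QuotientGroup.mk (m w) :=
        congrArg Subtype.val hvw
      rw [QuotientGroup.eq] at h3
      have h4 := center_two h3
      rw [inv_mul_eq_one] at h4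
      have h5 : (m v).1 = (m w).1 := congrArg Subtype.val h4
      have h6 : (m v).1 0 1 = (m w).1 0 1 := by rw [h5]
      have h7 : (m v).1 1 0 = (m w).1 1 0 := by rw [h5]
      exact Prod.ext h6 h7
    · rintro ⟨y, hy⟩
      induction y using QuotientGroup.induction_on with
      | H A =>
        have h3 : (QuotientGroup.mk (A * A) : PSL(2, F)) = 1 := hy
        rw [QuotientGroup.eq_one_iff] at h3
        have h4 := center_two h3
        have h5 : A⁻¹ = A := inv_eq_of_mul_eq_one_left h4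
        have h6 : (A⁻¹).1 0 0 = A.1 0 0 := by rw [h5]
        rw [Matrix.SpecialLinearGroup.coe_inv, Matrix.adjugate_fin_two] at h6
        have h6 : A.1 1 1 = A.1 0 0 := h6
        refine ⟨(A.1 0 1, A.1 1 0), Subtype.ext ?_⟩
        show (QuotientGroup.mk (m (A.1 0 1, A.1 1 0)) : PSL(2, F)) = QuotientGroup.mk A
        congr 1
        apply Subtype.ext
        show !![r (1 + A.1 0 1 * A.1 1 0), A.1 0 1; A.1 1 0, r (1 + A.1 0 1 * A.1 1 0)] = A.1
        have h7 : r (1 + A.1 0 1 * A.1 1 0) = A.1 0 0 := by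
          have h8 := hr (1 + A.1 0 1 * A.1 1 0)
          have hd := A.2
          rw [Matrix.det_fin_two, h6] at hd
          have h9 : (r (1 + A.1 0 1 * A.1 1 0) - A.1 0 0) ^ 2 = 0 := by
            linear_combination h8 - hd + (A.1 0 0 ^ 2 - r (1 + A.1 0 1 * A.1 1 0) * A.1 0 0) * h2
          exact sub_eq_zero.1 (pow_eq_zero_iff two_ne_zero |>.1 h9)
        rw [h7]
        ext i j
        fin_cases i <;> fin_cases j
        · rfl
        · rfl
        · rfl
        · exact h6.symm
  rw [← Nat.card_coe_set_eq, ← hcard, Nat.card_prod, sq]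

variable {K : Type*} [Field K] [Algebra F K] [IsAlgClosed K]

theorem sv_iff_two [CharP K 2] {n : ℕ} (hn : n.Prime) (hF : Nat.card F = 2 ^ n) {x y : PSL(2, F)}
    (hx : x ≠ 1) : Sv x y ↔ (∃ z : ℙ K (Fin 2 → K), x • z = z ∧ y • z = z) ∨
      ∃ z w : ℙ K (Fin 2 → K), z ≠ w ∧ x ∈ DS PSL(2, F) z w ∧ y ∈ DS PSL(2, F) z w := by
  have hfin : Finite PSL(2, F) := finite_psl
  have : Fact (Nat.Prime 2) := ⟨Nat.prime_two⟩
  have M := mobS (p := 2) (F := F) (K := K)
  have hxc : x ∈ Subgroup.closure ({x, y} : Set PSL(2, F)) := Subgroup.subset_closure (by simp)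
  have hyc : y ∈ Subgroup.closure ({x, y} : Set PSL(2, F)) := Subgroup.subset_closure (by simp)
  constructor
  · intro h
    have hne : Subgroup.closure ({x, y} : Set PSL(2, F)) ≠ ⊥ := by
      intro hb
      rw [hb, Subgroup.mem_bot] at hxc
      exact hx hxc
    rcases solvable_two (K := K) hn hF hne h with ⟨z, hz⟩ | ⟨z, w, hzw, hle⟩
    · exact Or.inl ⟨z, hz x hxc, hz y hyc⟩
    · exact Or.inr ⟨z, w, hzw, hle hxc, hle hyc⟩
  · rintro (⟨z, h1, h2⟩ | ⟨z, w, hzw, h1, h2⟩)
    · exact M.sv_of_fix h1 h2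
    · exact M.sv_of_DS hzw h1 h2

/-- the solubilizer of an involution -/
theorem sol_invol_two {n : ℕ} (hn : n.Prime) (hF : Nat.card F = 2 ^ n) [CharP F 2]
    {x : PSL(2, F)} (hx : x ≠ 1) (hxx : x * x = 1) :
    Nat.card {y : PSL(2, F) // Sv x y} = 3 * Nat.card F * (Nat.card F - 1) := by
  have hfin : Finite PSL(2, F) := finite_psl
  let K := AlgebraicClosure F
  have : CharP K 2 := charP_of_injective_algebraMap (algebraMap F K).injective 2
  have : Fact (Nat.Prime 2) := ⟨Nat.prime_two⟩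
  have M := mobS (p := 2) (F := F) (K := K)
  have hFull := fullS (p := 2) (F := F) (K := K)
  obtain ⟨z0, hz0⟩ := inv_mem_U (K := K) hx hxx
  have hne : M.U z0 ≠ ⊥ := by
    intro h
    rw [h, Subgroup.mem_bot] at hz0
    exact hx hz0
  have hev : Even (Nat.card F) := even_iff_two_dvd.2 (char_dvd_card (F := F) Nat.prime_two)
  have hq1 : 1 < Nat.card F := Finite.one_lt_card
  obtain ⟨g, hg⟩ := M.exists_smul_eq hFull.1 hne
  have hcU : Nat.card (M.U z0) = Nat.card F := by
    rw [← hg, M.card_U_smul]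
    exact card_US_pt0
  have ht : (mobS (p := 2) (F := F) (K := K)).t (pt0 K) = Nat.card F - 1 := by
    have := t_psl (p := 2) (F := F) (K := K)
    rwa [gcd_even hev, one_mul] at this
  have hst : Nat.card (stabilizer PSL(2, F) z0) = Nat.card F * (Nat.card F - 1) := by
    rw [← hg, card_stab_smul, M.card_stab, ht, card_US_pt0]
  let A : Set PSL(2, F) := (stabilizer PSL(2, F) z0 : Set PSL(2, F))
  let B : Set PSL(2, F) := {y | y * y = 1}
  let C : Set PSL(2, F) := {y | (x * y) * (x * y) = 1}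
  let U : Set PSL(2, F) := (M.U z0 : Set PSL(2, F))
  have hUU : ∀ u ∈ M.U z0, u * u = 1 := by
    intro u hu; rw [← sq]; exact M.pow_of_mem_U hu
  have hmU : ∀ u : PSL(2, F), u • z0 = z0 → u * u = 1 → u ∈ M.U z0 := by
    intro u h1 h2
    exact M.mem_U_of_pow h1 (k := 1) (by rw [pow_one, sq, h2])
  have hA : A.ncard = Nat.card F * (Nat.card F - 1) := hst
  have hB : B.ncard = Nat.card F ^ 2 := card_invol_two
  have hC : C.ncard = Nat.card F ^ 2 := by
    rw [← hB]
    have : C = (fun y => x * y) '' B := by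
      ext y
      constructor
      · intro hy
        refine ⟨x * y, hy, ?_⟩
        show x * (x * y) = y
        rw [← mul_assoc, hxx, one_mul]
      · rintro ⟨u, hu, rfl⟩
        show (x * (x * u)) * (x * (x * u)) = 1
        have e1 : x * (x * u) = u := by rw [← mul_assoc, hxx, one_mul]
        rw [e1]; exact hu
    rw [this, Set.ncard_image_of_injective _ (mul_right_injective x)]
  have hUc : U.ncard = Nat.card F := hcU
  have hxz : x • z0 = z0 := M.smul_of_mem_U hz0
  have hAB : A ∩ B = U := by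
    ext y
    constructor
    · rintro ⟨h1, h2⟩
      exact hmU y h1 h2
    · intro hy
      exact ⟨M.U_le_stab z0 hy, hUU y hy⟩
  have hAC : A ∩ C = U := by
    ext y
    constructor
    · rintro ⟨h1, h2⟩
      have h1 : y • z0 = z0 := h1
      have h3 : x * y ∈ M.U z0 := hmU _ (by rw [mul_smul, h1, hxz]) h2
      exact ((M.U z0).mul_mem_cancel_left hz0).1 h3
    · intro hy
      exact ⟨M.U_le_stab z0 hy, hUU _ ((M.U z0).mul_mem hz0 hy)⟩
  have hBC : B ∩ C ⊆ U := by
    rintro y ⟨h1, h2⟩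
    have h1 : y * y = 1 := h1
    have h2 : (x * y) * (x * y) = 1 := h2
    have h3 : y * x = x * y := by
      calc y * x = (x * x) * (y * x) * (y * y) := by rw [hxx, h1, one_mul, mul_one]
        _ = x * ((x * y) * (x * y)) * y := by group
        _ = x * y := by rw [h2, mul_one]
    have h4 : y • z0 = z0 := by
      have h5 : x • (y • z0) = y • z0 := by rw [← mul_smul, ← h3, mul_smul, hxz]
      exact M.eq_of_mem_U hz0 hx h5
    exact hmU y h4 h1
  have hmain : {y : PSL(2, F) | Sv x y} = (A ∪ B) ∪ C := by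
    ext y
    constructor
    · intro hy
      rcases (sv_iff_two (K := K) hn hF hx).1 hy with ⟨z, h1, h2⟩ | ⟨z, w, hzw, h1, h2⟩
      · have : z = z0 := M.eq_of_mem_U hz0 hx h1
        subst this
        exact Or.inl (Or.inl h2)
      · rcases h1 with h1 | h1
        · exfalso
          exact hzw ((M.eq_of_mem_U hz0 hx h1.1).trans (M.eq_of_mem_U hz0 hx h1.2).symm)
        · rcases h2 with h2 | h2
          · right
            apply M.swap_sq hzw
            · rw [mul_smul, h2.1, h1.1]
            · rw [mul_smul, h2.2, h1.2]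
          · left; right
            exact M.swap_sq hzw h2.1 h2.2
    · rintro ((h | h) | h)
      · exact M.sv_of_fix hxz h
      · exact M.sv_invol hxx h
      · exact sv_mul (M.sv_invol hxx h)
  have h1 : Nat.card {y : PSL(2, F) // Sv x y} = ((A ∪ B) ∪ C).ncard := by
    rw [← hmain]; rfl
  rw [h1]
  have h2 := Set.ncard_union_add_ncard_inter A B (Set.toFinite _) (Set.toFinite _)
  have h3 := Set.ncard_union_add_ncard_inter (A ∪ B) C (Set.toFinite _) (Set.toFinite _)
  have h4 : (A ∪ B) ∩ C = U := by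
    rw [Set.union_inter_distrib_right, hAC]
    apply Set.union_eq_left.2 hBC
  rw [h4, hUc, hC] at h3
  rw [hAB, hUc, hA, hB] at h2
  obtain ⟨k, hk⟩ : ∃ k, Nat.card F = k + 1 := ⟨Nat.card F - 1, by omega⟩
  rw [hk, Nat.add_sub_cancel] at h2 ⊢
  rw [hk] at h3
  nlinarith

/-- the pair of an element of odd order -/
theorem odd_pair [CharP K 2] {x : PSL(2, F)} (hx : x ≠ 1) (hxx : Odd (orderOf x)) :
    ∃ z w : ℙ K (Fin 2 → K), z ≠ w ∧ x ∈ TS PSL(2, F) z w ∧
      (∀ a : ℙ K (Fin 2 → K), x • a = a → a = z ∨ a = w) ∧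
      (∀ a b : ℙ K (Fin 2 → K), a ≠ b → x ∈ DS PSL(2, F) a b → DS PSL(2, F) a b =
        DS PSL(2, F) z w) := by
  have hfin : Finite PSL(2, F) := finite_psl
  have : Fact (Nat.Prime 2) := ⟨Nat.prime_two⟩
  have M := mobS (p := 2) (F := F) (K := K)
  have hno2 : x * x ≠ 1 := by
    intro h
    have h1 : orderOf x ∣ 2 := orderOf_dvd_of_pow_eq_one (by rw [sq, h])
    rcases (Nat.dvd_prime Nat.prime_two).1 h1 with h2 | h2
    · exact hx (orderOf_eq_one_iff.1 h2)
    · rw [h2] at hxx; exact absurd hxx (by decide)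
  obtain ⟨z, hz⟩ := M.exists_fix hx
  rcases M.fix_or hx hz with h | ⟨w, hw, hw2⟩
  · exfalso
    have h1 := M.pow_of_mem_U (M.mem_U.2 (Or.inr h))
    rw [sq] at h1
    exact hno2 h1
  · have hwx : w ∈ fixedBy (ℙ K (Fin 2 → K)) x := by rw [hw2]; simp
    have hT : x ∈ TS PSL(2, F) z w := ⟨hz, hwx⟩
    refine ⟨z, w, hw.symm, hT, fun a ha => M.mem_pair hw.symm hT hx ha, ?_⟩
    intro a b hab hD
    rcases hD with h1 | h1
    · rcases M.mem_pair hw.symm hT hx h1.1 with h3 | h3 <;>
        rcases M.mem_pair hw.symm hT hx h1.2 with h4 | h4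
      · exact absurd (h3.trans h4.symm) hab
      · rw [h3, h4]
      · rw [h3, h4]
        ext u; rw [mem_DS, mem_DS]; tauto
      · exact absurd (h3.trans h4.symm) hab
    · exact absurd (M.swap_sq hab h1.1 h1.2) hno2

/-- the solubilizer of an element of a split torus -/
theorem sol_split_two {n : ℕ} (hn : n.Prime) (hF : Nat.card F = 2 ^ n) [CharP F 2]
    {x : PSL(2, F)} (hx : x ≠ 1) (hxd : orderOf x ∣ Nat.card F - 1) :
    Nat.card {y : PSL(2, F) // Sv x y} = 2 * Nat.card F * (Nat.card F - 1) := by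
  have hfin : Finite PSL(2, F) := finite_psl
  let K := AlgebraicClosure F
  have : CharP K 2 := charP_of_injective_algebraMap (algebraMap F K).injective 2
  have : Fact (Nat.Prime 2) := ⟨Nat.prime_two⟩
  have M := mobS (p := 2) (F := F) (K := K)
  have hFull := fullS (p := 2) (F := F) (K := K)
  have hev : Even (Nat.card F) := even_iff_two_dvd.2 (char_dvd_card (F := F) Nat.prime_two)
  have hq1 : 1 < Nat.card F := Finite.one_lt_card
  have ht : (mobS (p := 2) (F := F) (K := K)).t (pt0 K) = Nat.card F - 1 := by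
    have := t_psl (p := 2) (F := F) (K := K)
    rwa [gcd_even hev, one_mul] at this
  have hodd : Odd (Nat.card F - 1) := by
    obtain ⟨k, hk⟩ := hev
    exact ⟨k - 1, by omega⟩
  obtain ⟨z, w, hzw, hT, hfx, hDS⟩ := odd_pair (K := K) hx (hodd.of_dvd_nat hxd)
  have hTne : TS PSL(2, F) z w ≠ ⊥ := by
    intro h; rw [h, Subgroup.mem_bot] at hT; exact hx hT
  have hz : z ∈ orbit PSL(2, F) (pt0 K) := by
    by_contra hz
    obtain ⟨h3, -, -⟩ := (ambS (F := F) (K := K)).card_TS_irr (p := 2) hz hzw hTne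
    have h3' : Nat.card (TS PSL(2, F) z w) * (Nat.card F - 1) =
      (Nat.card F + 1) * (mobS (p := 2) (F := F) (K := K)).t (pt0 K) := h3
    rw [ht] at h3'
    have h4 := Nat.eq_of_mul_eq_mul_right (by omega) h3'
    have h5 := Subgroup.orderOf_dvd_natCard _ hT
    rw [h4] at h5
    have h6 : orderOf x ∣ 2 := by
      have h7 : Nat.card F + 1 = (Nat.card F - 1) + 2 := by omega
      rw [h7] at h5
      exact (Nat.dvd_add_right hxd).1 h5
    have h7 := hodd.of_dvd_nat hxd
    rcases (Nat.dvd_prime Nat.prime_two).1 h6 with h8 | h8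
    · exact hx (orderOf_eq_one_iff.1 h8)
    · rw [h8] at h7; exact absurd h7 (by decide)
  have hw := mate_rat (p := 2) hzw hTne hz
  have hcT : Nat.card (TS PSL(2, F) z w) = Nat.card F - 1 := by
    rw [hFull.card_TS hz hw hzw]; exact ht
  obtain ⟨s, hs1, hs2⟩ := hFull.swap hz hw hzw
  have hcD := (M.DS_dihedral hzw hs1 hs2).2
  rw [hcT] at hcD
  have hst : ∀ a ∈ orbit PSL(2, F) (pt0 K),
      Nat.card (stabilizer PSL(2, F) a) = Nat.card F * (Nat.card F - 1) := by
    intro a ha
    rw [card_stab_of_mem ha, M.card_stab, ht, card_US_pt0]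
  let A : Set PSL(2, F) := (stabilizer PSL(2, F) z : Set PSL(2, F))
  let B : Set PSL(2, F) := (stabilizer PSL(2, F) w : Set PSL(2, F))
  let C : Set PSL(2, F) := (DS PSL(2, F) z w : Set PSL(2, F))
  let T : Set PSL(2, F) := (TS PSL(2, F) z w : Set PSL(2, F))
  have hA : A.ncard = Nat.card F * (Nat.card F - 1) := hst z hz
  have hB : B.ncard = Nat.card F * (Nat.card F - 1) := hst w hw
  have hC : C.ncard = 2 * (Nat.card F - 1) := hcD
  have hTc : T.ncard = Nat.card F - 1 := hcT
  have hAB : A ∩ B = T := rfl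
  have h4 : (A ∪ B) ∩ C = T := by
    ext y
    constructor
    · rintro ⟨h1 | h1, h2 | h2⟩
      · exact h2
      · exact absurd ((show y • z = z from h1).symm.trans h2.1) hzw
      · exact h2
      · exact absurd (h2.2.symm.trans (show y • w = w from h1)) hzw
    · intro h
      exact ⟨Or.inl h.1, Or.inl h⟩
  have hmain : {y : PSL(2, F) | Sv x y} = (A ∪ B) ∪ C := by
    ext y
    constructor
    · intro hy
      rcases (sv_iff_two (K := K) hn hF hx).1 hy with ⟨a, h1, h2⟩ | ⟨a, b, hab, h1, h2⟩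
      · rcases hfx a h1 with rfl | rfl
        · exact Or.inl (Or.inl h2)
        · exact Or.inl (Or.inr h2)
      · right
        rw [hDS a b hab h1] at h2
        exact h2
    · rintro ((h | h) | h)
      · exact M.sv_of_fix hT.1 h
      · exact M.sv_of_fix hT.2 h
      · exact M.sv_of_DS hzw (TS_le_DS z w hT) h
  have h1 : Nat.card {y : PSL(2, F) // Sv x y} = ((A ∪ B) ∪ C).ncard := by
    rw [← hmain]; rfl
  rw [h1]
  have h2 := Set.ncard_union_add_ncard_inter A B (Set.toFinite _) (Set.toFinite _)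
  have h3 := Set.ncard_union_add_ncard_inter (A ∪ B) C (Set.toFinite _) (Set.toFinite _)
  rw [h4, hTc, hC] at h3
  rw [hAB, hTc, hA, hB] at h2
  obtain ⟨k, hk⟩ : ∃ k, Nat.card F = k + 1 := ⟨Nat.card F - 1, by omega⟩
  rw [hk, Nat.add_sub_cancel] at h2 h3 ⊢
  nlinarith

/-- the solubilizer of an element of a non-split torus -/
theorem sol_nonsplit_two {n : ℕ} (hn : n.Prime) (hF : Nat.card F = 2 ^ n) [CharP F 2]
    {x : PSL(2, F)} (hx : x ≠ 1) (hxd : orderOf x ∣ Nat.card F + 1) :
    Nat.card {y : PSL(2, F) // Sv x y} = 2 * (Nat.card F + 1) := by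
  have hfin : Finite PSL(2, F) := finite_psl
  let K := AlgebraicClosure F
  have : CharP K 2 := charP_of_injective_algebraMap (algebraMap F K).injective 2
  have : Fact (Nat.Prime 2) := ⟨Nat.prime_two⟩
  have M := mobS (p := 2) (F := F) (K := K)
  have hFull := fullS (p := 2) (F := F) (K := K)
  have hev : Even (Nat.card F) := even_iff_two_dvd.2 (char_dvd_card (F := F) Nat.prime_two)
  have hq1 : 1 < Nat.card F := Finite.one_lt_card
  have ht : (mobS (p := 2) (F := F) (K := K)).t (pt0 K) = Nat.card F - 1 := by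
    have := t_psl (p := 2) (F := F) (K := K)
    rwa [gcd_even hev, one_mul] at this
  have hodd : Odd (Nat.card F + 1) := hev.add_one
  obtain ⟨z, w, hzw, hT, hfx, hDS⟩ := odd_pair (K := K) hx (hodd.of_dvd_nat hxd)
  have hTne : ∀ z w : ℙ K (Fin 2 → K), x ∈ TS PSL(2, F) z w → TS PSL(2, F) z w ≠ ⊥ := by
    intro z w hT h; rw [h, Subgroup.mem_bot] at hT; exact hx hT
  have hirr : ∀ z w : ℙ K (Fin 2 → K), z ≠ w → x ∈ TS PSL(2, F) z w →
      z ∉ orbit PSL(2, F) (pt0 K) := by
    intro z w hzw hT hz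
    have hw := mate_rat (p := 2) hzw (hTne z w hT) hz
    have hcT : Nat.card (TS PSL(2, F) z w) = Nat.card F - 1 := by
      rw [hFull.card_TS hz hw hzw]; exact ht
    have h5 := Subgroup.orderOf_dvd_natCard _ hT
    rw [hcT] at h5
    have h6 : orderOf x ∣ 2 := by
      have h7 : Nat.card F + 1 = (Nat.card F - 1) + 2 := by omega
      rw [h7] at hxd
      exact (Nat.dvd_add_right h5).1 hxd
    have h7 := hodd.of_dvd_nat hxd
    rcases (Nat.dvd_prime Nat.prime_two).1 h6 with h8 | h8
    · exact hx (orderOf_eq_one_iff.1 h8)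
    · rw [h8] at h7; exact absurd h7 (by decide)
  obtain ⟨h3, hstz, s, hs1, hs2⟩ := (ambS (F := F) (K := K)).card_TS_irr (p := 2)
    (hirr z w hzw hT) hzw (hTne z w hT)
  obtain ⟨-, hstw, -⟩ := (ambS (F := F) (K := K)).card_TS_irr (p := 2)
    (hirr w z hzw.symm ⟨hT.2, hT.1⟩) hzw.symm (hTne w z ⟨hT.2, hT.1⟩)
  have h3' : Nat.card (TS PSL(2, F) z w) * (Nat.card F - 1) =
      (Nat.card F + 1) * (mobS (p := 2) (F := F) (K := K)).t (pt0 K) := h3
  rw [ht] at h3'
  have hcT := Nat.eq_of_mul_eq_mul_right (by omega) h3'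
  have hcD := (M.DS_dihedral hzw hs1 hs2).2
  rw [hcT] at hcD
  have hmain : {y : PSL(2, F) | Sv x y} = (DS PSL(2, F) z w : Set PSL(2, F)) := by
    ext y
    constructor
    · intro hy
      rcases (sv_iff_two (K := K) hn hF hx).1 hy with ⟨a, h1, h2⟩ | ⟨a, b, hab, h1, h2⟩
      · rcases hfx a h1 with rfl | rfl
        · have h5 : y ∈ stabilizer PSL(2, F) a := h2
          rw [← hstz] at h5
          exact TS_le_DS _ _ h5
        · have h5 : y ∈ stabilizer PSL(2, F) a := h2
          rw [← hstw] at h5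
          exact TS_le_DS _ _ ⟨h5.2, h5.1⟩
      · rw [hDS a b hab h1] at h2
        exact h2
    · intro h
      exact M.sv_of_DS hzw (TS_le_DS z w hT) h
  have h1 : Nat.card {y : PSL(2, F) // Sv x y} =
      ((DS PSL(2, F) z w : Set PSL(2, F))).ncard := by
    rw [← hmain]; rfl
  rw [h1]
  exact hcD

end psl

end Cfsg.Agent.Dk
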