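import Mathlib
import Cfsg.Agent.Dk.FieldCase

/-! A lemma on squares in a finite field with `-1` a nonsquare. -/

set_option autoImplicit false

namespace Cfsg.Agent.Dk

section sq

variable {F : Type*} [Field F] [Fintype F] [DecidableEq F]

omit [Fintype F] in
/-- a finite set of nonzero elements stable under multiplication by `r` -/
theorem pow_card_eq_one_of_stable {S : Finset F} (h0 : (0 : F) ∉ S) {r : F} (hr0 : r ≠ 0)
    (hr : ∀ x ∈ S, r * x ∈ S) : r ^ S.card = 1 := by
  have hinj : Function.Injective (fun x : F => r * x) := mul_right_injective₀ hr0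
  have himg : S.image (fun x => r * x) = S := by
    apply Finset.eq_of_subset_of_card_le
    · intro y hy
      obtain ⟨x, hx, rfl⟩ := Finset.mem_image.1 hy
      exact hr x hx
    · rw [Finset.card_image_of_injective _ hinj]
  have h1 : ∏ x ∈ S, x = r ^ S.card * ∏ x ∈ S, x := by
    conv_lhs => rw [← himg]
    rw [Finset.prod_image (fun a _ b _ h => hinj h), Finset.prod_mul_distrib, Finset.prod_const]
  have h2 : ∏ x ∈ S, x ≠ 0 := Finset.prod_ne_zero_iff.2 (fun x hx h => h0 (h ▸ hx))
  apply mul_right_cancel₀ h2
  rw [one_mul]; exact h1.symm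

open Classical in
/-- the elements `e` with `e² - c` a square -/
noncomputable def Sc (c : F) : Finset F := Finset.univ.filter fun e => IsSquare (e * e - c)

open Classical in
theorem mem_Sc {c e : F} : e ∈ Sc c ↔ IsSquare (e * e - c) := by
  simp [Sc]

theorem card_Sc (h2 : (2 : F) ≠ 0) {c : F} (hc : c ≠ 0) :
    2 * (Sc c).card = (Fintype.card F - 1) + ((Sc c).filter fun e => e * e = c).card := by
  let L : Finset F := Finset.univ.erase 0
  have hL : L.card = Fintype.card F - 1 := by
    rw [Finset.card_erase_of_mem (Finset.mem_univ _), Finset.card_univ]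
  let f : F → F := fun u => (u + c / u) / 2
  have hf : ∀ u ∈ L, f u ∈ Sc c := by
    intro u hu
    have hu0 : u ≠ 0 := (Finset.mem_erase.1 hu).1
    rw [mem_Sc]
    refine ⟨(u - c / u) / 2, ?_⟩
    show (u + c / u) / 2 * ((u + c / u) / 2) - c = _
    field_simp
    ring
  have hsum := Finset.card_eq_sum_card_fiberwise hf
  have hfib : ∀ e ∈ Sc c, (L.filter fun u => f u = e).card = if e * e = c then 1 else 2 := by
    intro e he
    obtain ⟨w, hw⟩ := mem_Sc.1 he
    have heq : (L.filter fun u => f u = e) = {e + w, e - w} := by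
      ext u
      rw [Finset.mem_filter, Finset.mem_insert, Finset.mem_singleton]
      constructor
      · rintro ⟨hu, hfu⟩
        have hu0 : u ≠ 0 := (Finset.mem_erase.1 hu).1
        have hfu : (u + c / u) / 2 = e := hfu
        field_simp at hfu
        have h3 : (u - (e + w)) * (u - (e - w)) = 0 := by
          linear_combination hfu + hw
        rcases mul_eq_zero.1 h3 with h | h
        · left; exact sub_eq_zero.1 h
        · right; exact sub_eq_zero.1 h
      · have hprod : (e + w) * (e - w) = c := by linear_combination hw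
        have key : ∀ u v : F, u * v = c → u + v = 2 * e → u ∈ L ∧ f u = e := by
          intro u v huv hsum
          have hu0 : u ≠ 0 := by rintro rfl; rw [zero_mul] at huv; exact hc huv.symm
          refine ⟨Finset.mem_erase.2 ⟨hu0, Finset.mem_univ _⟩, ?_⟩
          show (u + c / u) / 2 = e
          rw [← huv]
          field_simp
          linear_combination hsum
        rintro (rfl | rfl)
        · exact key _ _ hprod (by ring)
        · exact key _ _ (by rw [mul_comm]; exact hprod) (by ring)
    rw [heq]
    by_cases h : e * e = c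
    · rw [if_pos h]
      have hw0 : w = 0 := by
        rw [h, sub_self] at hw
        exact mul_self_eq_zero.1 hw.symm
      rw [hw0, add_zero, sub_zero]; simp
    · rw [if_neg h, Finset.card_pair]
      intro h3
      apply h
      have hw0 : w = 0 := by
        have : 2 * w = 0 := by linear_combination h3
        exact (mul_eq_zero.1 this).resolve_left h2
      rw [hw0, mul_zero] at hw
      exact sub_eq_zero.1 hw
  rw [Finset.sum_congr rfl hfib, hL] at hsum
  have h3 : ∑ e ∈ Sc c, (if e * e = c then 1 else 2) + ((Sc c).filter fun e => e * e = c).card =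
      2 * (Sc c).card := by
    rw [Finset.card_filter, ← Finset.sum_add_distrib]
    rw [Finset.sum_congr rfl (g := fun _ => 2)]
    · rw [Finset.sum_const, smul_eq_mul, mul_comm]
    · intro e _
      by_cases h : e * e = c
      · rw [if_pos h, if_pos h]
      · rw [if_neg h, if_neg h]
  omega

/-- the key lemma -/
theorem exists_sq (h3 : Fintype.card F % 4 = 3) (h7 : 7 ≤ Fintype.card F) {A B : F}
    (hAB : A + B = 4) (hsq : IsSquare (A * B)) (hne : A * B ≠ 0) :
    ∃ e : F, e ≠ 0 ∧ IsSquare (e * e + 4) ∧
      (IsSquare (-(B * (A + e * e))) ∨ IsSquare (-(A * (B + e * e)))) := by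
  -- basic facts on squares
  have hm1 : ¬ IsSquare (-1 : F) := by
    rw [FiniteField.isSquare_neg_one_iff]; omega
  have h2 : (2 : F) ≠ 0 := by
    intro h
    apply hm1
    have : (-1 : F) = 1 := by linear_combination -h
    rw [this]; exact ⟨1, by ring⟩
  have hA0 : A ≠ 0 := left_ne_zero_of_mul hne
  have hB0 : B ≠ 0 := right_ne_zero_of_mul hne
  have hor : ∀ x : F, ¬ IsSquare x → IsSquare (-x) := by
    intro x hx
    have := sq_mul hm1 hx
    rwa [neg_one_mul] at this
  have hnot : ∀ x : F, x ≠ 0 → IsSquare x → ¬ IsSquare (-x) := by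
    rintro x hx0 hx hx'
    apply hm1
    have h4 : (-1 : F) = (-x) / x := by field_simp
    rw [h4]
    exact hx'.div hx
  by_contra hcon
  have H : ∀ e : F, e ≠ 0 → IsSquare (e * e + 4) →
      (IsSquare (B * (A + e * e)) ∧ A + e * e ≠ 0) ∧
      (IsSquare (A * (B + e * e)) ∧ B + e * e ≠ 0) := by
    intro e he hes
    push Not at hcon
    obtain ⟨h4, h5⟩ := hcon e he hes
    have h4' := hor _ h4
    have h5' := hor _ h5
    rw [neg_neg] at h4' h5'
    refine ⟨⟨h4', ?_⟩, h5', ?_⟩
    · intro h; apply h4; rw [h]; exact ⟨0, by ring⟩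
    · intro h; apply h5; rw [h]; exact ⟨0, by ring⟩
  obtain ⟨k, hk⟩ : ∃ k, Fintype.card F = 4 * k + 3 := ⟨Fintype.card F / 4, by omega⟩
  have hfermat : ∀ r : F, r ≠ 0 → r ^ (4 * k + 2) = 1 := by
    intro r hr
    have := FiniteField.pow_card_sub_one_eq_one r hr
    rwa [hk] at this
  -- the set E
  have hmE : ∀ e : F, e ∈ Sc (-4 : F) ↔ IsSquare (e * e + 4) := by
    intro e; rw [mem_Sc, sub_neg_eq_add]
  have h4ne : (4 : F) ≠ 0 := by
    intro h; apply h2
    have : (2 : F) * 2 = 0 := by linear_combination h
    exact mul_self_eq_zero.1 this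
  have hE : (Sc (-4 : F)).card = 2 * k + 1 := by
    have h5 := card_Sc h2 (neg_ne_zero.2 h4ne)
    have h6 : (Finset.filter (fun e => e * e = -4) (Sc (-4 : F))) = ∅ := by
      rw [Finset.filter_eq_empty_iff]
      intro e _ he
      apply hnot 4 h4ne ⟨2, by ring⟩
      exact ⟨e, he.symm⟩
    rw [h6, Finset.card_empty, hk] at h5
    omega
  have h0E : (0 : F) ∈ Sc (-4 : F) := by rw [hmE]; exact ⟨2, by ring⟩
  by_cases hAs : IsSquare A
  · -- first case
    have hBs : IsSquare B := by
      have : B = (A * B) / A := by field_simp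
      rw [this]; exact hsq.div hAs
    obtain ⟨b, hb⟩ := hBs
    have hb0 : b ≠ 0 := by rintro rfl; rw [mul_zero] at hb; exact hB0 hb
    have hr : ∀ x ∈ (Sc (-4 : F)).erase 0, (2 / b) * x ∈ (Sc (-4 : F)).erase 0 := by
      intro x hx
      obtain ⟨hx0, hxE⟩ := Finset.mem_erase.1 hx
      rw [hmE] at hxE
      obtain ⟨-, h5, -⟩ := H x hx0 hxE
      have h6 : IsSquare (B + x * x) := by
        have : B + x * x = (A * (B + x * x)) / A := by field_simp
        rw [this]; exact h5.div hAs
      refine Finset.mem_erase.2 ⟨mul_ne_zero (div_ne_zero h2 hb0) hx0, ?_⟩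
      rw [hmE]
      have : 2 / b * x * (2 / b * x) + 4 = (2 / b) * (2 / b) * (B + x * x) := by
        rw [hb]; field_simp; ring
      rw [this]
      exact IsSquare.mul ⟨_, rfl⟩ h6
    have h5 := pow_card_eq_one_of_stable (Finset.notMem_erase 0 _) (div_ne_zero h2 hb0) hr
    rw [Finset.card_erase_of_mem h0E, hE, Nat.add_sub_cancel] at h5
    have h6 := hfermat (2 / b) (div_ne_zero h2 hb0)
    have h7 : (2 / b) ^ 2 = 1 := by
      have : (2 / b) ^ (4 * k + 2) = ((2 / b) ^ (2 * k)) ^ 2 * (2 / b) ^ 2 := by ring
      rw [this, h5, one_pow, one_mul] at h6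
      exact h6
    apply hA0
    rw [div_pow, div_eq_one_iff_eq (pow_ne_zero 2 hb0)] at h7
    linear_combination hAB - hb + h7
  · have hBs : ¬ IsSquare B := by
      intro hBs
      apply hAs
      have : A = (A * B) / B := by field_simp
      rw [this]; exact hsq.div hBs
    -- second case
    have key : ∀ A B : F, A ≠ 0 → B ≠ 0 → ¬ IsSquare A → ¬ IsSquare B →
        (∀ e : F, e ≠ 0 → IsSquare (e * e + 4) → IsSquare (B * (A + e * e)) ∧ A + e * e ≠ 0) →
        Sc (-A) = (Sc (-4 : F))ᶜ ∧ (Sc (-A)).card = 2 * k + 2 := by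
      intro A B hA0 hB0 hAs hBs H
      have hcard : (Sc (-A)).card = 2 * k + 2 := by
        have h5 := card_Sc h2 (neg_ne_zero.2 hA0)
        obtain ⟨α, hα⟩ := hor A hAs
        have hα0 : α ≠ 0 := by
          rintro rfl; rw [mul_zero] at hα; exact hA0 (neg_eq_zero.1 hα)
        have h6 : (Finset.filter (fun e => e * e = -A) (Sc (-A))) = {α, -α} := by
          ext e
          rw [Finset.mem_filter, Finset.mem_insert, Finset.mem_singleton]
          constructor
          · rintro ⟨-, he⟩
            have : (e - α) * (e + α) = 0 := by linear_combination he + hα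
            rcases mul_eq_zero.1 this with h | h
            · left; exact sub_eq_zero.1 h
            · right; exact eq_neg_of_add_eq_zero_left h
          · intro he
            have hee : e * e = -A := by
              rcases he with rfl | rfl
              · exact hα.symm
              · rw [hα]; ring
            refine ⟨?_, hee⟩
            rw [mem_Sc, hee, sub_self]
            exact ⟨0, by ring⟩
        rw [h6, Finset.card_pair, hk] at h5
        · omega
        · intro h
          apply hα0
          have : 2 * α = 0 := by linear_combination h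
          exact (mul_eq_zero.1 this).resolve_left h2
      refine ⟨?_, hcard⟩
      apply Finset.eq_of_subset_of_card_le
      · intro e he
        rw [Finset.mem_compl]
        intro heE
        rw [hmE] at heE
        rw [mem_Sc, sub_neg_eq_add] at he
        by_cases he0 : e = 0
        · rw [he0, mul_zero, zero_add] at he
          exact hAs he
        · obtain ⟨h5, h6⟩ := H e he0 heE
          apply hBs
          have : B = (B * (A + e * e)) / (A + e * e) := (mul_div_cancel_right₀ B h6).symm
          rw [this]
          rw [add_comm] at he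
          exact h5.div he
      · rw [Finset.card_compl, hE, hcard, hk]; omega
    obtain ⟨hSA, hcA⟩ := key A B hA0 hB0 hAs hBs (fun e he hes => (H e he hes).1)
    obtain ⟨hSB, hcB⟩ := key B A hB0 hA0 hBs hAs (fun e he hes => (H e he hes).2)
    obtain ⟨α, hα⟩ := hor A hAs
    obtain ⟨β, hβ⟩ := hor B hBs
    have hα0 : α ≠ 0 := by
      rintro rfl; rw [mul_zero] at hα; exact hA0 (neg_eq_zero.1 hα)
    have hβ0 : β ≠ 0 := by
      rintro rfl; rw [mul_zero] at hβ; exact hB0 (neg_eq_zero.1 hβ)
    have hr : ∀ x ∈ Sc (-A), (β / α) * x ∈ Sc (-A) := by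
      intro x hx
      rw [hSA, ← hSB]
      rw [mem_Sc, sub_neg_eq_add] at hx ⊢
      have : β / α * x * (β / α * x) + B = (β / α) * (β / α) * (x * x + A) := by
        have e1 : A = -(α * α) := by rw [← hα]; ring
        have e2 : B = -(β * β) := by rw [← hβ]; ring
        rw [e1, e2]; field_simp
        try ring
      rw [this]
      exact IsSquare.mul ⟨_, rfl⟩ hx
    have h0 : (0 : F) ∉ Sc (-A) := by
      rw [mem_Sc, sub_neg_eq_add, mul_zero, zero_add]; exact hAs
    have h5 := pow_card_eq_one_of_stable h0 (div_ne_zero hβ0 hα0) hr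
    rw [hcA] at h5
    have h6 := hfermat (β / α) (div_ne_zero hβ0 hα0)
    have h7 : (β / α) ^ 2 = 1 := by
      have : ((β / α) ^ (2 * k + 2)) ^ 2 = (β / α) ^ (4 * k + 2) * (β / α) ^ 2 := by ring
      rw [h5, h6, one_pow, one_mul] at this
      exact this.symm
    rw [div_pow, div_eq_one_iff_eq (pow_ne_zero 2 hα0)] at h7
    have hAB' : A = B := by linear_combination h7 - hα + hβ
    have hA2 : A = 2 := by
      apply mul_left_cancel₀ h2
      linear_combination hAB + hAB'
    have hα2 : α * α = -2 := by rw [← hα, hA2]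
    have star : ∀ l : F, l ≠ 0 → ¬ IsSquare (16 * (l * l) - 2 * ((l * l + 1) * (l * l + 1))) := by
      intro l hl hsq'
      have h8 : (α / 2) * (l + l⁻¹) ∈ Sc (-A) := by
        rw [mem_Sc, sub_neg_eq_add]
        refine ⟨(α / 2) * (l - l⁻¹), ?_⟩
        rw [hA2]
        field_simp
        linear_combination (4 * l ^ 2) * hα2
      rw [hSA, Finset.mem_compl, hmE] at h8
      apply h8
      have h9 : α / 2 * (l + l⁻¹) * (α / 2 * (l + l⁻¹)) + 4 =
          (16 * (l * l) - 2 * ((l * l + 1) * (l * l + 1))) / ((2 * l) * (2 * l)) := by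
        field_simp
        linear_combination ((l ^ 2 + 1) ^ 2) * hα2
      rw [h9]
      exact hsq'.div ⟨_, rfl⟩
    by_cases h33 : (3 : F) = 0
    · have hq : ∀ v : F, v ≠ 0 → IsSquare v → ¬ IsSquare (v + 1) := by
        rintro v hv ⟨m, hm⟩ hv1
        have hm0 : m ≠ 0 := by rintro rfl; rw [mul_zero] at hm; exact hv hm
        obtain ⟨l, hl⟩ : ∃ l : F, v = (l * l) * (l * l) := by
          by_cases hms : IsSquare m
          · obtain ⟨l, hl⟩ := hms
            exact ⟨l, by rw [hm, hl]⟩
          · obtain ⟨l, hl⟩ := hor m hms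
            exact ⟨l, by rw [← hl, hm]; ring⟩
        have hl0 : l ≠ 0 := by rintro rfl; apply hv; rw [hl]; ring
        apply star l hl0
        have : 16 * (l * l) - 2 * ((l * l + 1) * (l * l + 1)) = v + 1 := by
          rw [hl]; linear_combination (-(l * l * (l * l)) + 4 * (l * l) - 1) * h33
        rw [this]; exact hv1
      obtain ⟨x, hx⟩ : ∃ x : F, x ∉ ({0, 1, -1} : Finset F) := by
        by_contra hall
        push Not at hall
        have h8 : (Finset.univ : Finset F) ⊆ {0, 1, -1} := fun x _ => hall x
        have h9 := Finset.card_le_card h8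
        have h10 : ({0, 1, -1} : Finset F).card ≤ 3 := Finset.card_le_three
        rw [Finset.card_univ] at h9
        omega
      simp only [Finset.mem_insert, Finset.mem_singleton, not_or] at hx
      obtain ⟨hx0, hx1, hx2⟩ := hx
      have hv0 : x * x ≠ 0 := mul_ne_zero hx0 hx0
      have hv1 : x * x - 1 ≠ 0 := by
        intro h
        have : (x - 1) * (x + 1) = 0 := by linear_combination h
        rcases mul_eq_zero.1 this with h | h
        · exact hx1 (sub_eq_zero.1 h)
        · exact hx2 (eq_neg_of_add_eq_zero_left h)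
      have h8 : ¬ IsSquare (x * x + 1) := hq _ hv0 ⟨x, rfl⟩
      have h9 := hor _ h8
      have h10 : ¬ IsSquare (1 - x * x) := by
        intro h11
        apply hq _ _ h11
        · have : 1 - x * x + 1 = -(x * x + 1) := by linear_combination h33
          rw [this]; exact h9
        · intro h; apply hv1; linear_combination -h
      have h11 := hor _ h10
      have h12 : -(1 - x * x) = x * x - 1 := by ring
      rw [h12] at h11
      apply hq _ hv1 h11
      rw [sub_add_cancel]; exact ⟨x, rfl⟩
    · have h8 := star 2 h2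
      have h9 := star 3 h33
      have e1 : 16 * ((2 : F) * 2) - 2 * ((2 * 2 + 1) * (2 * 2 + 1)) = 14 := by ring
      have e2 : 16 * ((3 : F) * 3) - 2 * ((3 * 3 + 1) * (3 * 3 + 1)) = 2 * 2 * (-14) := by ring
      rw [e1] at h8
      rw [e2] at h9
      exact h9 (IsSquare.mul ⟨2, rfl⟩ (hor _ h8))

end sq

end Cfsg.Agent.Dk
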