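import Mathlib
import Cfsg.Agent.Dk.Sq4
import Cfsg.Agent.Dk.SolTwo

/-! The odd product graph on the involutions of `PSL₂(q)`. -/

set_option autoImplicit false

namespace Cfsg.Agent.Dk

open MulAction Matrix Subgroup LinearAlgebra.Projectivization Projectivization
open scoped MatrixGroups Pointwise
open H81 (pt0 pt1 ptz ptc)

section ord

variable {F : Type*} [Field F]

theorem mk_eq_one_of_scalar {A : SL(2, F)} {r : F} (h : A.1 = r • (1 : Matrix (Fin 2) (Fin 2) F)) :
    (QuotientGroup.mk A : PSL(2, F)) = 1 := by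
  rw [QuotientGroup.eq_one_iff, Matrix.SpecialLinearGroup.mem_center_iff]
  refine ⟨r, ?_, ?_⟩
  · have hd := A.2
    rw [h, Matrix.det_smul, Matrix.det_one, mul_one] at hd
    exact hd
  · rw [h]
    ext i j
    fin_cases i <;> fin_cases j <;> simp

theorem sq_eq_trace (A : SL(2, F)) : A.1 * A.1 = A.1.trace • A.1 - 1 := by
  have hd := A.2
  rw [Matrix.det_fin_two] at hd
  rw [Matrix.trace_fin_two]
  ext i j
  fin_cases i <;> fin_cases j <;> simp [Matrix.mul_apply, Fin.sum_univ_two]
  · linear_combination -hd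
  · ring
  · ring
  · linear_combination -hd

/-- unipotent elements have odd order -/
theorem odd_order_uni [Finite F] (h2 : (2 : F) ≠ 0) (A : SL(2, F))
    (h : A.1.trace = 2 ∨ A.1.trace = -2) : Odd (orderOf (QuotientGroup.mk A : PSL(2, F))) := by
  obtain ⟨p, hp, hpF⟩ := exists_char (F := F)
  have : Fact p.Prime := ⟨hp⟩
  have hodd : Odd p := by
    apply hp.odd_of_ne_two
    rintro rfl
    exact h2 CharTwo.two_eq_zero
  have key : ∀ A : SL(2, F), A.1.trace = 2 → Odd (orderOf (QuotientGroup.mk A : PSL(2, F))) := by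
    intro A h
    have h1 := sq_eq_trace A
    rw [h] at h1
    have h3 : (A.1 - 1) ^ 2 = 0 := by
      have : (A.1 - 1) ^ 2 = A.1 * A.1 - (2 : F) • A.1 + 1 := by
        rw [two_smul]; noncomm_ring
      rw [this, h1]; abel
    have h4 : A.1 ^ p = 1 := by
      have h5 : (A.1 - 1) ^ p = 0 := by
        obtain ⟨k, hk⟩ : ∃ k, p = 2 + k := ⟨p - 2, by have := hp.two_le; omega⟩
        rw [hk, pow_add, h3, zero_mul]
      have h6 : A.1 = (A.1 - 1) + 1 := by abel
      rw [h6, add_pow_char_of_commute p (Commute.one_right _), h5, one_pow, zero_add]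
    have h7 : (QuotientGroup.mk A : PSL(2, F)) ^ p = 1 := by
      have h8 : A ^ p = 1 := Subtype.ext h4
      have h9 : (QuotientGroup.mk (A ^ p) : PSL(2, F)) = 1 := by rw [h8]; rfl
      exact h9
    exact Odd.of_dvd_nat hodd (orderOf_dvd_of_pow_eq_one h7)
  rcases h with h | h
  · exact key A h
  · have h1 : (QuotientGroup.mk A : PSL(2, F)) = QuotientGroup.mk (-A) := by
      rw [QuotientGroup.eq]
      have : A⁻¹ * -A = (-1 : SL(2, F)) := by
        rw [inv_mul_eq_iff_eq_mul]; simp
      rw [this]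
      exact Subgroup.mem_center_iff.2 (fun g => by simp)
    rw [h1]
    apply key
    show (-A.1).trace = 2
    rw [Matrix.trace_neg, h, neg_neg]

/-- elements of the split torus have odd order if `q ≡ 3 mod 4` -/
theorem odd_order_split [Fintype F] (h3 : Fintype.card F % 4 = 3) (A : SL(2, F)) {e : F}
    (he : e ≠ 0) (h : A.1.trace * A.1.trace - 4 = e * e) :
    Odd (orderOf (QuotientGroup.mk A : PSL(2, F))) := by
  classical
  obtain ⟨k, hk⟩ : ∃ k, Fintype.card F = 4 * k + 3 := ⟨Fintype.card F / 4, by omega⟩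
  have h2 : (2 : F) ≠ 0 := by
    intro h
    have hm1 : ¬ IsSquare (-1 : F) := by
      rw [FiniteField.isSquare_neg_one_iff]; omega
    apply hm1
    have : (-1 : F) = 1 := by linear_combination -h
    rw [this]; exact ⟨1, by ring⟩
  set s := A.1.trace with hs
  set l := (s + e) / 2 with hl
  set m := (s - e) / 2 with hm
  have hlm : l * m = 1 := by
    rw [hl, hm]; field_simp; linear_combination h
  have hsum : l + m = s := by rw [hl, hm]; field_simp; ring
  have hdiff : l - m = e := by rw [hl, hm]; field_simp; ring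
  have hl0 : l ≠ 0 := left_ne_zero_of_mul_eq_one hlm
  have hsq := sq_eq_trace A
  rw [← hs] at hsq
  have k1 : ∀ n : ℕ, A.1 ^ n * (A.1 - m • (1 : Matrix (Fin 2) (Fin 2) F)) =
      l ^ n • (A.1 - m • (1 : Matrix (Fin 2) (Fin 2) F)) := by
    intro n
    induction n with
    | zero => simp
    | succ n ih =>
      rw [pow_succ', mul_assoc, ih, mul_smul_comm, pow_succ, mul_smul]
      congr 1
      rw [mul_sub, hsq, mul_smul_comm, mul_one, smul_sub, smul_smul, hlm, ← hsum, add_smul, one_smul]
      abel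
  have k2 : ∀ n : ℕ, A.1 ^ n * (A.1 - l • (1 : Matrix (Fin 2) (Fin 2) F)) =
      m ^ n • (A.1 - l • (1 : Matrix (Fin 2) (Fin 2) F)) := by
    intro n
    induction n with
    | zero => simp
    | succ n ih =>
      rw [pow_succ', mul_assoc, ih, mul_smul_comm, pow_succ, mul_smul]
      congr 1
      rw [mul_sub, hsq, mul_smul_comm, mul_one, smul_sub, smul_smul, mul_comm m l, hlm, ← hsum,
        add_smul, one_smul]
      abel
  have hfer : l ^ (2 * (2 * k + 1)) = 1 := by
    have := FiniteField.pow_card_sub_one_eq_one l hl0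
    rw [hk] at this
    have e1 : 4 * k + 3 - 1 = 2 * (2 * k + 1) := by omega
    rwa [e1] at this
  have hml : m ^ (2 * k + 1) = l ^ (2 * k + 1) := by
    have h5 : l ^ (2 * k + 1) * m ^ (2 * k + 1) = 1 := by rw [← mul_pow, hlm, one_pow]
    have h6 : l ^ (2 * k + 1) * l ^ (2 * k + 1) = 1 := by
      rw [← hfer]; ring
    exact mul_left_cancel₀ (pow_ne_zero _ hl0) (h5.trans h6.symm)
  have hfin : A.1 ^ (2 * k + 1) = l ^ (2 * k + 1) • (1 : Matrix (Fin 2) (Fin 2) F) := by
    have h5 := k1 (2 * k + 1)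
    have h6 := k2 (2 * k + 1)
    rw [hml] at h6
    have h7 : A.1 ^ (2 * k + 1) * (e • (1 : Matrix (Fin 2) (Fin 2) F)) =
        l ^ (2 * k + 1) • (e • (1 : Matrix (Fin 2) (Fin 2) F)) := by
      have e1 : e • (1 : Matrix (Fin 2) (Fin 2) F) =
          (A.1 - m • (1 : Matrix (Fin 2) (Fin 2) F)) - (A.1 - l • (1 : Matrix (Fin 2) (Fin 2) F)) := by
        rw [← hdiff, sub_smul]; abel
      rw [e1, mul_sub, h5, h6, ← smul_sub]
    rw [mul_smul_comm, mul_one, smul_comm] at h7
    have h8 := congrArg (fun Z => e⁻¹ • Z) h7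
    simp only [smul_smul, inv_mul_cancel₀ he, one_smul] at h8
    rw [h8]
    rw [← mul_assoc, inv_mul_cancel₀ he, one_mul]
  have h9 : (QuotientGroup.mk A : PSL(2, F)) ^ (2 * k + 1) = 1 := by
    have h10 : (QuotientGroup.mk (A ^ (2 * k + 1)) : PSL(2, F)) = 1 :=
      mk_eq_one_of_scalar (A := A ^ (2 * k + 1)) hfin
    exact h10
  exact Odd.of_dvd_nat ⟨k, rfl⟩ (orderOf_dvd_of_pow_eq_one h9)

/-- involutions have trace zero -/
theorem trace_of_invol {A : SL(2, F)} (h1 : (QuotientGroup.mk A : PSL(2, F)) ≠ 1)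
    (h : (QuotientGroup.mk A : PSL(2, F)) * QuotientGroup.mk A = 1) : A.1.trace = 0 := by
  by_contra ht
  have h3 : (QuotientGroup.mk (A * A) : PSL(2, F)) = 1 := h
  rw [QuotientGroup.eq_one_iff, Matrix.SpecialLinearGroup.mem_center_iff] at h3
  obtain ⟨r, hr, hr2⟩ := h3
  have h4 : A.1 * A.1 = A.1.trace • A.1 - 1 := sq_eq_trace A
  have h5 : (Matrix.scalar (Fin 2)) r = A.1 * A.1 := hr2
  apply h1
  have h6 : A.1 = (A.1.trace⁻¹ * (r + 1)) • (1 : Matrix (Fin 2) (Fin 2) F) := by
    have h7 : A.1.trace • A.1 = (r + 1) • (1 : Matrix (Fin 2) (Fin 2) F) := by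
      have : A.1.trace • A.1 = A.1 * A.1 + 1 := by rw [h4]; abel
      rw [this, ← h5, add_smul, one_smul]
      congr 1
      ext i j
      fin_cases i <;> fin_cases j <;> simp
    rw [mul_smul, ← h7, smul_smul, inv_mul_cancel₀ ht, one_smul]
  exact mk_eq_one_of_scalar h6

theorem exists_third (X Y : SL(2, F)) (hX : X.1.trace = 0) (hY : Y.1.trace = 0) {T a b c : F}
    (hT : (X.1 * Y.1).trace = T)
    (h : a * a + b * b - a * b * T + c * c * (4 - T * T) = 1) :
    ∃ Z : SL(2, F), Z.1.trace = 0 ∧ (X.1 * Z.1).trace = -2 * a + b * T ∧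
      (Y.1 * Z.1).trace = a * T - 2 * b := by
  have hdX := X.2
  have hdY := Y.2
  rw [Matrix.det_fin_two] at hdX hdY
  rw [Matrix.trace_fin_two] at hX hY hT
  rw [Matrix.mul_apply, Matrix.mul_apply, Fin.sum_univ_two, Fin.sum_univ_two] at hT
  set x0 := X.1 0 0
  set x1 := X.1 0 1
  set x2 := X.1 1 0
  set x3 := X.1 1 1
  set y0 := Y.1 0 0
  set y1 := Y.1 0 1
  set y2 := Y.1 1 0
  set y3 := Y.1 1 1
  have hx3 : x3 = -x0 := by linear_combination hX
  have hy3 : y3 = -y0 := by linear_combination hY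
  rw [hx3] at hdX hT
  rw [hy3] at hdY hT
  let z0 := a * x0 + b * y0 + c * (x1 * y2 - x2 * y1)
  let z1 := a * x1 + b * y1 + c * (2 * (x0 * y1 - y0 * x1))
  let z2 := a * x2 + b * y2 + c * (2 * (x2 * y0 - x0 * y2))
  have hdet : (!![z0, z1; z2, -z0] : Matrix (Fin 2) (Fin 2) F).det = 1 := by
    rw [Matrix.det_fin_two_of]
    have hT' : T = 2 * x0 * y0 + x1 * y2 + x2 * y1 := by linear_combination -hT
    have key : z0 * -z0 - z1 * z2 = a * a * (x0 * -x0 - x1 * x2) + b * b * (y0 * -y0 - y1 * y2) -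
        a * b * T + c * c * (4 * ((x0 * -x0 - x1 * x2) * (y0 * -y0 - y1 * y2)) - T * T) := by
      rw [hT']; simp only [z0, z1, z2]; ring
    rw [key, hdX, hdY]
    linear_combination h
  have hX00 : X.1 0 0 = x0 := rfl
  have hX01 : X.1 0 1 = x1 := rfl
  have hX10 : X.1 1 0 = x2 := rfl
  have hX11 : X.1 1 1 = -x0 := hx3
  have hY00 : Y.1 0 0 = y0 := rfl
  have hY01 : Y.1 0 1 = y1 := rfl
  have hY10 : Y.1 1 0 = y2 := rfl
  have hY11 : Y.1 1 1 = -y0 := hy3
  refine ⟨⟨_, hdet⟩, ?_, ?_, ?_⟩
  · show (!![z0, z1; z2, -z0] : Matrix (Fin 2) (Fin 2) F).trace = 0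
    rw [Matrix.trace_fin_two]; simp
  · show (X.1 * !![z0, z1; z2, -z0]).trace = _
    rw [Matrix.trace_fin_two, Matrix.mul_apply, Matrix.mul_apply, Fin.sum_univ_two,
      Fin.sum_univ_two, hX00, hX01, hX10, hX11]
    show x0 * z0 + x1 * z2 + (x2 * z1 + -x0 * -z0) = _
    simp only [z0, z1, z2]
    linear_combination (-2 * a) * hdX + b * hT
  · show (Y.1 * !![z0, z1; z2, -z0]).trace = _
    rw [Matrix.trace_fin_two, Matrix.mul_apply, Matrix.mul_apply, Fin.sum_univ_two,
      Fin.sum_univ_two, hY00, hY01, hY10, hY11]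
    show y0 * z0 + y1 * z2 + (y2 * z1 + -y0 * -z0) = _
    simp only [z0, z1, z2]
    linear_combination (-2 * b) * hdY + a * hT

theorem invol_of_trace {A : SL(2, F)} (h : A.1.trace = 0) :
    (QuotientGroup.mk A : PSL(2, F)) * QuotientGroup.mk A = 1 := by
  have h1 := sq_eq_trace A
  rw [h, zero_smul, zero_sub] at h1
  have h2 : (QuotientGroup.mk (A * A) : PSL(2, F)) = 1 :=
    mk_eq_one_of_scalar (A := A * A) (r := -1) (by
      show A.1 * A.1 = _
      rw [h1, neg_one_smul])
  exact h2

theorem ne_one_of_trace (h2 : (2 : F) ≠ 0) {A : SL(2, F)} (h : A.1.trace = 0) :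
    (QuotientGroup.mk A : PSL(2, F)) ≠ 1 := by
  intro h1
  rw [QuotientGroup.eq_one_iff, Matrix.SpecialLinearGroup.mem_center_iff] at h1
  obtain ⟨r, hr, hr2⟩ := h1
  rw [← hr2, Matrix.trace_fin_two] at h
  simp only [Matrix.scalar_apply, Matrix.diagonal_apply_eq] at h
  have hr0 : r = 0 := by
    have : 2 * r = 0 := by linear_combination h
    exact (mul_eq_zero.1 this).resolve_left h2
  rw [hr0] at hr
  simp at hr

/-- common neighbours in odd characteristic -/
theorem exists_nbr_odd [Fintype F] (h2 : (2 : F) ≠ 0) (h5 : 5 ≤ Fintype.card F) {x y : PSL(2, F)}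
    (hx : x ≠ 1) (hxx : x * x = 1) (hy : y ≠ 1) (hyy : y * y = 1)
    (hxy : ¬ Odd (orderOf (x * y))) : ∃ z : PSL(2, F), z ≠ 1 ∧ z * z = 1 ∧
      Odd (orderOf (x * z)) ∧ Odd (orderOf (y * z)) := by
  classical
  induction x using QuotientGroup.induction_on with
  | H X =>
    induction y using QuotientGroup.induction_on with
    | H Y =>
      have hX := trace_of_invol hx hxx
      have hY := trace_of_invol hy hyy
      obtain ⟨T, hT⟩ : ∃ T, (X.1 * Y.1).trace = T := ⟨_, rfl⟩
      have hT2 : T ≠ 2 := by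
        intro h
        exact hxy (odd_order_uni h2 (X * Y) (Or.inl (hT.trans h)))
      have hTm2 : T ≠ -2 := by
        intro h
        exact hxy (odd_order_uni h2 (X * Y) (Or.inr (hT.trans h)))
      have hB0 : (2 : F) - T ≠ 0 := sub_ne_zero.2 (Ne.symm hT2)
      have hA0 : (2 : F) + T ≠ 0 := by
        intro h; apply hTm2; linear_combination h
      by_cases hm1 : IsSquare (-1 : F)
      · -- q ≡ 1 mod 4
        obtain ⟨i, hi⟩ := hm1
        obtain ⟨Z, hZ, hXZ, hYZ⟩ := exists_third X Y hX hY (a := -2 / (2 - T)) (b := -2 / (2 - T))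
          (c := i / (2 - T)) hT (by
            field_simp
            linear_combination (-(4 - T * T)) * hi)
        refine ⟨QuotientGroup.mk Z, ne_one_of_trace h2 hZ, invol_of_trace hZ, ?_, ?_⟩
        · refine odd_order_uni h2 (X * Z) (Or.inl ?_)
          show (X.1 * Z.1).trace = 2
          rw [hXZ]; field_simp; ring
        · refine odd_order_uni h2 (Y * Z) (Or.inl ?_)
          show (Y.1 * Z.1).trace = 2
          rw [hYZ]; field_simp; ring
      · have h3 : Fintype.card F % 4 = 3 := by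
          rw [FiniteField.isSquare_neg_one_iff] at hm1
          push Not at hm1
          exact hm1
        have hor : ∀ x : F, ¬ IsSquare x → IsSquare (-x) := by
          intro x hx
          have := sq_mul hm1 hx
          rwa [neg_one_mul] at this
        have hTs : ¬ IsSquare (T * T - 4) := by
          rintro ⟨e, he⟩
          have he0 : e ≠ 0 := by
            rintro rfl
            have : (2 - T) * (2 + T) = 0 := by linear_combination -he
            exact mul_ne_zero hB0 hA0 this
          exact hxy (odd_order_split h3 (X * Y) he0 (by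
            show (X.1 * Y.1).trace * (X.1 * Y.1).trace - 4 = _
            rw [hT]; exact he))
        have hAB := hor _ hTs
        obtain ⟨w, hw⟩ := hAB
        have hABs : IsSquare ((2 + T) * (2 - T)) := ⟨w, by linear_combination hw⟩
        have hw0 : w ≠ 0 := by
          rintro rfl
          have : (2 + T) * (2 - T) = 0 := by linear_combination hw
          exact mul_ne_zero hA0 hB0 this
        have hw' : w * w = (2 + T) * (2 - T) := by linear_combination -hw
        obtain ⟨e, he0, ⟨s, hs⟩, hor'⟩ := exists_sq h3 (by omega) (A := 2 + T) (B := 2 - T)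
          (by ring) hABs (mul_ne_zero hA0 hB0)
        rcases hor' with ⟨g, hg⟩ | ⟨g, hg⟩
        · obtain ⟨Z, hZ, hXZ, hYZ⟩ := exists_third X Y hX hY (a := -s / (2 - T))
            (b := -s / (2 - T)) (c := g / ((2 - T) * w)) hT (by
              have h4 : (4 - T * T) = w * w := by rw [hw']; ring
              rw [h4]
              field_simp
              linear_combination -hg - (2 - T) * hs)
          refine ⟨QuotientGroup.mk Z, ne_one_of_trace h2 hZ, invol_of_trace hZ, ?_, ?_⟩
          · refine odd_order_split h3 (X * Z) he0 ?_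
            show (X.1 * Z.1).trace * (X.1 * Z.1).trace - 4 = _
            have : (X.1 * Z.1).trace = s := by rw [hXZ]; field_simp; ring
            rw [this]; linear_combination -hs
          · refine odd_order_split h3 (Y * Z) he0 ?_
            show (Y.1 * Z.1).trace * (Y.1 * Z.1).trace - 4 = _
            have : (Y.1 * Z.1).trace = s := by rw [hYZ]; field_simp; ring
            rw [this]; linear_combination -hs
        · obtain ⟨Z, hZ, hXZ, hYZ⟩ := exists_third X Y hX hY (a := -s / (2 + T))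
            (b := s / (2 + T)) (c := g / ((2 + T) * w)) hT (by
              have h4 : (4 - T * T) = w * w := by rw [hw']; ring
              rw [h4]
              field_simp
              linear_combination -hg - (2 + T) * hs)
          refine ⟨QuotientGroup.mk Z, ne_one_of_trace h2 hZ, invol_of_trace hZ, ?_, ?_⟩
          · refine odd_order_split h3 (X * Z) he0 ?_
            show (X.1 * Z.1).trace * (X.1 * Z.1).trace - 4 = _
            have : (X.1 * Z.1).trace = s := by rw [hXZ]; field_simp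
            rw [this]; linear_combination -hs
          · refine odd_order_split h3 (Y * Z) he0 ?_
            show (Y.1 * Z.1).trace * (Y.1 * Z.1).trace - 4 = _
            have : (Y.1 * Z.1).trace = -s := by rw [hYZ]; field_simp; ring
            rw [this]; linear_combination -hs

end ord

section even

variable {F : Type*} [Field F] [Finite F]

attribute [local instance 10] pact sact

/-- common neighbours in characteristic two -/
theorem exists_nbr_even [CharP F 2] (h3 : 2 < Nat.card F) {x y : PSL(2, F)}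
    (hx : x ≠ 1) (hxx : x * x = 1) (hy : y ≠ 1) (hyy : y * y = 1) :
    ∃ z : PSL(2, F), z ≠ 1 ∧ z * z = 1 ∧ Odd (orderOf (x * z)) ∧ Odd (orderOf (y * z)) := by
  have hfin : Finite PSL(2, F) := finite_psl
  let K := AlgebraicClosure F
  have : CharP K 2 := charP_of_injective_algebraMap (algebraMap F K).injective 2
  have : Fact (Nat.Prime 2) := ⟨Nat.prime_two⟩
  have M := mobS (p := 2) (F := F) (K := K)
  have hFull := fullS (p := 2) (F := F) (K := K)
  obtain ⟨a, ha⟩ := inv_mem_U (K := K) hx hxx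
  obtain ⟨b, hb⟩ := inv_mem_U (K := K) hy hyy
  obtain ⟨c, hc, hca, hcb⟩ : ∃ c ∈ orbit PSL(2, F) (pt0 K), c ≠ a ∧ c ≠ b := by
    by_contra hcon
    push Not at hcon
    have h1 : orbit PSL(2, F) (pt0 K) ⊆ {a, b} := by
      intro c hc
      by_cases h : c = a
      · left; exact h
      · right; exact hcon c hc h
    have h2 := Set.ncard_le_ncard h1 (Set.toFinite _)
    have h4 := Set.ncard_insert_le a {b}
    rw [Set.ncard_singleton] at h4
    rw [orbitS_pt0, ← Nat.card_coe_set_eq, card_Rat] at h2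
    omega
  have hcU : M.U c ≠ ⊥ := U_ne_bot_of_mem hFull.1 hc
  obtain ⟨z, hz⟩ := (M.U c).ne_bot_iff_exists_ne_one.1 hcU
  have hz1 : (z : PSL(2, F)) ≠ 1 := fun h => hz (Subtype.ext h)
  have hzz : (z : PSL(2, F)) * z = 1 := by
    have := M.pow_of_mem_U z.2
    rwa [sq] at this
  have key : ∀ (x : PSL(2, F)) (a : ℙ K (Fin 2 → K)), x ≠ 1 → x * x = 1 → x ∈ M.U a → c ≠ a →
      Odd (orderOf (x * z)) := by
    intro x a hx hxx ha hca
    by_cases hg1 : x * (z : PSL(2, F)) = 1
    · rw [hg1, orderOf_one]; exact odd_one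
    obtain ⟨w, hw⟩ := M.exists_fix hg1
    rcases M.fix_or hg1 hw with h | ⟨w', hw', hw2⟩
    · exfalso
      have h1 := M.pow_of_mem_U (M.mem_U.2 (Or.inr h))
      rw [sq] at h1
      have h5 : (z : PSL(2, F)) * x = x * z := by
        calc (z : PSL(2, F)) * x = (x * x) * (z * x) * (z * z) := by
              rw [hxx, hzz, one_mul, mul_one]
          _ = x * ((x * z) * (x * z)) * z := by group
          _ = x * z := by rw [h1, mul_one]
      have h6 : (z : PSL(2, F)) • a = a := by
        have h7 : x • ((z : PSL(2, F)) • a) = (z : PSL(2, F)) • a := by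
          rw [← mul_smul, ← h5, mul_smul, M.smul_of_mem_U ha]
        exact M.eq_of_mem_U ha hx h7
      exact hca (M.eq_of_mem_U z.2 hz1 h6).symm
    · have hT : x * z ∈ TS PSL(2, F) w w' := by
        refine ⟨hw, ?_⟩
        have : w' ∈ fixedBy (ℙ K (Fin 2 → K)) (x * (z : PSL(2, F))) := by rw [hw2]; simp
        exact this
      have h8 := M.not_dvd_TS hw'.symm
      have h9 := Subgroup.orderOf_dvd_natCard _ hT
      rw [← Nat.not_even_iff_odd, even_iff_two_dvd]
      exact fun h => h8 (h.trans h9)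
  exact ⟨z, hz1, hzz, key x a hx hxx ha hca, key y b hy hyy hb hcb⟩

/-- a commuting pair of involutions -/
theorem exists_comm_pair (h4 : 4 ≤ Nat.card F) : ∃ x y : PSL(2, F), x ≠ 1 ∧ x * x = 1 ∧ y ≠ 1 ∧
    y * y = 1 ∧ x ≠ y ∧ x * y = y * x := by
  have hfin : Finite PSL(2, F) := finite_psl
  obtain ⟨p, hp, hpF⟩ := exists_char (F := F)
  have : Fact p.Prime := ⟨hp⟩
  let K := AlgebraicClosure F
  have : CharP K p := charP_of_injective_algebraMap (algebraMap F K).injective p
  have M := mobS (p := p) (F := F) (K := K)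
  by_cases h2 : (2 : F) = 0
  · have hF2 : CharP F 2 := CharTwo.of_one_ne_zero_of_two_eq_zero one_ne_zero h2
    obtain ⟨a, ha⟩ : ∃ a : F, a ≠ 0 ∧ a ≠ 1 := by
      have := Fintype.ofFinite F
      classical
      by_contra hcon
      push Not at hcon
      have h5 : (Finset.univ : Finset F) ⊆ {0, 1} := by
        intro x _
        rw [Finset.mem_insert, Finset.mem_singleton]
        by_cases h : x = 0
        · left; exact h
        · right; exact hcon x h
      have h6 := Finset.card_le_card h5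
      have h7 := Finset.card_le_two (a := (0 : F)) (b := 1)
      rw [Finset.card_univ, ← Nat.card_eq_fintype_card] at h6
      omega
    have hxx : ∀ b : F, XS b * XS b = 1 := by
      intro b
      rw [← XS_add, CharTwo.add_self_eq_zero, XS_zero]
    refine ⟨XS 1, XS a, ?_, hxx 1, ?_, hxx a, ?_, ?_⟩
    · intro h; exact one_ne_zero (XS_inj (h.trans XS_zero.symm))
    · intro h; exact ha.1 (XS_inj (h.trans XS_zero.symm))
    · intro h; exact ha.2 (XS_inj h).symm
    · rw [← XS_add, ← XS_add, add_comm]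
  · -- an involution and a swap of its fixed points
    obtain ⟨z, w, hzw, -, s, hs1, hs2⟩ := exists_irr_psl (F := F) K (p := p)
    have hss := M.swap_sq hzw hs1 hs2
    have hs0 : s ≠ 1 := by rintro rfl; rw [one_smul] at hs1; exact hzw hs1
    obtain ⟨x, y, hxy, hT⟩ := inv_pair (p := p) K h2 hs0 hss
    have hb : TS PSL(2, F) x y ≠ ⊥ := by
      intro h1; rw [h1, Subgroup.mem_bot] at hT; exact hs0 hT
    obtain ⟨⟨u, hu1, hu2⟩, -⟩ := card_TS_pair (p := p) h2 hxy hb
    have hu0 : u ≠ 1 := by rintro rfl; rw [one_smul] at hu1; exact hxy hu1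
    refine ⟨s, u, hs0, hss, hu0, M.swap_sq hxy hu1 hu2, ?_, M.swap_comm hxy hu1 hu2 hT hss⟩
    rintro rfl
    exact hxy (hT.1.symm.trans hu1)

end even

section graph

theorem diam_two {V : Type*} (G : SimpleGraph V)
    (h : ∀ u v, u ≠ v → G.Adj u v ∨ ∃ w, G.Adj u w ∧ G.Adj w v) {u0 v0 : V} (hne : u0 ≠ v0)
    (hna : ¬ G.Adj u0 v0) : G.Connected ∧ G.diam = 2 := by
  have : Nonempty V := ⟨u0⟩
  have hwalk : ∀ u v : V, ∃ p : G.Walk u v, p.length ≤ 2 := by
    intro u v
    by_cases huv : u = v
    · subst huv; exact ⟨SimpleGraph.Walk.nil, by simp⟩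
    · rcases h u v huv with h1 | ⟨w, h1, h2⟩
      · exact ⟨SimpleGraph.Walk.cons h1 SimpleGraph.Walk.nil, by simp⟩
      · exact ⟨SimpleGraph.Walk.cons h1 (SimpleGraph.Walk.cons h2 SimpleGraph.Walk.nil), by simp⟩
  have hconn : G.Connected := ⟨fun u v => ⟨(hwalk u v).choose⟩⟩
  refine ⟨hconn, ?_⟩
  have hed : G.ediam ≤ 2 := by
    apply SimpleGraph.ediam_le_of_edist_le
    intro u v
    obtain ⟨p, hp⟩ := hwalk u v
    exact (SimpleGraph.Walk.edist_le p).trans (by exact_mod_cast hp)
  have hne_top : G.ediam ≠ ⊤ := by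
    intro h1
    rw [h1] at hed
    exact absurd hed (by simp)
  apply le_antisymm
  · obtain ⟨u, v, huv⟩ := G.exists_dist_eq_diam
    rw [← huv]
    obtain ⟨p, hp⟩ := hwalk u v
    exact (SimpleGraph.dist_le p).trans hp
  · have h1 := hconn.one_lt_dist_of_ne_of_not_adj hne hna
    have h2 := SimpleGraph.dist_le_diam hne_top (u := u0) (v := v0)
    omega

end graph

/-- the odd product graph -/
theorem odd_graph {F : Type*} [Field F] [Fintype F] (hF : 4 ≤ Fintype.card F)
    (t : PSL(2, F)) (ht : orderOf t = 2) :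
    (SimpleGraph.fromRel fun x y : {x : PSL(2, F) // IsConj t x} =>
        Odd (orderOf (x.1 * y.1))).Connected ∧
      (SimpleGraph.fromRel fun x y : {x : PSL(2, F) // IsConj t x} =>
        Odd (orderOf (x.1 * y.1))).diam = 2 := by
  have hfin : Finite PSL(2, F) := finite_psl
  have hcard : Nat.card F = Fintype.card F := Nat.card_eq_fintype_card
  have ht1 : t ≠ 1 := by rintro rfl; rw [orderOf_one] at ht; omega
  have htt : t * t = 1 := by
    have := pow_orderOf_eq_one t
    rwa [ht, sq] at this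
  have hinv : ∀ x : PSL(2, F), IsConj t x → x ≠ 1 ∧ x * x = 1 := by
    intro x hx
    obtain ⟨g, hg⟩ := isConj_iff.1 hx
    rw [← hg]
    refine ⟨by rwa [Ne, conj_eq_one_iff], ?_⟩
    calc g * t * g⁻¹ * (g * t * g⁻¹) = g * (t * t) * g⁻¹ := by group
      _ = 1 := by rw [htt]; group
  have hcls : ∀ x : PSL(2, F), x ≠ 1 → x * x = 1 → IsConj t x := by
    intro x hx hxx
    rw [isConj_iff]
    by_cases h2 : (2 : F) = 0
    · have hF2 : CharP F 2 := CharTwo.of_one_ne_zero_of_two_eq_zero one_ne_zero h2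
      exact inv_conj_two t x ht1 htt hx hxx
    · exact inv_conj_odd h2 t x ht1 htt hx hxx
  have hnbr : ∀ x y : PSL(2, F), x ≠ 1 → x * x = 1 → y ≠ 1 → y * y = 1 →
      ¬ Odd (orderOf (x * y)) → ∃ z : PSL(2, F), z ≠ 1 ∧ z * z = 1 ∧ Odd (orderOf (x * z)) ∧
        Odd (orderOf (y * z)) := by
    intro x y hx hxx hy hyy hxy
    by_cases h2 : (2 : F) = 0
    · have hF2 : CharP F 2 := CharTwo.of_one_ne_zero_of_two_eq_zero one_ne_zero h2
      exact exists_nbr_even (by omega) hx hxx hy hyy
    · have h5 : 5 ≤ Fintype.card F := by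
        have h6 : Fintype.card F ≠ 4 := by
          intro h
          apply h2
          obtain ⟨p, hp, hpF⟩ := exists_char (F := F)
          have h7 := char_dvd_card (F := F) hp
          rw [hcard, h] at h7
          have h8 : p = 2 := (Nat.prime_dvd_prime_iff_eq hp Nat.prime_two).1
            (hp.dvd_of_dvd_pow (show p ∣ 2 ^ 2 from h7))
          subst h8
          exact CharTwo.two_eq_zero
        omega
      exact exists_nbr_odd h2 h5 hx hxx hy hyy hxy
  have hcomm : ∀ a b : PSL(2, F), orderOf (a * b) = orderOf (b * a) := by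
    intro a b
    have : b * a = a⁻¹ * (a * b) * a := by group
    rw [this]
    have h1 := orderOf_injective (MulAut.conj a⁻¹).toMonoidHom (MulAut.conj a⁻¹).injective (a * b)
    rw [← h1]
    simp [MulAut.conj_apply]
  obtain ⟨x0, y0, hx0, hxx0, hy0, hyy0, hne0, hc0⟩ := exists_comm_pair (F := F) (by omega)
  refine diam_two _ ?_ (u0 := ⟨x0, hcls x0 hx0 hxx0⟩) (v0 := ⟨y0, hcls y0 hy0 hyy0⟩) ?_ ?_
  · rintro ⟨x, hx⟩ ⟨y, hy⟩ hxy
    by_cases hadj : Odd (orderOf (x * y))
    · left
      exact ⟨hxy, Or.inl hadj⟩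
    · right
      obtain ⟨z, hz, hzz, h1, h2⟩ := hnbr x y (hinv x hx).1 (hinv x hx).2 (hinv y hy).1
        (hinv y hy).2 hadj
      refine ⟨⟨z, hcls z hz hzz⟩, ⟨?_, Or.inl h1⟩, ⟨?_, Or.inr h2⟩⟩
      · intro h
        have h3 : x = z := congrArg Subtype.val h
        rw [← h3, hcomm] at h2
        exact hadj h2
      · intro h
        have h3 : z = y := congrArg Subtype.val h
        rw [h3] at h1
        exact hadj h1
  · intro h; exact hne0 (congrArg Subtype.val h)
  · rintro ⟨-, h⟩
    have h1 : (x0 * y0) * (x0 * y0) = 1 := by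
      calc (x0 * y0) * (x0 * y0) = x0 * (y0 * x0) * y0 := by group
        _ = (x0 * x0) * (y0 * y0) := by rw [← hc0]; group
        _ = 1 := by rw [hxx0, hyy0, one_mul]
    have h2 : x0 * y0 ≠ 1 := by
      intro h3
      apply hne0
      calc x0 = x0 * (y0 * y0) := by rw [hyy0, mul_one]
        _ = (x0 * y0) * y0 := by group
        _ = y0 := by rw [h3, one_mul]
    have h3 : orderOf (x0 * y0) = 2 := orderOf_eq_prime (by rw [sq, h1]) h2
    have h4 : orderOf (y0 * x0) = 2 := by rw [← hcomm]; exact h3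
    rcases h with h | h
    · have h5 : Odd (orderOf (x0 * y0)) := h
      rw [h3] at h5; exact absurd h5 (by decide)
    · have h5 : Odd (orderOf (y0 * x0)) := h
      rw [h4] at h5; exact absurd h5 (by decide)

end Cfsg.Agent.Dk
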