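import Mathlib
import Cfsg.Agent.Dk.SolTwo
import Cfsg.Agent.Dk.ListOdd
import Cfsg.Agent.Dk.InvGraph
import Cfsg.Agent.S0251

/-! Solubilizers in `PSL₂(3^p)`. -/

set_option autoImplicit false

namespace Cfsg.Agent.Dk

open MulAction Matrix Subgroup LinearAlgebra.Projectivization Projectivization
open scoped MatrixGroups Pointwise
open H81 (pt0 pt1 ptz ptc)

section gen

variable {G : Type*} [Group G]

/-- a `(2,3,3)`-group is solvable -/
theorem sv_233 {x y : G} (hx : x * x = 1) (hy : y ^ 3 = 1) (hxy : (x * y) ^ 3 = 1) : Sv x y := by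
  have hxi : x⁻¹ = x := inv_eq_of_mul_eq_one_left hx
  have hy3 : y * y * y = 1 := by rw [← hy, pow_succ, pow_succ, pow_one]
  have hyi : y⁻¹ = y * y := inv_eq_of_mul_eq_one_left hy3
  have hxy3 : x * y * (x * y) * (x * y) = 1 := by rw [← hxy, pow_succ, pow_succ, pow_one]
  set v : G := y * x * y⁻¹ with hv
  -- `x v = y⁻¹ x y = v x`
  have hxyx : x * y * x = y⁻¹ * x * y⁻¹ := by
    have : x * y * x * (y * x * y) = 1 := by rw [← hxy3]; group
    calc x * y * x = (x * y * x * (y * x * y)) * (y⁻¹ * x⁻¹ * y⁻¹) := by group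
      _ = _ := by rw [this, hxi, one_mul]
  have h1 : x * v = y⁻¹ * x * y := by
    calc x * v = (x * y * x) * y⁻¹ := by rw [hv]; group
      _ = y⁻¹ * x * (y⁻¹ * y⁻¹) := by rw [hxyx]; group
      _ = y⁻¹ * x * y := by rw [hyi]; congr 1; rw [← hyi]; nth_rw 1 [hyi]; rw [mul_assoc, mul_inv_cancel, mul_one]
  have h2 : v * x = y⁻¹ * x * y := by
    have e1 : x * y⁻¹ * x = y * x * y := by
      have : (x * y * x)⁻¹ = (y⁻¹ * x * y⁻¹)⁻¹ := by rw [hxyx]
      calc x * y⁻¹ * x = (x⁻¹ * y * x⁻¹)⁻¹ := by group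
        _ = (x * y * x)⁻¹ := by rw [hxi]
        _ = (y⁻¹ * x * y⁻¹)⁻¹ := this
        _ = y * x⁻¹ * y := by group
        _ = _ := by rw [hxi]
    calc v * x = y * (x * y⁻¹ * x) := by rw [hv]; group
      _ = (y * y) * x * y := by rw [e1]; group
      _ = _ := by rw [hyi]
  let V : Subgroup G := Subgroup.closure {x, v}
  have hxV : x ∈ V := Subgroup.subset_closure (by simp)
  have hvV : v ∈ V := Subgroup.subset_closure (by simp)
  have hcomm : ∀ a ∈ V, ∀ b ∈ V, a * b = b * a := by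
    have hle : V ≤ Subgroup.centralizer (V : Set G) := by
      show Subgroup.closure _ ≤ _
      rw [Subgroup.closure_le]
      have key : ∀ a ∈ ({x, v} : Set G), ∀ b ∈ ({x, v} : Set G), a * b = b * a := by
        rintro _ (rfl | rfl) _ (rfl | rfl)
        · rfl
        · rw [h1, h2]
        · rw [h1, h2]
        · rfl
      intro a ha
      have h3 : V ≤ Subgroup.centralizer {a} := by
        show Subgroup.closure _ ≤ _
        rw [Subgroup.closure_le]
        intro b hb
        rw [SetLike.mem_coe, Subgroup.mem_centralizer_singleton_iff]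
        exact key b hb a ha
      rw [SetLike.mem_coe, Subgroup.mem_centralizer_iff]
      intro b hb
      exact Subgroup.mem_centralizer_singleton_iff.1 (h3 hb)
    intro a ha b hb
    exact (Subgroup.mem_centralizer_iff.1 (hle hb) a ha)
  have hyN : y ∈ normalizer (V : Set G) := by
    have k1 : V ≤ V.comap (MulAut.conj y).toMonoidHom := by
      show Subgroup.closure _ ≤ _
      rw [Subgroup.closure_le]
      rintro a (ha | ha)
      · rw [ha]; exact hvV
      · rw [ha]
        show y * v * y⁻¹ ∈ V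
        have : y * v * y⁻¹ = x * v := by
          rw [h1, hv]
          calc y * (y * x * y⁻¹) * y⁻¹ = (y * y) * x * (y * y)⁻¹ := by group
            _ = _ := by rw [← hyi]; group
        rw [this]; exact mul_mem hxV hvV
    have k2 : V ≤ V.comap (MulAut.conj y⁻¹).toMonoidHom := by
      show Subgroup.closure _ ≤ _
      rw [Subgroup.closure_le]
      rintro a (ha | ha)
      · rw [ha]
        show y⁻¹ * x * y⁻¹⁻¹ ∈ V
        rw [inv_inv, ← h1]; exact mul_mem hxV hvV
      · rw [ha]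
        show y⁻¹ * v * y⁻¹⁻¹ ∈ V
        have : y⁻¹ * v * y⁻¹⁻¹ = x := by rw [hv]; group
        rw [this]; exact hxV
    rw [Subgroup.mem_normalizer_iff]
    intro h
    constructor
    · intro hh; exact k1 hh
    · intro hh
      have h3 : y⁻¹ * (y * h * y⁻¹) * y⁻¹⁻¹ ∈ V := k2 hh
      have h4 : y⁻¹ * (y * h * y⁻¹) * y⁻¹⁻¹ = h := by group
      rwa [h4] at h3
  have hxN : x ∈ normalizer (V : Set G) := Subgroup.le_normalizer hxV
  let N : Subgroup G := normalizer (V : Set G)
  let W : Subgroup N := V.subgroupOf N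
  have hWn : W.Normal := Subgroup.normal_in_normalizer
  have hle : Subgroup.closure ({x, y} : Set G) ≤ N := by
    rw [Subgroup.closure_le]
    rintro _ (rfl | rfl)
    · exact hxN
    · exact hyN
  let f : Subgroup.closure ({x, y} : Set G) →* N ⧸ W :=
    (QuotientGroup.mk' W).comp (Subgroup.inclusion hle)
  have hker : Group.IsSolvable f.ker := by
    apply Group.isSolvable_of_comm
    rintro ⟨a, ha⟩ ⟨b, hb⟩
    apply Subtype.ext
    apply Subtype.ext
    have h3 : ∀ c : Subgroup.closure ({x, y} : Set G), c ∈ f.ker → (c : G) ∈ V := by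
      intro c hc
      rw [MonoidHom.mem_ker] at hc
      have h4 : (QuotientGroup.mk (Subgroup.inclusion hle c) : N ⧸ W) = 1 := hc
      rw [QuotientGroup.eq_one_iff] at h4
      exact h4
    exact hcomm _ (h3 a ha) _ (h3 b hb)
  have hrange : Group.IsSolvable f.range := by
    have h3 : f.range ≤ Subgroup.zpowers (QuotientGroup.mk (⟨y, hyN⟩ : N) : N ⧸ W) := by
      rintro _ ⟨⟨c, hc⟩, rfl⟩
      have : ∀ c (hc : c ∈ Subgroup.closure ({x, y} : Set G)),
          f ⟨c, hc⟩ ∈ Subgroup.zpowers (QuotientGroup.mk (⟨y, hyN⟩ : N) : N ⧸ W) := by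
        intro c hc
        induction hc using Subgroup.closure_induction with
        | mem c hc =>
          rcases hc with rfl | rfl
          · have : f ⟨c, Subgroup.subset_closure (by simp)⟩ = 1 := by
              show (QuotientGroup.mk (⟨c, hxN⟩ : N) : N ⧸ W) = 1
              rw [QuotientGroup.eq_one_iff]
              exact hxV
            rw [this]; exact one_mem _
          · exact Subgroup.mem_zpowers _
        | one =>
          have : f ⟨1, one_mem _⟩ = 1 := map_one f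
          rw [this]; exact one_mem _
        | mul a b ha hb iha ihb =>
          have : f ⟨a * b, mul_mem ha hb⟩ = f ⟨a, ha⟩ * f ⟨b, hb⟩ := map_mul f ⟨a, ha⟩ ⟨b, hb⟩
          rw [this]; exact mul_mem iha ihb
        | inv a ha iha =>
          have : f ⟨a⁻¹, inv_mem ha⟩ = (f ⟨a, ha⟩)⁻¹ := map_inv f ⟨a, ha⟩
          rw [this]; exact inv_mem iha
      exact this c hc
    have h4 : Group.IsSolvable (Subgroup.zpowers (QuotientGroup.mk (⟨y, hyN⟩ : N) : N ⧸ W)) := by
      apply Group.isSolvable_of_comm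
      rintro ⟨_, ⟨a, rfl⟩⟩ ⟨_, ⟨b, rfl⟩⟩
      apply Subtype.ext
      show _ ^ a * _ ^ b = _ ^ b * _ ^ a
      rw [← _root_.zpow_add, ← _root_.zpow_add, add_comm]
    exact solvable_of_solvable_injective (f := Subgroup.inclusion h3)
      (Subgroup.inclusion_injective h3)
  exact solvable_of_ker_le_range f.ker.subtype f.rangeRestrict (by simp)

end gen

section a4

theorem A4_invol : ∀ x y : alternatingGroup (Fin 4), x ≠ 1 → x * x = 1 →
    y * y = 1 ∨ (x * y) * (x * y) = 1 ∨ (y ^ 3 = 1 ∧ (x * y) ^ 3 = 1) := by decide +kernel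

theorem A4_three : ∀ x y : alternatingGroup (Fin 4), x ≠ 1 → x ^ 3 = 1 →
    y = 1 ∨ y = x ∨ y = x⁻¹ ∨ (y ≠ 1 ∧ y * y = 1 ∧ (x * y) ^ 3 = 1) ∨
    (x * y ≠ 1 ∧ (x * y) * (x * y) = 1 ∧ (x * (x * y)) ^ 3 = 1) ∨
    (x⁻¹ * y ≠ 1 ∧ (x⁻¹ * y) * (x⁻¹ * y) = 1 ∧ (x * (x⁻¹ * y)) ^ 3 = 1) := by decide +kernel

theorem A4_order : ∀ x : alternatingGroup (Fin 4), x * x = 1 ∨ x ^ 3 = 1 := by decide +kernel

end a4

section psl

variable {F K : Type*} [Field F] [Field K] [Algebra F K] [IsAlgClosed K] [Finite F]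

attribute [local instance 10] pact sact

theorem solvable_three [CharP K 3] {n : ℕ} (hn : n.Prime) (hodd : Odd n)
    (hF : Nat.card F = 3 ^ n) {L : Subgroup PSL(2, F)} (hL : L ≠ ⊥) (hs : Group.IsSolvable L) :
    (∃ z : ℙ K (Fin 2 → K), ∀ l ∈ L, l • z = z) ∨
      (∃ z w : ℙ K (Fin 2 → K), z ≠ w ∧ L ≤ DS PSL(2, F) z w) ∨
      Nonempty (L ≃* alternatingGroup (Fin 4)) := by
  have hfin : Finite PSL(2, F) := finite_psl
  have : Fact (Nat.Prime 3) := ⟨Nat.prime_three⟩
  have hn2 := hn.two_le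
  have h4 : 4 ≤ Nat.card F := by
    rw [hF]
    calc 4 ≤ 3 ^ 2 := by norm_num
      _ ≤ 3 ^ n := Nat.pow_le_pow_right (by norm_num) hn2
  have ho : Odd (Nat.card F) := by rw [hF]; exact Odd.pow (by decide)
  rcases (ambS (F := F) (K := K)).list (p := 3) hL with h | h | h | h | h | h
  · exact Or.inl h
  · right; left
    obtain ⟨z, -, hz⟩ := h
    obtain ⟨w, hw1, hw2, -⟩ := orbit_pair hz
    refine ⟨z, w, hw1.symm, ?_⟩
    intro l hl
    have horb : ∀ v ∈ orbit L z, l • v ∈ orbit L z := by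
      rintro _ ⟨h, rfl⟩
      exact ⟨⟨l, hl⟩ * h, mul_smul _ _ _⟩
    rw [hw2] at horb
    have h1 := horb z (by simp)
    have h2 := horb w (by simp)
    have h3 : l • z ≠ l • w := fun h => hw1 (smul_left_cancel l h).symm
    rcases h1 with h1 | h1 <;> rcases h2 with h2 | h2
    · exact absurd (h1.trans h2.symm) h3
    · exact Or.inl ⟨h1, h2⟩
    · exact Or.inr ⟨h1, h2⟩
    · exact absurd (h1.trans h2.symm) h3
  · exact absurd (by norm_num) h.1
  · exact absurd (by norm_num) h.1
  · exfalso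
    obtain ⟨-, -, ⟨e⟩⟩ := h
    have h1 : Group.IsSolvable (alternatingGroup (Fin 5)) :=
      solvable_of_surjective (f := e.toMonoidHom) e.surjective
    exact alt5_not_solvable h1
  · obtain ⟨z, hFull, h3, g, K1, h4', h5, h6, h7⟩ := h
    obtain ⟨m, hm⟩ := exists_pow_card K1
    have h8 : 3 ≤ Nat.card K1 := by rw [h7]; exact h3
    have hm0 : m ≠ 0 := by
      rintro rfl
      rw [pow_zero] at hm
      omega
    obtain ⟨j, hj, hj2⟩ : ∃ j, j ≤ n ∧ Nat.card K1 = 3 ^ j := by
      have h9 : Nat.card K1 ∣ 3 ^ n := by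
        rw [← hF, ← hm]
        exact dvd_pow_self _ hm0
      exact (Nat.dvd_prime_pow Nat.prime_three).1 h9
    have h11 : j * m = n := by
      rw [hj2, hF, ← pow_mul] at hm
      exact Nat.pow_right_injective (by norm_num) hm
    rcases (Nat.dvd_prime hn).1 ⟨m, h11.symm⟩ with h12 | h12
    · right; right
      subst h12
      rw [one_mul] at h11
      subst h11
      have hK3 : Nat.card K1 = 3 := by rw [hj2, pow_one]
      have hle : cj g (L.map (toP F)) ≤ PSLr F := by
        rw [← cj_PSLr g, cj_mono]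
        rintro _ ⟨l, -, rfl⟩
        rw [← toP_range]
        exact ⟨l, rfl⟩
      have h13 : cj g (L.map (toP F)) = PSLs K1 := by
        rcases h5 with h5 | h5
        · exfalso
          have h14 := even_of_PGLs_le ho hm (h5 ▸ hle)
          exact (Nat.not_even_iff_odd.2 hodd) h14
        · exact h5
      have e1 : L ≃* cj g (L.map (toP F)) := (imEquiv L).trans (cjEquiv g _)
      obtain ⟨e2⟩ := psls_iso K1
      have := Fintype.ofFinite K1
      obtain ⟨e3⟩ := Cfsg.Agent.S0251.result (F := K1) (by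
        rw [← Nat.card_eq_fintype_card, hK3])
      exact ⟨e1.trans ((MulEquiv.subgroupCongr h13).trans (e2.trans e3))⟩
    · exfalso
      have hK1 : K1 = ⊤ := by
        apply eq_top_of_card
        rw [hj2, h12, hF]
      rw [hK1] at h5
      have hLtop : L = ⊤ := eq_top_of_im (PSLr_le_of_cj h5)
      rw [hLtop] at hs
      exact (ambS (F := F) (K := K)).not_solvable h4
        (solvable_of_surjective (f := (Subgroup.topEquiv (G := PSL(2, F))).toMonoidHom)
          (Subgroup.topEquiv (G := PSL(2, F))).surjective)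

theorem sv_three [CharP K 3] {n : ℕ} (hn : n.Prime) (hodd : Odd n)
    (hF : Nat.card F = 3 ^ n) {x y : PSL(2, F)} (hx : x ≠ 1) (h : Sv x y) :
    (∃ z : ℙ K (Fin 2 → K), x • z = z ∧ y • z = z) ∨
      (∃ z w : ℙ K (Fin 2 → K), z ≠ w ∧ x ∈ DS PSL(2, F) z w ∧ y ∈ DS PSL(2, F) z w) ∨
      ∃ L : Subgroup PSL(2, F), Nonempty (L ≃* alternatingGroup (Fin 4)) ∧ x ∈ L ∧ y ∈ L := by
  have hxc : x ∈ Subgroup.closure ({x, y} : Set PSL(2, F)) := Subgroup.subset_closure (by simp)
  have hyc : y ∈ Subgroup.closure ({x, y} : Set PSL(2, F)) := Subgroup.subset_closure (by simp)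
  have hne : Subgroup.closure ({x, y} : Set PSL(2, F)) ≠ ⊥ := by
    intro hb
    rw [hb, Subgroup.mem_bot] at hxc
    exact hx hxc
  rcases solvable_three (K := K) hn hodd hF hne h with ⟨z, hz⟩ | ⟨z, w, hzw, hle⟩ | h
  · exact Or.inl ⟨z, hz x hxc, hz y hyc⟩
  · exact Or.inr (Or.inl ⟨z, w, hzw, hle hxc, hle hyc⟩)
  · exact Or.inr (Or.inr ⟨_, h, hxc, hyc⟩)

/-- the solubilizer of an element of a torus -/
theorem sol_torus_three [CharP K 3] {n : ℕ} (hn : n.Prime) (hodd : Odd n)
    (hF : Nat.card F = 3 ^ n) {x : PSL(2, F)} (hx : x ≠ 1) (hxx : x * x ≠ 1) (hx3 : x ^ 3 ≠ 1)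
    {z w : ℙ K (Fin 2 → K)} (hzw : z ≠ w) (hT : x ∈ TS PSL(2, F) z w) :
    {y : PSL(2, F) | Sv x y} = ((stabilizer PSL(2, F) z : Set PSL(2, F)) ∪
      (stabilizer PSL(2, F) w : Set PSL(2, F))) ∪ (DS PSL(2, F) z w : Set PSL(2, F)) := by
  have hfin : Finite PSL(2, F) := finite_psl
  have : Fact (Nat.Prime 3) := ⟨Nat.prime_three⟩
  have M := mobS (p := 3) (F := F) (K := K)
  ext y
  constructor
  · intro hy
    rcases sv_three (K := K) hn hodd hF hx hy with ⟨a, h1, h2⟩ | ⟨a, b, hab, h1, h2⟩ |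
      ⟨L, ⟨e⟩, h1, h2⟩
    · rcases M.mem_pair hzw hT hx h1 with rfl | rfl
      · exact Or.inl (Or.inl h2)
      · exact Or.inl (Or.inr h2)
    · right
      rcases h1 with h1 | h1
      · rcases M.mem_pair hzw hT hx h1.1 with h3 | h3 <;>
          rcases M.mem_pair hzw hT hx h1.2 with h4 | h4
        · exact absurd (h3.trans h4.symm) hab
        · rw [← h3, ← h4]; exact h2
        · rw [← h3, ← h4]
          show y ∈ DS PSL(2, F) b a
          rw [mem_DS] at h2 ⊢
          tauto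
        · exact absurd (h3.trans h4.symm) hab
      · exact absurd (M.swap_sq hab h1.1 h1.2) hxx
    · exfalso
      rcases A4_order (e ⟨x, h1⟩) with h3 | h3
      · rw [← map_mul, ← map_one e, e.injective.eq_iff] at h3
        exact hxx (congrArg Subtype.val h3)
      · rw [← map_pow, ← map_one e, e.injective.eq_iff] at h3
        exact hx3 (congrArg Subtype.val h3)
  · rintro ((h | h) | h)
    · exact M.sv_of_fix hT.1 h
    · exact M.sv_of_fix hT.2 h
    · exact M.sv_of_DS hzw (TS_le_DS z w hT) h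

theorem three_pair [CharP K 3] {x : PSL(2, F)} (hx : x ≠ 1) (hx3 : x ^ 3 ≠ 1) :
    ∃ z w : ℙ K (Fin 2 → K), z ≠ w ∧ x ∈ TS PSL(2, F) z w := by
  have hfin : Finite PSL(2, F) := finite_psl
  have : Fact (Nat.Prime 3) := ⟨Nat.prime_three⟩
  have M := mobS (p := 3) (F := F) (K := K)
  obtain ⟨z, hz⟩ := M.exists_fix hx
  rcases M.fix_or hx hz with h | ⟨w, hw, hw2⟩
  · exact absurd (M.pow_of_mem_U (M.mem_U.2 (Or.inr h))) hx3
  · have hwx : w ∈ fixedBy (ℙ K (Fin 2 → K)) x := by rw [hw2]; simp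
    exact ⟨z, w, hw.symm, hz, hwx⟩

theorem two_ne_three [CharP F 3] : (2 : F) ≠ 0 := by
  intro h
  have : (3 : ℕ) ∣ 2 := (CharP.cast_eq_zero_iff F 3 2).1 (by exact_mod_cast h)
  omega

theorem card_stab_rat_three [CharP F 3] [CharP K 3] {a : ℙ K (Fin 2 → K)}
    (ha : a ∈ orbit PSL(2, F) (pt0 K)) :
    2 * Nat.card (stabilizer PSL(2, F) a) = Nat.card F * (Nat.card F - 1) := by
  have hfin : Finite PSL(2, F) := finite_psl
  have : Fact (Nat.Prime 3) := ⟨Nat.prime_three⟩
  have M := mobS (p := 3) (F := F) (K := K)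
  have hd3 := char_dvd_card (F := F) Nat.prime_three
  have ho : Odd (Nat.card F) := by
    have := Fintype.ofFinite F
    obtain ⟨n, -, hn⟩ := FiniteField.card F 3
    rw [Nat.card_eq_fintype_card, hn]
    exact Odd.pow (by decide)
  have ht : 2 * (mobS (p := 3) (F := F) (K := K)).t (pt0 K) = Nat.card F - 1 := by
    have := t_psl (p := 3) (F := F) (K := K)
    rwa [gcd_odd ho] at this
  rw [card_stab_of_mem ha, M.card_stab, card_US_pt0, ← ht]; ring

theorem sol_split_three [CharP F 3] {n : ℕ} (hn : n.Prime) (hodd : Odd n)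
    (hF : Nat.card F = 3 ^ n) {x : PSL(2, F)} (hx : x ≠ 1) (hx2 : orderOf x ≠ 2)
    (hxd : orderOf x ∣ Nat.card F - 1) :
    Nat.card {y : PSL(2, F) // Sv x y} = Nat.card F * (Nat.card F - 1) := by
  have hfin : Finite PSL(2, F) := finite_psl
  let K := AlgebraicClosure F
  have : CharP K 3 := charP_of_injective_algebraMap (algebraMap F K).injective 3
  have : Fact (Nat.Prime 3) := ⟨Nat.prime_three⟩
  have M := mobS (p := 3) (F := F) (K := K)
  have hFull := fullS (p := 3) (F := F) (K := K)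
  have hn2 := hn.two_le
  have h3q : 3 ∣ Nat.card F := by rw [hF]; exact dvd_pow_self 3 (by omega)
  have hq1 : 1 < Nat.card F := Finite.one_lt_card
  have hxx : x * x ≠ 1 := by
    intro h
    exact hx2 (orderOf_eq_prime (by rw [sq, h]) hx)
  have hx3 : x ^ 3 ≠ 1 := by
    intro h
    have h1 := orderOf_eq_prime h hx
    rw [h1] at hxd
    omega
  obtain ⟨z, w, hzw, hT⟩ := three_pair (K := K) hx hx3
  have hTne : TS PSL(2, F) z w ≠ ⊥ := by
    intro h; rw [h, Subgroup.mem_bot] at hT; exact hx hT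
  have hod := Subgroup.orderOf_dvd_natCard _ hT
  obtain ⟨⟨s, hs1, hs2⟩, hc⟩ := card_TS_pair (p := 3) two_ne_three hzw hTne
  have hz : z ∈ orbit PSL(2, F) (pt0 K) ∧ 2 * Nat.card (TS PSL(2, F) z w) + 1 = Nat.card F := by
    rcases hc with hc | ⟨-, hc⟩
    · exact hc
    · exfalso
      have h5 : orderOf x ∣ Nat.card F + 1 := by rw [← hc]; exact Dvd.dvd.mul_left hod 2
      have h6 : orderOf x ∣ 2 := by
        have h7 : Nat.card F + 1 = (Nat.card F - 1) + 2 := by omega
        rw [h7] at h5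
        exact (Nat.dvd_add_right hxd).1 h5
      rcases (Nat.dvd_prime Nat.prime_two).1 h6 with h8 | h8
      · exact hx (orderOf_eq_one_iff.1 h8)
      · exact hx2 h8
  obtain ⟨hz, hcT⟩ := hz
  have hw := mate_rat (p := 3) hzw hTne hz
  have hcD := (M.DS_dihedral hzw hs1 hs2).2
  let A : Set PSL(2, F) := (stabilizer PSL(2, F) z : Set PSL(2, F))
  let B : Set PSL(2, F) := (stabilizer PSL(2, F) w : Set PSL(2, F))
  let C : Set PSL(2, F) := (DS PSL(2, F) z w : Set PSL(2, F))
  let T : Set PSL(2, F) := (TS PSL(2, F) z w : Set PSL(2, F))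
  have hA : 2 * A.ncard = Nat.card F * (Nat.card F - 1) := card_stab_rat_three hz
  have hB : 2 * B.ncard = Nat.card F * (Nat.card F - 1) := card_stab_rat_three hw
  have hC : C.ncard = 2 * Nat.card (TS PSL(2, F) z w) := hcD
  have hTc : T.ncard = Nat.card (TS PSL(2, F) z w) := rfl
  have hAB : A ∩ B = T := rfl
  have h4 : (A ∪ B) ∩ C = T := by
    ext y
    constructor
    · rintro ⟨h1 | h1, h2 | h2⟩
      · exact h2
      · exact absurd ((show y • z = z from h1).symm.trans h2.1) hzw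
      · exact h2
      · exact absurd (h2.2.symm.trans (show y • w = w from h1)) hzw
    · intro h
      exact ⟨Or.inl h.1, Or.inl h⟩
  have hmain : {y : PSL(2, F) | Sv x y} = (A ∪ B) ∪ C :=
    sol_torus_three hn hodd hF hx hxx hx3 hzw hT
  have h1 : Nat.card {y : PSL(2, F) // Sv x y} = ((A ∪ B) ∪ C).ncard := by
    rw [← hmain]; rfl
  rw [h1]
  have h2 := Set.ncard_union_add_ncard_inter A B (Set.toFinite _) (Set.toFinite _)
  have h3 := Set.ncard_union_add_ncard_inter (A ∪ B) C (Set.toFinite _) (Set.toFinite _)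
  rw [h4, hTc, hC] at h3
  rw [hAB, hTc] at h2
  omega

theorem sol_nonsplit_three [CharP F 3] {n : ℕ} (hn : n.Prime) (hodd : Odd n)
    (hF : Nat.card F = 3 ^ n) {x : PSL(2, F)} (hx : x ≠ 1) (hx2 : orderOf x ≠ 2)
    (hxd : orderOf x ∣ Nat.card F + 1) :
    Nat.card {y : PSL(2, F) // Sv x y} = Nat.card F + 1 := by
  have hfin : Finite PSL(2, F) := finite_psl
  let K := AlgebraicClosure F
  have : CharP K 3 := charP_of_injective_algebraMap (algebraMap F K).injective 3
  have : Fact (Nat.Prime 3) := ⟨Nat.prime_three⟩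
  have M := mobS (p := 3) (F := F) (K := K)
  have hFull := fullS (p := 3) (F := F) (K := K)
  have hn2 := hn.two_le
  have h3q : 3 ∣ Nat.card F := by rw [hF]; exact dvd_pow_self 3 (by omega)
  have hq1 : 1 < Nat.card F := Finite.one_lt_card
  have hxx : x * x ≠ 1 := by
    intro h
    exact hx2 (orderOf_eq_prime (by rw [sq, h]) hx)
  have hx3 : x ^ 3 ≠ 1 := by
    intro h
    have h1 := orderOf_eq_prime h hx
    rw [h1] at hxd
    omega
  obtain ⟨z, w, hzw, hT⟩ := three_pair (K := K) hx hx3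
  have hTne : ∀ z w : ℙ K (Fin 2 → K), x ∈ TS PSL(2, F) z w → TS PSL(2, F) z w ≠ ⊥ := by
    intro z w hT h; rw [h, Subgroup.mem_bot] at hT; exact hx hT
  have hirr : ∀ z w : ℙ K (Fin 2 → K), z ≠ w → x ∈ TS PSL(2, F) z w →
      z ∉ orbit PSL(2, F) (pt0 K) ∧ 2 * Nat.card (TS PSL(2, F) z w) = Nat.card F + 1 := by
    intro z w hzw hT
    have hod := Subgroup.orderOf_dvd_natCard _ hT
    rcases (card_TS_pair (p := 3) two_ne_three hzw (hTne z w hT)).2 with ⟨-, hc⟩ | hc
    · exfalso
      have h5 : orderOf x ∣ Nat.card F - 1 := by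
        have : Nat.card F - 1 = 2 * Nat.card (TS PSL(2, F) z w) := by omega
        rw [this]; exact Dvd.dvd.mul_left hod 2
      have h6 : orderOf x ∣ 2 := by
        have h7 : Nat.card F + 1 = (Nat.card F - 1) + 2 := by omega
        rw [h7] at hxd
        exact (Nat.dvd_add_right h5).1 hxd
      rcases (Nat.dvd_prime Nat.prime_two).1 h6 with h8 | h8
      · exact hx (orderOf_eq_one_iff.1 h8)
      · exact hx2 h8
    · exact hc
  obtain ⟨h3, hstz, s, hs1, hs2⟩ := (ambS (F := F) (K := K)).card_TS_irr (p := 3)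
    (hirr z w hzw hT).1 hzw (hTne z w hT)
  obtain ⟨-, hstw, -⟩ := (ambS (F := F) (K := K)).card_TS_irr (p := 3)
    (hirr w z hzw.symm ⟨hT.2, hT.1⟩).1 hzw.symm (hTne w z ⟨hT.2, hT.1⟩)
  have hcT := (hirr z w hzw hT).2
  have hcD := (M.DS_dihedral hzw hs1 hs2).2
  have hmain : {y : PSL(2, F) | Sv x y} = (DS PSL(2, F) z w : Set PSL(2, F)) := by
    rw [sol_torus_three hn hodd hF hx hxx hx3 hzw hT]
    apply Set.union_eq_right.2
    rintro y (h2 | h2)
    · have h5 : y ∈ stabilizer PSL(2, F) z := h2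
      rw [← hstz] at h5
      exact TS_le_DS _ _ h5
    · have h5 : y ∈ stabilizer PSL(2, F) w := h2
      rw [← hstw] at h5
      exact TS_le_DS _ _ ⟨h5.2, h5.1⟩
  have h1 : Nat.card {y : PSL(2, F) // Sv x y} =
      ((DS PSL(2, F) z w : Set PSL(2, F))).ncard := by
    rw [← hmain]; rfl
  rw [h1]
  exact hcD.trans hcT

end psl

end Cfsg.Agent.Dk
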