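import Mathlib
import Cfsg.Agent.Dk.SolThree

/-! Solubilizers in `PSL₂(3^p)`, the elements of order 2 and 3. -/

set_option autoImplicit false

namespace Cfsg.Agent.Dk

open MulAction Matrix Subgroup LinearAlgebra.Projectivization Projectivization
open scoped MatrixGroups Pointwise
open H81 (pt0 pt1 ptz ptc)

section mat

variable {F : Type*} [Field F]

/-- points of the circle -/
theorem card_circle [Finite F] (h2 : (2 : F) ≠ 0) (hm : ¬ IsSquare (-1 : F)) :
    Nat.card {v : F × F // v.1 * v.1 + v.2 * v.2 = 1} = Nat.card F + 1 := by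
  have hne : ∀ m : F, 1 + m * m ≠ 0 := by
    intro m h
    exact hm ⟨m, by linear_combination -h⟩
  rw [← Finite.card_option]
  symm
  refine Nat.card_eq_of_bijective (f := fun o : Option F => match o with
    | none => ⟨(-1, 0), by simp⟩
    | some m => ⟨((1 - m * m) / (1 + m * m), 2 * m / (1 + m * m)), ?_⟩) ⟨?_, ?_⟩
  · show (1 - m * m) / (1 + m * m) * ((1 - m * m) / (1 + m * m)) +
      2 * m / (1 + m * m) * (2 * m / (1 + m * m)) = 1
    have h5 := hne m
    rw [div_mul_div_comm, div_mul_div_comm, ← add_div, div_eq_one_iff_eq (mul_ne_zero h5 h5)]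
    ring
  · have key : ∀ m : F, (1 - m * m) / (1 + m * m) ≠ -1 := by
      intro m h
      rw [div_eq_iff (hne m)] at h
      apply h2
      linear_combination h
    rintro (_ | m) (_ | m') h
    · rfl
    · have h1 : (-1 : F) = (1 - m' * m') / (1 + m' * m') := congrArg (fun v => v.1.1) h
      exact absurd h1.symm (key m')
    · have h1 : (1 - m * m) / (1 + m * m) = (-1 : F) := congrArg (fun v => v.1.1) h
      exact absurd h1 (key m)
    · have h1 : (1 - m * m) / (1 + m * m) = (1 - m' * m') / (1 + m' * m') :=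
        congrArg (fun v => v.1.1) h
      have h3 : 2 * m / (1 + m * m) = 2 * m' / (1 + m' * m') := congrArg (fun v => v.1.2) h
      have hr : ∀ m : F, m = (2 * m / (1 + m * m)) / (1 + (1 - m * m) / (1 + m * m)) := by
        intro m
        have h4 := hne m
        have h5 : 1 + (1 - m * m) / (1 + m * m) = 2 / (1 + m * m) := by
          rw [eq_div_iff h4, add_mul, div_mul_cancel₀ _ h4]; ring
        rw [h5, div_div_div_cancel_right₀ h4, mul_div_cancel_left₀ _ h2]
      have : m = m' := by rw [hr m, hr m', h1, h3]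
      rw [this]
  · rintro ⟨⟨s, t⟩, hst⟩
    have hst : s * s + t * t = 1 := hst
    by_cases hs : s = -1
    · refine ⟨none, ?_⟩
      apply Subtype.ext
      have ht : t = 0 := by
        have : t * t = 0 := by rw [hs] at hst; linear_combination hst
        exact mul_self_eq_zero.1 this
      exact Prod.ext hs.symm ht.symm
    · have hs1 : 1 + s ≠ 0 := fun h => hs (by linear_combination h)
      refine ⟨some (t / (1 + s)), ?_⟩
      apply Subtype.ext
      have h4 := hne (t / (1 + s))
      have h5 : 1 + t / (1 + s) * (t / (1 + s)) = 2 / (1 + s) := by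
        rw [div_mul_div_comm, eq_div_iff hs1]
        field_simp
        linear_combination hst
      apply Prod.ext
      · show (1 - t / (1 + s) * (t / (1 + s))) / (1 + t / (1 + s) * (t / (1 + s))) = s
        have h6 : 1 - t / (1 + s) * (t / (1 + s)) = 2 - 2 / (1 + s) := by
          linear_combination -h5
        rw [h5, h6]
        field_simp
        ring
      · show 2 * (t / (1 + s)) / (1 + t / (1 + s) * (t / (1 + s))) = t
        rw [h5]
        field_simp

theorem cube_of_trace [CharP F 3] {A : SL(2, F)} (h : A.1.trace * A.1.trace = 1) :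
    (QuotientGroup.mk A : PSL(2, F)) ^ 3 = 1 := by
  have h1 := sq_eq_trace A
  have h2 : (QuotientGroup.mk (A ^ 3) : PSL(2, F)) = 1 := by
    apply mk_eq_one_of_scalar (r := -A.1.trace)
    have e : (A ^ 3).1 = A.1 * A.1 * A.1 := by
      rw [pow_succ, pow_succ, pow_one]; rfl
    rw [e, h1, sub_mul, one_mul, Matrix.smul_mul, h1, smul_sub, smul_smul, h]
    rw [one_smul, neg_smul]
    abel
  exact h2

theorem trace_of_cube [CharP F 3] {A : SL(2, F)} (h : (QuotientGroup.mk A : PSL(2, F)) ^ 3 = 1) :
    A.1.trace * A.1.trace = 1 := by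
  by_contra ht
  have h3' : (3 : F) = 0 := by exact_mod_cast CharP.cast_eq_zero F 3
  have h3 : (QuotientGroup.mk (A ^ 3) : PSL(2, F)) = 1 := h
  rw [QuotientGroup.eq_one_iff, Matrix.SpecialLinearGroup.mem_center_iff] at h3
  obtain ⟨r, hr, hr2⟩ := h3
  have h4 := sq_eq_trace A
  have h5 : (Matrix.scalar (Fin 2)) r = A.1 * A.1 * A.1 := by
    have e : (A ^ 3).1 = A.1 * A.1 * A.1 := by
      rw [pow_succ, pow_succ, pow_one]; rfl
    rw [← e]; exact hr2
  rw [h4, sub_mul, one_mul, Matrix.smul_mul, h4, smul_sub, smul_smul] at h5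
  have hne : A.1.trace * A.1.trace - 1 ≠ 0 := sub_ne_zero.2 ht
  have e00 := congrFun (congrFun h5 0) 0
  have e01 := congrFun (congrFun h5 0) 1
  have e10 := congrFun (congrFun h5 1) 0
  have e11 := congrFun (congrFun h5 1) 1
  simp only [Matrix.scalar_apply, Matrix.diagonal_apply_eq, Matrix.sub_apply, Matrix.smul_apply,
    Matrix.one_apply_eq, smul_eq_mul, mul_one] at e00 e11
  simp only [Matrix.scalar_apply, Matrix.sub_apply, Matrix.smul_apply, smul_eq_mul] at e01 e10
  rw [Matrix.diagonal_apply_ne _ (by decide), Matrix.one_apply_ne (by decide)] at e01 e10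
  have a01 : A.1 0 1 = 0 := by
    have : (A.1.trace * A.1.trace - 1) * A.1 0 1 = 0 := by linear_combination -e01
    exact (mul_eq_zero.1 this).resolve_left hne
  have ad : A.1 0 0 = A.1 1 1 := by
    have : (A.1.trace * A.1.trace - 1) * (A.1 0 0 - A.1 1 1) = 0 := by
      linear_combination e11 - e00
    exact sub_eq_zero.1 ((mul_eq_zero.1 this).resolve_left hne)
  have hd := A.2
  rw [Matrix.det_fin_two, a01, ad] at hd
  apply ht
  rw [Matrix.trace_fin_two, ad]
  linear_combination 4 * hd + h3'

theorem mk_inj_of_trace {A B : SL(2, F)} {t : F} (ht : t ≠ 0)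
    (hA : A.1.trace = t) (hB : B.1.trace = t)
    (h : (QuotientGroup.mk A : PSL(2, F)) = QuotientGroup.mk B) : A = B := by
  rw [QuotientGroup.eq, Matrix.SpecialLinearGroup.mem_center_iff] at h
  obtain ⟨r, hr, hr2⟩ := h
  have h3 : B.1 = A.1 * (Matrix.scalar (Fin 2) r) := by
    rw [hr2]
    show B.1 = (A * (A⁻¹ * B)).1
    rw [mul_inv_cancel_left]
  have h4 : B.1.trace = r * A.1.trace := by
    rw [h3, Matrix.trace_fin_two, Matrix.trace_fin_two]
    simp [Matrix.mul_apply, Fin.sum_univ_two]
    ring
  rw [hA, hB] at h4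
  have hr1 : r = 1 := by
    have : (r - 1) * t = 0 := by linear_combination -h4
    exact sub_eq_zero.1 ((mul_eq_zero.1 this).resolve_right ht)
  rw [hr1, map_one, mul_one] at h3
  exact Subtype.ext h3.symm

theorem neg_mk (A : SL(2, F)) : (QuotientGroup.mk (-A) : PSL(2, F)) = QuotientGroup.mk A := by
  rw [QuotientGroup.eq, Matrix.SpecialLinearGroup.mem_center_iff]
  refine ⟨-1, by simp, ?_⟩
  have : (-A)⁻¹ * A = -1 := by
    rw [inv_mul_eq_iff_eq_mul]
    simp
  rw [this]
  ext i j
  fin_cases i <;> fin_cases j <;> simp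

/-- the number of `y` with `(w,y)` a `(2,3,3)`-pair -/
theorem card_233 [Finite F] [CharP F 3] (hm : ¬ IsSquare (-1 : F)) :
    {y : PSL(2, F) | y ^ 3 = 1 ∧ (WS F * y) ^ 3 = 1}.ncard = 2 * (Nat.card F + 1) := by
  have h3' : (3 : F) = 0 := by exact_mod_cast CharP.cast_eq_zero F 3
  have h2 : (2 : F) ≠ 0 := by
    intro h
    have : (1 : F) = 0 := by linear_combination h3' - h
    exact one_ne_zero this
  let ε : Bool → F := fun b => if b then 1 else -1
  have hε : ∀ b, ε b * ε b = 1 := by
    intro b; cases b <;> simp [ε]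
  have hεi : ∀ b b', ε b = ε b' → b = b' := by
    intro b b' h
    cases b <;> cases b'
    · rfl
    · simp only [ε, Bool.false_eq_true, if_false, if_true] at h
      exact absurd (by linear_combination -h) h2
    · simp only [ε, Bool.false_eq_true, if_false, if_true] at h
      exact absurd (by linear_combination h) h2
    · rfl
  have hdet : ∀ (b : Bool) (v : {v : F × F // v.1 * v.1 + v.2 * v.2 = 1}),
      (!![v.1.1 + 1, v.1.2 - ε b; v.1.2 + ε b, 1 - v.1.1] : Matrix (Fin 2) (Fin 2) F).det = 1 := by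
    intro b v
    rw [Matrix.det_fin_two_of]
    linear_combination hε b - v.2
  let Y : Bool × {v : F × F // v.1 * v.1 + v.2 * v.2 = 1} → SL(2, F) := fun bv => ⟨_, hdet bv.1 bv.2⟩
  have htr : ∀ bv, (Y bv).1.trace = 2 := by
    intro bv
    rw [Matrix.trace_fin_two]
    show bv.2.1.1 + 1 + (1 - bv.2.1.1) = 2
    ring
  let w : SL(2, F) := ⟨!![0, -1; 1, 0], by simp [Matrix.det_fin_two]⟩
  have hwtr : ∀ A : SL(2, F), (w * A).1.trace = A.1 0 1 - A.1 1 0 := by
    intro A
    rw [Matrix.trace_fin_two]
    show ((!![0, -1; 1, 0] : Matrix (Fin 2) (Fin 2) F) * A.1) 0 0 +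
      ((!![0, -1; 1, 0] : Matrix (Fin 2) (Fin 2) F) * A.1) 1 1 = _
    simp [Matrix.mul_apply, Fin.sum_univ_two]
    ring
  have hcard : Nat.card (Bool × {v : F × F // v.1 * v.1 + v.2 * v.2 = 1}) =
      Nat.card {y : PSL(2, F) | y ^ 3 = 1 ∧ (WS F * y) ^ 3 = 1} := by
    refine Nat.card_eq_of_bijective (f := fun bv => ⟨QuotientGroup.mk (Y bv), ?_, ?_⟩) ⟨?_, ?_⟩
    · apply cube_of_trace
      rw [htr]
      linear_combination h3'
    · show (QuotientGroup.mk (w * Y bv) : PSL(2, F)) ^ 3 = 1
      apply cube_of_trace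
      rw [hwtr]
      show (bv.2.1.2 - ε bv.1 - (bv.2.1.2 + ε bv.1)) *
        (bv.2.1.2 - ε bv.1 - (bv.2.1.2 + ε bv.1)) = 1
      linear_combination 4 * hε bv.1 + h3'
    · rintro ⟨b, ⟨s, t⟩, hv⟩ ⟨b', ⟨s', t'⟩, hv'⟩ h
      have h1 : (QuotientGroup.mk (Y (b, ⟨(s, t), hv⟩)) : PSL(2, F)) =
        QuotientGroup.mk (Y (b', ⟨(s', t'), hv'⟩)) := congrArg Subtype.val h
      have h4 := mk_inj_of_trace h2 (htr _) (htr _) h1
      have h5 := congrArg Subtype.val h4
      have e1 : s + 1 = s' + 1 := congrFun (congrFun h5 0) 0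
      have e2 : t - ε b = t' - ε b' := congrFun (congrFun h5 0) 1
      have e3 : t + ε b = t' + ε b' := congrFun (congrFun h5 1) 0
      have hs : s = s' := by linear_combination e1
      have ht : t = t' := by
        apply mul_left_cancel₀ h2
        linear_combination e2 + e3
      have hb : ε b = ε b' := by linear_combination e3 - ht
      have hb' := hεi _ _ hb
      subst hs ht hb'
      rfl
    · rintro ⟨y, hy1, hy2⟩
      induction y using QuotientGroup.induction_on with
      | H A0 =>
        obtain ⟨A, hA, hAt⟩ : ∃ A : SL(2, F), (QuotientGroup.mk A : PSL(2, F)) =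
            QuotientGroup.mk A0 ∧ A.1.trace = 2 := by
          have h4 := trace_of_cube hy1
          have h5 : (A0.1.trace - 2) * (A0.1.trace + 2) = 0 := by
            linear_combination h4 - h3'
          rcases mul_eq_zero.1 h5 with h6 | h6
          · exact ⟨A0, rfl, by linear_combination h6⟩
          · refine ⟨-A0, neg_mk A0, ?_⟩
            have : (-A0).1.trace = -A0.1.trace := by
              rw [Matrix.trace_fin_two, Matrix.trace_fin_two]
              show -(A0.1 0 0) + -(A0.1 1 1) = _
              ring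
            rw [this]; linear_combination -h6
        have h7 : (QuotientGroup.mk (w * A) : PSL(2, F)) ^ 3 = 1 := by
          have : (QuotientGroup.mk (w * A) : PSL(2, F)) = WS F * QuotientGroup.mk A0 := by
            rw [← hA]; rfl
          rw [this]; exact hy2
        have h8 := trace_of_cube h7
        rw [hwtr] at h8
        obtain ⟨b, hb⟩ : ∃ b, ε b = A.1 0 1 - A.1 1 0 := by
          rcases mul_self_eq_one_iff.1 h8 with h9 | h9
          · exact ⟨true, by simp [ε, h9]⟩
          · exact ⟨false, by simp [ε, h9]⟩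
        have hd := A.2
        rw [Matrix.det_fin_two] at hd
        rw [Matrix.trace_fin_two] at hAt
        refine ⟨(b, ⟨(A.1 0 0 - 1, -(A.1 0 1 + A.1 1 0)), ?_⟩), ?_⟩
        · show (A.1 0 0 - 1) * (A.1 0 0 - 1) + -(A.1 0 1 + A.1 1 0) * -(A.1 0 1 + A.1 1 0) = 1
          have h11 : A.1 1 1 = 2 - A.1 0 0 := by linear_combination hAt
          rw [h11] at hd
          linear_combination -hd + h8 + (A.1 0 1 * A.1 1 0) * h3' +
            (0 : F) * hd
        · apply Subtype.ext
          refine Eq.trans ?_ hA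
          show (QuotientGroup.mk (Y _) : PSL(2, F)) = _
          congr 1
          apply Subtype.ext
          show !![A.1 0 0 - 1 + 1, -(A.1 0 1 + A.1 1 0) - ε b; -(A.1 0 1 + A.1 1 0) + ε b,
            1 - (A.1 0 0 - 1)] = A.1
          rw [hb]
          ext i j
          fin_cases i <;> fin_cases j
          · show A.1 0 0 - 1 + 1 = A.1 0 0
            ring
          · show -(A.1 0 1 + A.1 1 0) - (A.1 0 1 - A.1 1 0) = A.1 0 1
            linear_combination -A.1 0 1 * h3'
          · show -(A.1 0 1 + A.1 1 0) + (A.1 0 1 - A.1 1 0) = A.1 1 0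
            linear_combination -A.1 1 0 * h3'
          · show 1 - (A.1 0 0 - 1) = A.1 1 1
            linear_combination -hAt
  rw [← Nat.card_coe_set_eq, ← hcard, Nat.card_prod, card_circle h2 hm]
  congr 1
  simp

/-- the number of involutions `u` with `(u, x)` a `(2,3,3)`-pair -/
theorem card_23 [Finite F] [CharP F 3] {a : F} (ha : a ≠ 0) :
    {u : PSL(2, F) | u ≠ 1 ∧ u * u = 1 ∧ (XS a * u) ^ 3 = 1}.ncard = Nat.card F := by
  have h3' : (3 : F) = 0 := by exact_mod_cast CharP.cast_eq_zero F 3
  have h2 : (2 : F) ≠ 0 := by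
    intro h
    have : (1 : F) = 0 := by linear_combination h3' - h
    exact one_ne_zero this
  have hdet : ∀ s : F, (!![s, -(1 + s * s) * a; a⁻¹, -s] : Matrix (Fin 2) (Fin 2) F).det = 1 := by
    intro s
    rw [Matrix.det_fin_two_of, mul_assoc, mul_inv_cancel₀ ha]
    ring
  let Y : F → SL(2, F) := fun s => ⟨_, hdet s⟩
  have htr : ∀ s, (Y s).1.trace = 0 := by
    intro s
    rw [Matrix.trace_fin_two]
    show s + -s = 0
    ring
  have hxtr : ∀ A : SL(2, F), A.1.trace = 0 → (H81.xx a * A).1.trace = a * A.1 1 0 := by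
    intro A hA
    rw [Matrix.trace_fin_two] at hA ⊢
    show ((!![1, a; 0, 1] : Matrix (Fin 2) (Fin 2) F) * A.1) 0 0 +
      ((!![1, a; 0, 1] : Matrix (Fin 2) (Fin 2) F) * A.1) 1 1 = _
    simp [Matrix.mul_apply, Fin.sum_univ_two]
    linear_combination hA
  have hcard : Nat.card F =
      Nat.card {u : PSL(2, F) | u ≠ 1 ∧ u * u = 1 ∧ (XS a * u) ^ 3 = 1} := by
    refine Nat.card_eq_of_bijective (f := fun s => ⟨QuotientGroup.mk (Y s), ?_, ?_, ?_⟩) ⟨?_, ?_⟩
    · exact ne_one_of_trace h2 (htr s)
    · exact invol_of_trace (htr s)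
    · show (QuotientGroup.mk (H81.xx a * Y s) : PSL(2, F)) ^ 3 = 1
      apply cube_of_trace
      rw [hxtr _ (htr s)]
      show a * a⁻¹ * (a * a⁻¹) = 1
      rw [mul_inv_cancel₀ ha, one_mul]
    · intro s s' h
      have h1 : (QuotientGroup.mk (Y s) : PSL(2, F)) = QuotientGroup.mk (Y s') :=
        congrArg Subtype.val h
      have h4 : (QuotientGroup.mk (H81.xx a * Y s) : PSL(2, F)) =
          QuotientGroup.mk (H81.xx a * Y s') := by
        rw [QuotientGroup.mk_mul, QuotientGroup.mk_mul, h1]
      have h5 : ∀ s, (H81.xx a * Y s).1.trace = 1 := by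
        intro s
        rw [hxtr _ (htr s)]
        exact mul_inv_cancel₀ ha
      have h6 := mk_inj_of_trace one_ne_zero (h5 s) (h5 s') h4
      have h6' : Y s = Y s' := mul_left_cancel (G := SL(2, F)) h6
      have h7 := congrArg Subtype.val h6'
      exact congrFun (congrFun h7 0) 0
    · rintro ⟨y, hy1, hy2, hy3⟩
      induction y using QuotientGroup.induction_on with
      | H A0 =>
        have hA00 := trace_of_invol hy1 hy2
        have hy4 : (QuotientGroup.mk (H81.xx a * A0) : PSL(2, F)) ^ 3 = 1 := hy3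
        have h8 := trace_of_cube hy4
        rw [hxtr _ hA00] at h8
        obtain ⟨A, hA, hAt, hAa⟩ : ∃ A : SL(2, F), (QuotientGroup.mk A : PSL(2, F)) =
            QuotientGroup.mk A0 ∧ A.1.trace = 0 ∧ a * A.1 1 0 = 1 := by
          rcases mul_self_eq_one_iff.1 h8 with h9 | h9
          · exact ⟨A0, rfl, hA00, h9⟩
          · refine ⟨-A0, neg_mk A0, ?_, ?_⟩
            · rw [Matrix.trace_fin_two] at hA00 ⊢
              show -(A0.1 0 0) + -(A0.1 1 1) = _
              linear_combination -hA00
            · show a * -(A0.1 1 0) = 1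
              linear_combination -h9
        have hd := A.2
        rw [Matrix.det_fin_two] at hd
        rw [Matrix.trace_fin_two] at hAt
        have hr : A.1 1 0 = a⁻¹ := eq_inv_of_mul_eq_one_right hAa
        refine ⟨A.1 0 0, ?_⟩
        apply Subtype.ext
        refine Eq.trans ?_ hA
        show (QuotientGroup.mk (Y _) : PSL(2, F)) = _
        congr 1
        apply Subtype.ext
        show !![A.1 0 0, -(1 + A.1 0 0 * A.1 0 0) * a; a⁻¹, -A.1 0 0] = A.1
        ext i j
        fin_cases i <;> fin_cases j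
        · rfl
        · show -(1 + A.1 0 0 * A.1 0 0) * a = A.1 0 1
          linear_combination a * hd - (A.1 0 0 * a) * hAt + (A.1 0 1) * hAa
        · exact hr.symm
        · show -A.1 0 0 = A.1 1 1
          linear_combination -hAt
  rw [← Nat.card_coe_set_eq, ← hcard]

end mat

section main

variable {F : Type*} [Field F] [Finite F]

attribute [local instance 10] pact sact

/-- the centralizer of an involution -/
theorem centralizer_invol {K : Type*} [Field K] [Algebra F K] [IsAlgClosed K] {p : ℕ}
    [Fact p.Prime] [CharP K p] {x : PSL(2, F)} (hx : x ≠ 1) (hxx : x * x = 1)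
    {z w : ℙ K (Fin 2 → K)} (hzw : z ≠ w) (hT : x ∈ TS PSL(2, F) z w) :
    Subgroup.centralizer {x} = DS PSL(2, F) z w := by
  have hfin : Finite PSL(2, F) := finite_psl
  have M := mobS (p := p) (F := F) (K := K)
  ext y
  rw [Subgroup.mem_centralizer_singleton_iff]
  constructor
  · intro h
    exact M.mem_DS_of_comm hzw hT hx h
  · rintro (h | h)
    · exact M.comm_TS hzw h hT
    · exact (M.swap_comm hzw h.1 h.2 hT hxx).symm

/-- the number of involutions -/
theorem card_invol_odd (h2 : (2 : F) ≠ 0) {x : PSL(2, F)} (hx : x ≠ 1) (hxx : x * x = 1) :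
    {y : PSL(2, F) | y ≠ 1 ∧ y * y = 1}.ncard * Nat.card (Subgroup.centralizer {x}) =
      Nat.card PSL(2, F) := by
  have hfin : Finite PSL(2, F) := finite_psl
  have hfin' : Finite (ConjAct PSL(2, F)) := hfin
  have h1 := card_orbit_mul (Γ := ConjAct PSL(2, F)) x
  rw [← Subgroup.nat_card_centralizer_nat_card_stabilizer] at h1
  have h3 : orbit (ConjAct PSL(2, F)) x = {y : PSL(2, F) | y ≠ 1 ∧ y * y = 1} := by
    ext y
    rw [ConjAct.mem_orbit_conjAct, isConj_comm, isConj_iff]
    constructor
    · rintro ⟨c, rfl⟩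
      constructor
      · intro h
        apply hx
        calc x = c⁻¹ * (c * x * c⁻¹) * c := by group
          _ = 1 := by rw [h]; group
      · calc c * x * c⁻¹ * (c * x * c⁻¹) = c * (x * x) * c⁻¹ := by group
          _ = 1 := by rw [hxx]; group
    · rintro ⟨h4, h5⟩
      exact inv_conj_odd h2 x y hx hxx h4 h5
  rw [h3] at h1
  exact h1

theorem sol_invol_three [CharP F 3] {n : ℕ} (hn : n.Prime) (hodd : Odd n)
    (hF : Nat.card F = 3 ^ n) {x : PSL(2, F)} (hx : x ≠ 1) (hxx : x * x = 1) :
    Nat.card {y : PSL(2, F) // Sv x y} = Nat.card F * (Nat.card F + 1) := by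
  have hfin : Finite PSL(2, F) := finite_psl
  have := Fintype.ofFinite F
  let K := AlgebraicClosure F
  have : CharP K 3 := charP_of_injective_algebraMap (algebraMap F K).injective 3
  have : Fact (Nat.Prime 3) := ⟨Nat.prime_three⟩
  have M := mobS (p := 3) (F := F) (K := K)
  have hFull := fullS (p := 3) (F := F) (K := K)
  have hn2 := hn.two_le
  have hq1 : 1 < Nat.card F := Finite.one_lt_card
  have h20 : (2 : F) ≠ 0 := two_ne_three
  have ho : Odd (Nat.card F) := by rw [hF]; exact Odd.pow (by decide)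
  have h34 : Nat.card F % 4 = 3 := by
    rw [hF]
    obtain ⟨k, hk⟩ := hodd
    rw [hk, pow_succ, pow_mul, Nat.mul_mod, Nat.pow_mod]
    norm_num
  have hm : ¬ IsSquare (-1 : F) := by
    rw [FiniteField.isSquare_neg_one_iff, ← Nat.card_eq_fintype_card]; omega
  obtain ⟨z, w, hzw, hT⟩ := inv_pair (p := 3) K h20 hx hxx
  have hTne : ∀ z w : ℙ K (Fin 2 → K), x ∈ TS PSL(2, F) z w → TS PSL(2, F) z w ≠ ⊥ := by
    intro z w hT h; rw [h, Subgroup.mem_bot] at hT; exact hx hT
  have hord : orderOf x = 2 := orderOf_eq_prime (by rw [sq, hxx]) hx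
  have hirr : ∀ z w : ℙ K (Fin 2 → K), z ≠ w → x ∈ TS PSL(2, F) z w →
      z ∉ orbit PSL(2, F) (pt0 K) ∧ 2 * Nat.card (TS PSL(2, F) z w) = Nat.card F + 1 := by
    intro z w hzw hT
    have hod := Subgroup.orderOf_dvd_natCard _ hT
    rw [hord] at hod
    rcases (card_TS_pair (p := 3) h20 hzw (hTne z w hT)).2 with ⟨-, hc⟩ | hc
    · exfalso
      omega
    · exact hc
  obtain ⟨h3, hstz, s, hs1, hs2⟩ := (ambS (F := F) (K := K)).card_TS_irr (p := 3)
    (hirr z w hzw hT).1 hzw (hTne z w hT)
  obtain ⟨-, hstw, -⟩ := (ambS (F := F) (K := K)).card_TS_irr (p := 3)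
    (hirr w z hzw.symm ⟨hT.2, hT.1⟩).1 hzw.symm (hTne w z ⟨hT.2, hT.1⟩)
  have hcT := (hirr z w hzw hT).2
  have hcD := (M.DS_dihedral hzw hs1 hs2).2
  have hcen := centralizer_invol (p := 3) hx hxx hzw hT
  have hI := card_invol_odd h20 hx hxx
  rw [hcen, hcD, hcT] at hI
  have hG := card_psl_odd (F := F) ho
  rw [← hI] at hG
  let I : Set PSL(2, F) := {y | y ≠ 1 ∧ y * y = 1}
  have hIc : 2 * I.ncard = Nat.card F * (Nat.card F - 1) := by
    apply Nat.eq_of_mul_eq_mul_right (show 0 < Nat.card F + 1 by omega)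
    show 2 * {y : PSL(2, F) | y ≠ 1 ∧ y * y = 1}.ncard * (Nat.card F + 1) = _
    rw [mul_assoc, hG]; ring
  let A : Set PSL(2, F) := (DS PSL(2, F) z w : Set PSL(2, F))
  let B : Set PSL(2, F) := {y | y * y = 1}
  let C : Set PSL(2, F) := {y | (x * y) * (x * y) = 1}
  let T : Set PSL(2, F) := {y | y ^ 3 = 1 ∧ (x * y) ^ 3 = 1}
  let Z : Set PSL(2, F) := A ∩ B
  have hA : A.ncard = Nat.card F + 1 := hcD.trans hcT
  have hB : 2 * B.ncard = Nat.card F * (Nat.card F - 1) + 2 := by
    have : B = insert 1 I := by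
      ext y
      constructor
      · intro hy
        by_cases h1 : y = 1
        · exact Or.inl h1
        · exact Or.inr ⟨h1, hy⟩
      · rintro (rfl | hy)
        · exact one_mul 1
        · exact hy.2
    rw [this, Set.ncard_insert_of_notMem (fun h => h.1 rfl) (Set.toFinite _), mul_add, hIc]
  have hC : C.ncard = B.ncard := by
    have : C = (fun y => x * y) '' B := by
      ext y
      constructor
      · intro hy
        refine ⟨x * y, hy, ?_⟩
        show x * (x * y) = y
        rw [← mul_assoc, hxx, one_mul]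
      · rintro ⟨u, hu, rfl⟩
        show (x * (x * u)) * (x * (x * u)) = 1
        have e1 : x * (x * u) = u := by rw [← mul_assoc, hxx, one_mul]
        rw [e1]; exact hu
    rw [this, Set.ncard_image_of_injective _ (mul_right_injective x)]
  have hcomm : ∀ y, y ∈ A ↔ y * x = x * y := by
    intro y
    rw [← Subgroup.mem_centralizer_singleton_iff, hcen]; rfl
  have hAC : A ∩ C = Z := by
    ext y
    constructor
    · rintro ⟨h1, h2⟩
      have h5 := (hcomm y).1 h1
      have h2 : (x * y) * (x * y) = 1 := h2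
      refine ⟨h1, ?_⟩
      show y * y = 1
      calc y * y = (x * x) * (y * y) := by rw [hxx, one_mul]
        _ = x * (x * y) * y := by group
        _ = x * (y * x) * y := by rw [h5]
        _ = (x * y) * (x * y) := by group
        _ = 1 := h2
    · rintro ⟨h1, h2⟩
      have h5 := (hcomm y).1 h1
      have h2 : y * y = 1 := h2
      refine ⟨h1, ?_⟩
      show (x * y) * (x * y) = 1
      calc (x * y) * (x * y) = x * (y * x) * y := by group
        _ = x * (x * y) * y := by rw [h5]
        _ = (x * x) * (y * y) := by group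
        _ = 1 := by rw [hxx, h2, one_mul]
  have hBC : B ∩ C = Z := by
    ext y
    constructor
    · rintro ⟨h1, h2⟩
      have h1 : y * y = 1 := h1
      have h2 : (x * y) * (x * y) = 1 := h2
      have h3 : y * x = x * y := by
        calc y * x = (x * x) * (y * x) * (y * y) := by rw [hxx, h1, one_mul, mul_one]
          _ = x * ((x * y) * (x * y)) * y := by group
          _ = x * y := by rw [h2, mul_one]
      exact ⟨(hcomm y).2 h3, h1⟩
    · intro hy
      have h3 : y ∈ A ∩ C := by rw [hAC]; exact hy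
      exact ⟨hy.2, h3.2⟩
  have hZ : 2 * Z.ncard = Nat.card F + 5 := by
    have h5 : Z = (A \ (TS PSL(2, F) z w : Set PSL(2, F))) ∪ {1, x} := by
      ext y
      constructor
      · rintro ⟨h6, h7⟩
        have h7 : y * y = 1 := h7
        by_cases h8 : y ∈ TS PSL(2, F) z w
        · right
          have h9 : y ∈ Subgroup.zpowers x :=
            mem_of_pow (M.cyclic_TS hzw) (by rw [Subgroup.zpowers_le]; exact hT) h8
              (n := 2) (by rw [Nat.card_zpowers, hord]) (by rw [sq, h7])
          obtain ⟨k, rfl⟩ := h9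
          rcases zpow_invol hxx k with h10 | h10
          · left; exact h10
          · right; exact h10
        · left; exact ⟨h6, h8⟩
      · rintro (⟨h6, h7⟩ | rfl | rfl)
        · refine ⟨h6, ?_⟩
          rcases h6 with h6 | h6
          · exact absurd h6 h7
          · exact M.swap_sq hzw h6.1 h6.2
        · exact ⟨one_mem (DS PSL(2, F) z w), one_mul 1⟩
        · exact ⟨TS_le_DS _ _ hT, hxx⟩
    have h6 : Disjoint (A \ (TS PSL(2, F) z w : Set PSL(2, F))) {1, x} := by
      rw [Set.disjoint_left]
      rintro y ⟨-, h7⟩ (rfl | rfl)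
      · exact h7 (one_mem _)
      · exact h7 hT
    rw [h5, Set.ncard_union_eq h6 (Set.toFinite _) (Set.toFinite _), Set.ncard_pair hx.symm]
    have h7 : ((TS PSL(2, F) z w : Subgroup PSL(2, F)) : Set PSL(2, F)) ⊆ A :=
      fun y hy => TS_le_DS z w hy
    have h8 := Set.ncard_diff_add_ncard_of_subset h7 (Set.toFinite _)
    have h9 : ((TS PSL(2, F) z w : Subgroup PSL(2, F)) : Set PSL(2, F)).ncard =
      Nat.card (TS PSL(2, F) z w) := rfl
    rw [hA, h9] at h8
    omega
  have hTc : T.ncard = 2 * (Nat.card F + 1) := by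
    have hw1 : WS F ≠ 1 := ne_one_of_trace h20 (by
      rw [Matrix.trace_fin_two]; show (0 : F) + 0 = 0; ring)
    have hw2 : WS F * WS F = 1 := invol_of_trace (by
      rw [Matrix.trace_fin_two]; show (0 : F) + 0 = 0; ring)
    obtain ⟨a, ha⟩ := inv_conj_odd h20 (WS F) x hw1 hw2 hx hxx
    rw [← card_233 hm]
    have : T = (fun y => a * y * a⁻¹) '' {y : PSL(2, F) | y ^ 3 = 1 ∧ (WS F * y) ^ 3 = 1} := by
      ext y
      constructor
      · rintro ⟨h5, h6⟩
        refine ⟨a⁻¹ * y * a, ⟨?_, ?_⟩, by group⟩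
        · have : (a⁻¹ * y * a⁻¹⁻¹) ^ 3 = a⁻¹ * y ^ 3 * a⁻¹⁻¹ := conj_pow
          rw [inv_inv] at this
          rw [this, h5]; group
        · have e : WS F * (a⁻¹ * y * a) = a⁻¹ * (x * y) * a⁻¹⁻¹ := by
            rw [← ha]; group
          rw [e, conj_pow, h6]; group
      · rintro ⟨u, ⟨h5, h6⟩, rfl⟩
        refine ⟨?_, ?_⟩
        · show (a * u * a⁻¹) ^ 3 = 1
          rw [conj_pow, h5]; group
        · show (x * (a * u * a⁻¹)) ^ 3 = 1
          have e : x * (a * u * a⁻¹) = a * (WS F * u) * a⁻¹ := by rw [← ha]; group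
          rw [e, conj_pow, h6]; group
    rw [this, Set.ncard_image_of_injective]
    intro u v huv
    have huv : a * u * a⁻¹ = a * v * a⁻¹ := huv
    exact mul_left_cancel (mul_right_cancel huv)
  have hmain : {y : PSL(2, F) | Sv x y} = ((A ∪ B) ∪ C) ∪ T := by
    ext y
    constructor
    · intro hy
      rcases sv_three (K := K) hn hodd hF hx hy with ⟨a, h1, h2⟩ | ⟨a, b, hab, h1, h2⟩ |
        ⟨L, ⟨e⟩, h1, h2⟩
      · left; left; left
        rcases M.mem_pair hzw hT hx h1 with rfl | rfl
        · have h5 : y ∈ stabilizer PSL(2, F) a := h2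
          rw [← hstz] at h5
          exact TS_le_DS _ _ h5
        · have h5 : y ∈ stabilizer PSL(2, F) a := h2
          rw [← hstw] at h5
          exact TS_le_DS _ _ ⟨h5.2, h5.1⟩
      · left
        rcases h1 with h1 | h1
        · left; left
          rcases M.mem_pair hzw hT hx h1.1 with h3 | h3 <;>
            rcases M.mem_pair hzw hT hx h1.2 with h4 | h4
          · exact absurd (h3.trans h4.symm) hab
          · show y ∈ DS PSL(2, F) z w
            rw [← h3, ← h4]; exact h2
          · show y ∈ DS PSL(2, F) z w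
            rw [← h3, ← h4]
            rw [mem_DS] at h2 ⊢
            tauto
          · exact absurd (h3.trans h4.symm) hab
        · rcases h2 with h2 | h2
          · right
            apply M.swap_sq hab
            · rw [mul_smul, h2.1, h1.1]
            · rw [mul_smul, h2.2, h1.2]
          · left; right
            exact M.swap_sq hab h2.1 h2.2
      · have hex : e ⟨x, h1⟩ ≠ 1 := by
          rw [← map_one e, e.injective.ne_iff]
          exact fun h => hx (congrArg Subtype.val h)
        have hexx : e ⟨x, h1⟩ * e ⟨x, h1⟩ = 1 := by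
          rw [← map_mul, ← map_one e, e.injective.eq_iff]
          exact Subtype.ext hxx
        rcases A4_invol (e ⟨x, h1⟩) (e ⟨y, h2⟩) hex hexx with h3 | h3 | ⟨h3, h4⟩
        · rw [← map_mul, ← map_one e, e.injective.eq_iff] at h3
          left; left; right
          exact congrArg Subtype.val h3
        · rw [← map_mul, ← map_mul, ← map_one e, e.injective.eq_iff] at h3
          left; right
          exact congrArg Subtype.val h3
        · rw [← map_pow, ← map_one e, e.injective.eq_iff] at h3
          rw [← map_mul, ← map_pow, ← map_one e, e.injective.eq_iff] at h4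
          right
          exact ⟨congrArg Subtype.val h3, congrArg Subtype.val h4⟩
    · rintro (((h | h) | h) | h)
      · exact M.sv_of_DS hzw (TS_le_DS z w hT) h
      · exact M.sv_invol hxx h
      · exact sv_mul (M.sv_invol hxx h)
      · exact sv_233 hxx h.1 h.2
  have hdis : Disjoint ((A ∪ B) ∪ C) T := by
    rw [Set.disjoint_right]
    rintro y ⟨h5, h6⟩ ((h7 | h7) | h7)
    · have h8 := (hcomm y).1 h7
      have h9 : (x * y) ^ 3 = x ^ 3 * y ^ 3 := Commute.mul_pow h8.symm 3
      rw [h6, h5, mul_one, pow_succ, sq, hxx, one_mul] at h9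
      exact hx h9.symm
    · have h7 : y * y = 1 := h7
      rw [pow_succ, sq, h7, one_mul] at h5
      rw [h5, mul_one, pow_succ, sq, hxx, one_mul] at h6
      exact hx h6
    · have h7 : (x * y) * (x * y) = 1 := h7
      rw [pow_succ, sq, h7, one_mul] at h6
      have h8 : y = x := by
        calc y = (x * x) * y := by rw [hxx, one_mul]
          _ = x * (x * y) := by group
          _ = x := by rw [h6, mul_one]
      rw [h8, pow_succ, sq, hxx, one_mul] at h5
      exact hx h5
  have h1 : Nat.card {y : PSL(2, F) // Sv x y} = (((A ∪ B) ∪ C) ∪ T).ncard := by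
    rw [← hmain]; rfl
  rw [h1, Set.ncard_union_eq hdis (Set.toFinite _) (Set.toFinite _), hTc]
  have h2 := Set.ncard_union_add_ncard_inter A B (Set.toFinite _) (Set.toFinite _)
  have h3 := Set.ncard_union_add_ncard_inter (A ∪ B) C (Set.toFinite _) (Set.toFinite _)
  have h4 : (A ∪ B) ∩ C = Z := by
    rw [Set.union_inter_distrib_right, hAC, hBC, Set.union_self]
  rw [h4, hC] at h3
  have h5 : A ∩ B = Z := rfl
  rw [h5, hA] at h2
  obtain ⟨k, hk⟩ : ∃ k, Nat.card F = k + 1 := ⟨Nat.card F - 1, by omega⟩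
  have h6 : Nat.card F * (Nat.card F - 1) + 2 * Nat.card F = Nat.card F * (Nat.card F + 1) := by
    rw [hk, Nat.add_sub_cancel]; ring
  omega

theorem sol_order_three [CharP F 3] {n : ℕ} (hn : n.Prime) (hodd : Odd n)
    (hF : Nat.card F = 3 ^ n) {x : PSL(2, F)} (hx : x ≠ 1) (hx3 : x ^ 3 = 1) :
    2 * Nat.card {y : PSL(2, F) // Sv x y} = Nat.card F * (Nat.card F + 5) := by
  have hfin : Finite PSL(2, F) := finite_psl
  have := Fintype.ofFinite F
  let K := AlgebraicClosure F
  have : CharP K 3 := charP_of_injective_algebraMap (algebraMap F K).injective 3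
  have : Fact (Nat.Prime 3) := ⟨Nat.prime_three⟩
  have M := mobS (p := 3) (F := F) (K := K)
  have hFull := fullS (p := 3) (F := F) (K := K)
  have hn2 := hn.two_le
  have hq1 : 1 < Nat.card F := Finite.one_lt_card
  have h20 : (2 : F) ≠ 0 := two_ne_three
  have ho : Odd (Nat.card F) := by rw [hF]; exact Odd.pow (by decide)
  have h34 : Nat.card F % 4 = 3 := by
    rw [hF]
    obtain ⟨k, hk⟩ := hodd
    rw [hk, pow_succ, pow_mul, Nat.mul_mod, Nat.pow_mod]
    norm_num
  have hord : orderOf x = 3 := orderOf_eq_prime hx3 hx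
  have hxx : x * x ≠ 1 := by
    intro h
    have : orderOf x ∣ 2 := orderOf_dvd_of_pow_eq_one (by rw [sq, h])
    rw [hord] at this; omega
  obtain ⟨z0, hz0⟩ := M.exists_fix hx
  have hxU : x ∈ M.U z0 := M.mem_U_of_pow hz0 (k := 1) (by rw [pow_one]; exact hx3)
  have hne : M.U z0 ≠ ⊥ := by
    intro h
    rw [h, Subgroup.mem_bot] at hxU
    exact hx hxU
  obtain ⟨g, hg⟩ := M.exists_smul_eq hFull.1 hne
  have hzo : z0 ∈ orbit PSL(2, F) (pt0 K) := ⟨g, hg⟩
  have hst := card_stab_rat_three hzo
  -- normal form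
  obtain ⟨a, ha⟩ : ∃ a : F, g⁻¹ * x * g = XS a := by
    apply (mem_US_pt0 (p := 3) (K := K)).1
    apply M.mem_U_of_pow (k := 1)
    · rw [mul_smul, mul_smul, hg, hz0, ← hg, inv_smul_smul]
    · rw [pow_one]
      have : (g⁻¹ * x * g⁻¹⁻¹) ^ 3 = g⁻¹ * x ^ 3 * g⁻¹⁻¹ := conj_pow
      rw [inv_inv] at this
      rw [this, hx3]; group
  have ha0 : a ≠ 0 := by
    rintro rfl
    have h1 : XS (0 : F) = 1 := by
      show (QuotientGroup.mk (H81.xx 0) : PSL(2, F)) = 1
      have : H81.xx (0 : F) = 1 := by
        apply Subtype.ext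
        show !![1, (0 : F); 0, 1] = 1
        exact Matrix.one_fin_two.symm
      rw [this]; rfl
    rw [h1] at ha
    apply hx
    calc x = g * (g⁻¹ * x * g) * g⁻¹ := by group
      _ = 1 := by rw [ha]; group
  let A : Set PSL(2, F) := (stabilizer PSL(2, F) z0 : Set PSL(2, F))
  let B : Set PSL(2, F) := {u | u ≠ 1 ∧ u * u = 1 ∧ (x * u) ^ 3 = 1}
  let C : Set PSL(2, F) := {y | x * y ∈ B}
  let D : Set PSL(2, F) := {y | x⁻¹ * y ∈ B}
  have hA : 2 * A.ncard = Nat.card F * (Nat.card F - 1) := hst
  have hB : B.ncard = Nat.card F := by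
    rw [← card_23 ha0, ← ha]
    have : B = (fun y => g * y * g⁻¹) ''
        {u : PSL(2, F) | u ≠ 1 ∧ u * u = 1 ∧ (g⁻¹ * x * g * u) ^ 3 = 1} := by
      ext y
      constructor
      · rintro ⟨h4, h5, h6⟩
        refine ⟨g⁻¹ * y * g, ⟨?_, ?_, ?_⟩, by group⟩
        · intro h
          apply h4
          calc y = g * (g⁻¹ * y * g) * g⁻¹ := by group
            _ = 1 := by rw [h]; group
        · calc g⁻¹ * y * g * (g⁻¹ * y * g) = g⁻¹ * (y * y) * g := by group
            _ = 1 := by rw [h5]; group
        · have e : g⁻¹ * x * g * (g⁻¹ * y * g) = g⁻¹ * (x * y) * g⁻¹⁻¹ := by group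
          rw [e, conj_pow, h6]; group
      · rintro ⟨u, ⟨h4, h5, h6⟩, rfl⟩
        refine ⟨?_, ?_, ?_⟩
        · intro h
          have h : g * u * g⁻¹ = 1 := h
          apply h4
          calc u = g⁻¹ * (g * u * g⁻¹) * g := by group
            _ = 1 := by rw [h]; group
        · show g * u * g⁻¹ * (g * u * g⁻¹) = 1
          calc g * u * g⁻¹ * (g * u * g⁻¹) = g * (u * u) * g⁻¹ := by group
            _ = 1 := by rw [h5]; group
        · show (x * (g * u * g⁻¹)) ^ 3 = 1
          have e : x * (g * u * g⁻¹) = g * (g⁻¹ * x * g * u) * g⁻¹ := by group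
          rw [e, conj_pow, h6]; group
    rw [this, Set.ncard_image_of_injective]
    intro u v huv
    have huv : g * u * g⁻¹ = g * v * g⁻¹ := huv
    exact mul_left_cancel (mul_right_cancel huv)
  have hC : C.ncard = Nat.card F := by
    rw [← hB]
    have : B = (fun y => x * y) '' C := by
      ext y
      constructor
      · intro hy
        refine ⟨x⁻¹ * y, ?_, ?_⟩
        · show x * (x⁻¹ * y) ∈ B
          rw [mul_inv_cancel_left]; exact hy
        · exact mul_inv_cancel_left x y
      · rintro ⟨u, hu, rfl⟩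
        exact hu
    rw [this, Set.ncard_image_of_injective _ (mul_right_injective x)]
  have hD : D.ncard = Nat.card F := by
    rw [← hB]
    have : B = (fun y => x⁻¹ * y) '' D := by
      ext y
      constructor
      · intro hy
        refine ⟨x * y, ?_, ?_⟩
        · show x⁻¹ * (x * y) ∈ B
          rw [inv_mul_cancel_left]; exact hy
        · exact inv_mul_cancel_left x y
      · rintro ⟨u, hu, rfl⟩
        exact hu
    rw [this, Set.ncard_image_of_injective _ (mul_right_injective x⁻¹)]
  have hxA : x ∈ stabilizer PSL(2, F) z0 := hz0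
  have hBA : ∀ u ∈ B, u ∉ stabilizer PSL(2, F) z0 := by
    rintro u ⟨h4, h5, -⟩ h6
    have h7 : orderOf u = 2 := orderOf_eq_prime (by rw [sq, h5]) h4
    have h8 := Subgroup.orderOf_dvd_natCard _ h6
    rw [h7] at h8
    obtain ⟨j, hj⟩ := h8
    rw [hj] at hst
    have h9 : (2 * 2) ∣ Nat.card F * (Nat.card F - 1) := ⟨j, by rw [← hst]; ring⟩
    have h10 : Nat.Coprime (2 ^ 2) (Nat.card F) := by
      apply Nat.Coprime.pow_left
      rw [Nat.Prime.coprime_iff_not_dvd Nat.prime_two]
      omega
    have h11 : 2 ^ 2 ∣ Nat.card F - 1 := h10.dvd_of_dvd_mul_left h9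
    omega
  have hB3 : ∀ u ∈ B, (x⁻¹ * u) ^ 3 = 1 := by
    rintro u ⟨h4, h5, h6⟩
    have h7 : u⁻¹ = u := inv_eq_of_mul_eq_one_left h5
    have e : x⁻¹ * u = (u * (x * u) * u⁻¹)⁻¹ := by
      calc x⁻¹ * u = (u⁻¹ * x)⁻¹ := by group
        _ = (u * x)⁻¹ := by rw [h7]
        _ = (u * (x * u) * u⁻¹)⁻¹ := by group
    rw [e, inv_pow, conj_pow, h6]; group
  have h3B : ∀ u ∈ B, u ^ 3 ≠ 1 := by
    rintro u ⟨h4, h5, -⟩ h6
    rw [pow_succ, sq, h5, one_mul] at h6
    exact h4 h6
  have hxi : x * x = x⁻¹ := by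
    rw [eq_inv_iff_mul_eq_one, ← hx3, pow_succ, sq]
  have hAB : Disjoint A B := by
    rw [Set.disjoint_right]
    intro u hu h
    exact hBA u hu h
  have hABC : Disjoint (A ∪ B) C := by
    rw [Set.disjoint_right]
    rintro y hy (h | h)
    · exact hBA _ hy ((stabilizer PSL(2, F) z0).mul_mem hxA h)
    · have h4 := hB3 _ hy
      rw [inv_mul_cancel_left] at h4
      exact h3B y h h4
  have hABCD : Disjoint ((A ∪ B) ∪ C) D := by
    rw [Set.disjoint_right]
    rintro y hy ((h | h) | h)
    · exact hBA _ hy ((stabilizer PSL(2, F) z0).mul_mem (inv_mem hxA) h)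
    · have h4 := hy.2.2
      rw [mul_inv_cancel_left] at h4
      exact h3B y h h4
    · have h4 := hB3 _ hy
      have h5 : x⁻¹ * (x⁻¹ * y) = x * y := by
        rw [← hxi]
        calc x * x * (x * x * y) = (x ^ 3) * (x * y) := by rw [pow_succ, sq]; group
          _ = x * y := by rw [hx3, one_mul]
      rw [h5] at h4
      exact h3B _ h h4
  have hmain : {y : PSL(2, F) | Sv x y} = ((A ∪ B) ∪ C) ∪ D := by
    ext y
    constructor
    · intro hy
      rcases sv_three (K := K) hn hodd hF hx hy with ⟨a, h1, h2⟩ | ⟨a, b, hab, h1, h2⟩ |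
        ⟨L, ⟨e⟩, h1, h2⟩
      · have : a = z0 := M.eq_of_mem_U hxU hx h1
        subst this
        exact Or.inl (Or.inl (Or.inl h2))
      · exfalso
        rcases h1 with h1 | h1
        · exact hab ((M.eq_of_mem_U hxU hx h1.1).trans (M.eq_of_mem_U hxU hx h1.2).symm)
        · exact hxx (M.swap_sq hab h1.1 h1.2)
      · have hex : e ⟨x, h1⟩ ≠ 1 := by
          rw [← map_one e, e.injective.ne_iff]
          exact fun h => hx (congrArg Subtype.val h)
        have hex3 : e ⟨x, h1⟩ ^ 3 = 1 := by
          rw [← map_pow, ← map_one e, e.injective.eq_iff]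
          exact Subtype.ext hx3
        rcases A4_three (e ⟨x, h1⟩) (e ⟨y, h2⟩) hex hex3 with h3 | h3 | h3 | ⟨h3, h4, h5⟩ |
          ⟨h3, h4, h5⟩ | ⟨h3, h4, h5⟩
        · rw [← map_one e, e.injective.eq_iff] at h3
          have h3 : y = 1 := congrArg Subtype.val h3
          left; left; left
          rw [h3]
          exact one_mem (stabilizer PSL(2, F) z0)
        · rw [e.injective.eq_iff] at h3
          have h3 : y = x := congrArg Subtype.val h3
          left; left; left
          rw [h3]; exact hxA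
        · rw [← map_inv, e.injective.eq_iff] at h3
          have h3 : y = x⁻¹ := congrArg Subtype.val h3
          left; left; left
          rw [h3]; exact inv_mem hxA
        · rw [← map_one e, e.injective.ne_iff] at h3
          rw [← map_mul, ← map_one e, e.injective.eq_iff] at h4
          rw [← map_mul, ← map_pow, ← map_one e, e.injective.eq_iff] at h5
          left; left; right
          exact ⟨fun h => h3 (Subtype.ext h), congrArg Subtype.val h4, congrArg Subtype.val h5⟩
        · rw [← map_mul, ← map_one e, e.injective.ne_iff] at h3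
          rw [← map_mul, ← map_mul, ← map_one e, e.injective.eq_iff] at h4
          rw [← map_mul, ← map_mul, ← map_pow, ← map_one e, e.injective.eq_iff] at h5
          left; right
          exact ⟨fun h => h3 (Subtype.ext h), congrArg Subtype.val h4, congrArg Subtype.val h5⟩
        · rw [← map_inv, ← map_mul, ← map_one e, e.injective.ne_iff] at h3
          rw [← map_inv, ← map_mul, ← map_mul, ← map_one e, e.injective.eq_iff] at h4
          rw [← map_inv, ← map_mul, ← map_mul, ← map_pow, ← map_one e, e.injective.eq_iff] at h5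
          right
          exact ⟨fun h => h3 (Subtype.ext h), congrArg Subtype.val h4, congrArg Subtype.val h5⟩
    · have key : ∀ u ∈ B, Sv x u := by
        rintro u ⟨h4, h5, h6⟩
        have h7 : Sv u x := sv_233 h5 hx3 (by
          have e : u * x = u * (x * u) * u⁻¹ := by group
          rw [e, conj_pow, h6]; group)
        have e : ({x, u} : Set PSL(2, F)) = {u, x} := Set.pair_comm x u
        show Group.IsSolvable (Subgroup.closure ({x, u} : Set PSL(2, F)))
        rw [e]; exact h7
      rintro (((h | h) | h) | h)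
      · exact M.sv_of_fix hz0 h
      · exact key y h
      · exact sv_mul (key _ h)
      · have h4 := key _ h
        refine sv_of_le h4 (Subgroup.subset_closure (by simp)) ?_
        have h5 : x * (x⁻¹ * y) ∈ Subgroup.closure ({x, x⁻¹ * y} : Set PSL(2, F)) :=
          mul_mem (Subgroup.subset_closure (by simp)) (Subgroup.subset_closure (by simp))
        rwa [mul_inv_cancel_left] at h5
  have h1 : Nat.card {y : PSL(2, F) // Sv x y} = (((A ∪ B) ∪ C) ∪ D).ncard := by
    rw [← hmain]; rfl
  rw [h1, Set.ncard_union_eq hABCD (Set.toFinite _) (Set.toFinite _),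
    Set.ncard_union_eq hABC (Set.toFinite _) (Set.toFinite _),
    Set.ncard_union_eq hAB (Set.toFinite _) (Set.toFinite _), hB, hC, hD]
  obtain ⟨k, hk⟩ : ∃ k, Nat.card F = k + 1 := ⟨Nat.card F - 1, by omega⟩
  have h6 : Nat.card F * (Nat.card F - 1) + 6 * Nat.card F = Nat.card F * (Nat.card F + 5) := by
    rw [hk, Nat.add_sub_cancel]; ring
  omega

end main

end Cfsg.Agent.Dk
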